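import Cfsg.Agent.PF.S14b

/-! The Feit-Thompson theorem. -/

set_option autoImplicit false

namespace Cfsg.Agent.PF

universe u

/-- a finite group of odd order is solvable -/
theorem feit_thompson {G : Type u} [Group G] [Finite G] (hG : Odd (Nat.card G)) :
    Group.IsSolvable G := by
  induction h : Nat.card G using Nat.strong_induction_on generalizing G with
  | _ n ih =>
  subst h
  have a : ∀ H : Subgroup G, H ≠ ⊤ → Group.IsSolvable H := fun H i =>
    ih _ (lt_of_le_of_ne (Nat.card_le_card_of_injective _ H.subtype_injective)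
      fun j => i (H.eq_top_of_card_eq j)) (hG.of_dvd_nat H.card_subgroup_dvd_card) rfl
  by_contra b
  have : Nontrivial G := by
    by_contra c
    rw [not_nontrivial_iff_subsingleton] at c
    exact b inferInstance
  refine not_minSimpleOdd (G := G) ⟨hG, ⟨fun N c => ?_⟩, fun c =>
    b (Group.isSolvable_of_comm c.is_comm.comm), a⟩
  by_contra! d
  have := a N d.2
  have : Group.IsSolvable (G ⧸ N) := ih _ (by
    rw [← N.index_mul_card]
    exact (Nat.lt_mul_iff_one_lt_right N.index_ne_zero_of_finite.bot_lt).2
      (N.one_lt_card_iff_ne_bot.2 d.1)) (hG.of_dvd_nat N.card_quotient_dvd_card) rfl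
  exact b (Group.isSolvable_of_ker_le_range N.subtype (QuotientGroup.mk' N) (by simp))

theorem feit_thompson' {G : Type u} [Group G] [Finite G] (H : Subgroup G)
    (hH : Odd (Nat.card H)) : Group.IsSolvable H := feit_thompson hH

theorem even_of_not_solvable {G : Type u} [Group G] [Finite G] (h : ¬ Group.IsSolvable G) :
    Even (Nat.card G) := Nat.not_odd_iff_even.1 fun i => h (feit_thompson i)

theorem even_of_simple {G : Type u} [Group G] [Finite G] [IsSimpleGroup G]
    (h : ¬ ∀ a b : G, a * b = b * a) : Even (Nat.card G) :=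
  even_of_not_solvable fun i => h (IsSimpleGroup.comm_iff_isSolvable.2 i)

end Cfsg.Agent.PF
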