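import Cfsg.Agent.PF.S07
import Cfsg.Agent.Core.ThompsonFPF
import Cfsg.Agent.Char.Sibley

/-! Peterfalvi (7.10), (7.11). -/

set_option autoImplicit false

namespace Cfsg.Agent.PF

open Cfsg Cfsg.Agent.Char Subgroup
open scoped ComplexConjugate

variable {G : Type*} [Group G] [Fintype G]

open Classical in
/-- Peterfalvi (7.10), abstract form. -/
theorem coherent_bound (hodd : Odd (Nat.card G)) {ι : Type*} [Fintype ι] [Nonempty ι]
    {A : ι → Set G} {L : ι → Subgroup G} [∀ i, Fintype (L i)] {R : ι → G → Subgroup G}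
    {K : ∀ i, Subgroup (L i)} {ν : ∀ i, CMap (L i) G} (h : ∀ i, Ind1 (A i) (L i) (R i) (K i) (ν i))
    (hd : ∀ i j, i ≠ j → Disjoint (dadeSupp (A i) (R i)) (dadeSupp (A j) (R j)))
    (hirr : ∀ i, ∀ φ ∈ inducedIrrAbove (K i) ⊥, IsIrrCharacter (L i) φ)
    (hζ : ∀ i, ∃ ζ ∈ inducedIrrAbove (K i) ⊥, ζ 1 = (K i).index)
    (he : ∀ i, 2 * (K i).index + 1 ≤ Nat.card (K i))
    (hne : ∀ i j, i ≠ j → Nat.card (K i) ≠ Nat.card (K j)) :
    ∃ i, (((K i).index : ℝ) - 1) * ((Nat.card (K i) - 2 * (K i).index - 1) /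
        ((K i).index * Nat.card (K i)) + 2 / (Nat.card (K i) * (Nat.card (K i) + 2))) ≤
      ((Finset.univ.filter (fun g => ∀ i, g ∉ dadeSupp (A i) (R i))).card - 1) / Nat.card G := by
  choose ζ hζ h1 using hζ
  obtain ⟨i, -, hi⟩ := Finset.exists_min_image Finset.univ (fun i => Nat.card (K i)) Finset.univ_nonempty
  refine ⟨i, ?_⟩
  have hoK : ∀ j, Odd (Nat.card (K j)) := fun j =>
    (Ind1.odd_sub hodd (L j)).of_dvd_nat (card_subgroup_dvd_card _)
  have hgap : ∀ j, j ≠ i → (Nat.card (K i) : ℝ) + 2 ≤ Nat.card (K j) := by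
    intro j hj
    have a1 := hi j (Finset.mem_univ _)
    have a2 := hne j i hj
    obtain ⟨u, hu⟩ := hoK i
    obtain ⟨v, hv⟩ := hoK j
    have : Nat.card (K i) + 2 ≤ Nat.card (K j) := by omega
    exact_mod_cast this
  set χ := ν i (ζ i) with hχ
  have hχd : IsDirr χ := (h i).isDirr (hζ i) (hirr i _ (hζ i))
  have ho : ∀ j k, j ≠ k → ∀ φ ∈ inducedIrrAbove (K j) ⊥, ∀ ψ ∈ inducedIrrAbove (K k) ⊥,
      classInner (ν j φ) (ν k ψ) = 0 := fun j k hjk φ hφ ψ hψ =>
    (h j).orth_of_disjoint (h k) hodd (hd j k hjk) hφ (hirr j _ hφ) hψ (hirr k _ hψ)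
  set β : ι → G → ℂ := fun j => dade (A j) (L j) (R j) (indFun (K j) (fun _ => 1) - ζ j) with hβ
  set B := Finset.univ.filter (fun j => j ≠ i ∧ classInner χ (β j) = 0) with hB
  obtain ⟨a, Γ, g1, g2, -, -, e, -, g3⟩ := (h i).exists_gamma (hζ i) (hirr i _ (hζ i)) (h1 i)
    ((h i).exists_ne (Ind1.odd_sub hodd _) (hζ i))
  have g3 := g3 (he i)
  have hpe : ∀ j, (0 : ℝ) < (K j).index := fun j => by
    exact_mod_cast Nat.pos_of_ne_zero (K j).index_ne_zero_of_finite
  have hph : ∀ j, (2 * (K j).index + 1 : ℝ) ≤ Nat.card (K j) := fun j => by exact_mod_cast he j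
  have hB1 : ∑ j ∈ B, ((Nat.card (K j) : ℝ) - 1) / (K j).index ≤ nrm Γ := by
    refine le_trans (Finset.sum_le_sum fun j hj => ?_)
      (bessel (s := B) (e := fun j => Ind1.sumNu (K j) (ν j)) (fun j _ k _ hjk => ?_) Γ)
    · obtain ⟨hji, hj0⟩ := (Finset.mem_filter.1 hj).2
      have hx : classInner (β i) (ν j (ζ j)) ≠ 0 := by
        rcases (h i).nonorth (h j) hodd (hd i j hji.symm) (hζ i) (hirr i _ (hζ i)) (h1 i) (hζ j)
          (hirr j _ (hζ j)) (h1 j) with h2 | h2
        · exact h2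
        · exact (h2 (classInner_eq_zero_comm.1 hj0)).elim
      obtain ⟨x, hx'⟩ := ((h i).beta_gen (hζ i) (h1 i)).classInner_int ((h j).iso.gen _ (hζ j))
      have hx1 : (1 : ℝ) ≤ (x : ℝ) ^ 2 := by
        have : x ≠ 0 := by rintro rfl; exact hx (hx'.trans Int.cast_zero)
        exact_mod_cast (one_le_sq_iff_one_le_abs x).2 (Int.one_le_abs this)
      have h3 : classInner (Γ - (x : ℂ) • Ind1.sumNu (K j) (ν j)) (Ind1.sumNu (K j) (ν j)) = 0 := by
        apply Ind1.inner_sumNu_of_orth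
        intro φ hφ
        have h4 := (h j).inner_of_orth (hζ j) (h1 j) hφ (β i)
        rw [classInner_dade_disjoint (hd i j hji.symm), hx'] at h4
        simp only [hβ] at h4
        rw [e, classInner_add_left, classInner_add_left, classInner_sub_left, classInner_smul_left,
          classInner_eq_zero_comm.1 ((h j).orth_one (hζ j) (hirr j _ (hζ j))
            ((h j).exists_ne (Ind1.odd_sub hodd _) (hζ j)) hφ), ho i j hji.symm _ (hζ i) _ hφ,
          classInner_eq_zero_comm.1 (Ind1.inner_sumNu_of_orth fun ψ hψ => ho j i hji _ hφ _ hψ)] at h4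
        rw [classInner_sub_left, classInner_smul_left, (h j).inner_sumNu hφ]
        linear_combination h4
      rw [classInner_sub_left, classInner_smul_left, classInner_self_nrm, sub_eq_zero] at h3
      rw [h3, (h j).nrm_sumNu]
      have hp : (0 : ℝ) < ((Nat.card (K j) : ℝ) - 1) / (K j).index :=
        div_pos (by linarith [hph j, hpe j]) (hpe j)
      rw [norm_mul, Complex.norm_intCast, Complex.norm_real, Real.norm_eq_abs, abs_of_pos hp, mul_pow,
        sq_abs, le_div_iff₀ hp]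
      nlinarith
    · apply Ind1.inner_sumNu_of_orth
      intro φ hφ
      exact classInner_eq_zero_comm.1 (Ind1.inner_sumNu_of_orth fun ψ hψ => ho k j hjk.symm _ hφ _ hψ)
  have hcov := cover_ineq Finset.univ (fun j _ => (h j).hyp) (fun j _ k _ => hd j k)
    hχd.isClassFunction hχd.nrm_eq
  simp only [Finset.mem_univ, forall_true_left] at hcov
  have hG : (0 : ℝ) < Nat.card G := by exact_mod_cast Nat.card_pos
  have c1 : (1 : ℝ) ≤ ∑ g ∈ Finset.univ.filter (fun g => ∀ i, g ∉ dadeSupp (A i) (R i)), ‖χ g‖ ^ 2 := by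
    refine le_trans ?_ (Finset.single_le_sum (f := fun g => ‖χ g‖ ^ 2) (fun _ _ => by positivity)
      (a := 1) (by simpa using fun j => (h j).hyp.one_notMem_supp))
    obtain ⟨n, hn⟩ := hχd.isGen.exists_int
    have : n ≠ 0 := by rintro rfl; exact hχd.one_ne_zero (by simpa using hn)
    simp only [hn, Complex.norm_intCast, sq_abs]
    exact_mod_cast (one_le_sq_iff_one_le_abs n).2 (Int.one_le_abs this)
  have c2 : ∀ j ∈ Finset.univ.erase i,
      -(if j ∈ B then ((Nat.card (K j) : ℝ) - 1) / (K j).index / (Nat.card (K i) + 2) else 0) ≤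
      nrm (invDade (A j) (L j) (R j) χ) - ((A j).ncard : ℝ) / Nat.card (L j) := by
    intro j hj
    have hji := Finset.ne_of_mem_erase hj
    rw [((h j).invDade_of_orth (hζ j) (h1 j) hχd.isClassFunction
      (fun φ hφ => ho i j hji.symm _ (hζ i) _ hφ)).2]
    split_ifs with hjB
    · have := (Finset.mem_filter.1 hjB).2.2
      simp only [hβ] at this
      rw [this, (h j).ncard_div, norm_zero, ← div_div]
      have h5 : (0 : ℝ) ≤ ((Nat.card (K j) : ℝ) - 1) / (K j).index :=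
        div_nonneg (by linarith [hph j, hpe j]) (hpe j).le
      have := div_le_div_of_nonneg_left h5 (by positivity) (hgap j hji)
      linarith
    · obtain ⟨x, hx⟩ := hχd.isGen.classInner_int ((h j).beta_gen (hζ j) (h1 j))
      have : x ≠ 0 := by
        rintro rfl
        exact hjB (Finset.mem_filter.2 ⟨Finset.mem_univ _, hji, hx.trans Int.cast_zero⟩)
      have hx1 : (1 : ℝ) ≤ (x : ℝ) ^ 2 := by
        exact_mod_cast (one_le_sq_iff_one_le_abs x).2 (Int.one_le_abs this)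
      rw [hx, Complex.norm_intCast, sq_abs]
      have : (0 : ℝ) ≤ ((A j).ncard : ℝ) / Nat.card (L j) := by positivity
      nlinarith
  have c3 := Finset.sum_le_sum c2
  rw [Finset.sum_neg_distrib, ← Finset.sum_filter, show (Finset.univ.erase i).filter (· ∈ B) = B by
    ext j; simp [hB], ← Finset.sum_div] at c3
  rw [← Finset.add_sum_erase _ _ (Finset.mem_univ i)] at hcov
  have c4 := (h i).le_nrm_invDade (hζ i) (hirr i _ (hζ i)) (h1 i) (he i)
  rw [(h i).ncard_div] at hcov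
  have hh : (0 : ℝ) < Nat.card (K i) := by linarith [hph i, hpe i]
  have c5 := div_le_div_of_nonneg_right (hB1.trans g3) (c := (Nat.card (K i) : ℝ) + 2) (by positivity)
  have c6 : (((K i).index : ℝ) - 1) * ((Nat.card (K i) - 2 * (K i).index - 1) /
        ((K i).index * Nat.card (K i)) + 2 / (Nat.card (K i) * (Nat.card (K i) + 2))) =
      1 - ((K i).index : ℝ) / Nat.card (K i) - (Nat.card (K i) - 1) / ((K i).index * Nat.card (K i)) -
        (((K i).index : ℝ) - 1) / (Nat.card (K i) + 2) := by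
    have := hpe i
    field_simp; ring
  rw [c6, div_eq_inv_mul _ (Nat.card G : ℝ)]
  have c7 := mul_le_mul_of_nonneg_left c1 (inv_pos.2 hG).le
  rw [← hχ] at c4
  rw [mul_sub] at hcov ⊢
  linarith

omit [Fintype G] in
/-- A Frobenius kernel has a complement acting fixed-point-freely and is nilpotent. -/
theorem exists_compl_of_frob [Finite G] {L H : Subgroup G} (hHL : H < L)
    (hHn : ∀ x ∈ L, ∀ h ∈ H, x * h * x⁻¹ ∈ H)
    (hfrob : ∀ h ∈ H, h ≠ 1 → L ⊓ centralizer ({h} : Set G) ≤ H) :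
    ∃ W, W ≤ L ∧ W ≠ ⊥ ∧ H ⊓ W = ⊥ ∧ H ⊔ W = L ∧ (∀ w ∈ W, w ≠ 1 → ∀ h ∈ H, w * h = h * w → h = 1) ∧
      Group.IsNilpotent H := by
  haveI : (H.subgroupOf L).Normal := ⟨fun n hn g => hHn g g.2 n hn⟩
  have hN : L ≤ normalizer (H : Set G) := (normal_subgroupOf_iff_le_normalizer hHL.le).1 this
  have h1 := card_modEq_one_of_centralizer_le (D := H.subgroupOf L) (centralizer_le_subgroupOf hfrob)
  rw [Core.card_subgroupOf_of_le hHL.le] at h1
  obtain ⟨W, a1, a2, a3, -⟩ := Core.exists_complement_in hHL.le hN (coprime_of_modEq_one h1)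
  have hW : W ≠ ⊥ := by rintro rfl; rw [bot_sup_eq] at a2; exact hHL.ne a2
  have hf : ∀ w ∈ W, w ≠ 1 → ∀ h ∈ H, w * h = h * w → h = 1 := by
    intro w hw hw1 h hh e
    by_contra h1
    have : w ∈ W ⊓ H := ⟨hw, hfrob h hh h1 ⟨a1 hw, mem_cent1.2 e⟩⟩
    rw [a3] at this
    exact hw1 (mem_bot.1 this)
  refine ⟨W, a1, hW, by rw [inf_comm, a3], by rw [sup_comm, a2], hf, ?_⟩
  refine Core.isNilpotent_of_fpf (a1.trans hN) hW fun a ha ha1 => eq_bot_iff.2 fun h hh => ?_
  exact mem_bot.2 (hf a ha ha1 h hh.1 (mem_cent1.1 hh.2).symm)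

/-- Peterfalvi (7.11), given the coherence (6.8). -/
theorem no_frobenius_partition_of_coh (hodd : Odd (Nat.card G)) {ι : Type*} [Fintype ι] [Nonempty ι]
    (L H : ι → Subgroup G) [∀ i, Fintype (L i)] (hHL : ∀ i, H i < L i) (hH1 : ∀ i, H i ≠ ⊥)
    (hHn : ∀ i, ∀ x ∈ L i, ∀ h ∈ H i, x * h * x⁻¹ ∈ H i)
    (hfrob : ∀ i, ∀ h ∈ H i, h ≠ 1 → L i ⊓ centralizer ({h} : Set G) ≤ H i)
    (hcop : ∀ i j, i ≠ j → Nat.Coprime (Nat.card (H i)) (Nat.card (H j)))
    (hTI : ∀ i g, ∀ a ∈ H i, a ≠ 1 → g * a * g⁻¹ ∈ H i → g ∈ L i)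
    (hsol : ∀ i, Group.IsSolvable (H i))
    (hcoh : ∀ i, Coh (inducedIrrAbove ((H i).subgroupOf (L i)) ⊥) (indLin (L i)))
    (hcover : ∀ g : G, g ≠ 1 → ∃ i, ∃ x : G, x * g * x⁻¹ ∈ H i) : False := by
  classical
  choose ν hν using hcoh
  have hn : ∀ i, ((H i).subgroupOf (L i)).Normal := fun i =>
    ⟨fun n hn g => hHn i g g.2 n hn⟩
  have hc : ∀ i, Nat.card ((H i).subgroupOf (L i)) = Nat.card (H i) := fun i =>
    Core.card_subgroupOf_of_le (hHL i).le
  have hD : ∀ i, Dade1 {x | x ∈ H i ∧ x ≠ 1} (L i) (fun _ => ⊥) ((H i).subgroupOf (L i)) := fun i =>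
    { hyp := dadeHypothesis_of_TI (by simp) (fun g a ha hg => hTI i g a ha.1 ha.2 hg.1)
        (fun x hx a ha => ⟨hHn i x hx a ha.1, by simpa using ha.2⟩)
      normal := hn i
      mem := fun x => by simp [mem_subgroupOf] }
  have hI : ∀ i, Ind1 {x | x ∈ H i ∧ x ≠ 1} (L i) (fun _ => ⊥) ((H i).subgroupOf (L i)) (ν i) :=
    fun i => (hD i).ind1 (hν i) fun α h1 h2 =>
      ((hD i).hyp.dade_eq_indFun h1 h2 fun _ _ _ => rfl).symm
  have hC := fun i => centralizer_le_subgroupOf (hfrob i)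
  have hbig : ∀ i, 1 < Nat.card (H i) := fun i => (one_lt_card_iff_ne_bot _).2 (hH1 i)
  have he : ∀ i, 2 * ((H i).subgroupOf (L i)).index + 1 ≤ Nat.card ((H i).subgroupOf (L i)) := by
    intro i
    haveI := hn i
    have o := Ind1.odd_sub hodd (L i)
    exact le_of_modEq_one_of_odd (card_modEq_one_of_centralizer_le (hC i)) (by rw [hc]; exact hbig i)
      (o.of_dvd_nat (card_subgroup_dvd_card _)) (o.of_dvd_nat (index_dvd_card _))
  have key := coherent_bound hodd hI (fun i j hij => ?_)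
    (fun i φ hφ => haveI := hn i; isIrr_of_mem_inducedIrrAbove (hC i) hφ) (fun i => ?_) he
    (fun i j hij e => ?_)
  · obtain ⟨i, hi⟩ := key
    have : Finset.univ.filter (fun g => ∀ i, g ∉ dadeSupp {x | x ∈ H i ∧ x ≠ 1} fun _ => ⊥) = {1} := by
      ext g
      simp only [Finset.mem_filter, Finset.mem_univ, true_and, Finset.mem_singleton]
      refine ⟨fun h => by_contra fun hg => ?_, fun e j => e ▸ (hD j).hyp.one_notMem_supp⟩
      obtain ⟨j, x, hx⟩ := hcover g hg
      exact h j ⟨_, ⟨hx, by simpa using hg⟩, 1, one_mem _, x, by simp⟩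
    rw [this] at hi
    simp only [Finset.card_singleton, Nat.cast_one, sub_self, zero_div] at hi
    have h1 : 1 < ((H i).subgroupOf (L i)).index := one_lt_relIndex (hHL i).not_ge
    have h1' : (1 : ℝ) < ((H i).subgroupOf (L i)).index := by exact_mod_cast h1
    have h2 : (2 * ((H i).subgroupOf (L i)).index + 1 : ℝ) ≤ Nat.card ((H i).subgroupOf (L i)) := by
      exact_mod_cast he i
    refine absurd hi (not_le.2 (mul_pos (by linarith) (add_pos_of_nonneg_of_pos
      (div_nonneg (by linarith) (by positivity)) ?_)))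
    have : (0 : ℝ) < Nat.card ((H i).subgroupOf (L i)) := by linarith
    positivity
  · rw [Set.disjoint_left]
    rintro g ⟨a, ha, u, hu, x, e⟩ ⟨b, hb, v, hv, y, e'⟩
    rw [mem_bot.1 hu, mul_one] at e
    rw [mem_bot.1 hv, mul_one] at e'
    have h1 : orderOf g ∣ Nat.card (H i) := by
      have := (H i).orderOf_dvd_natCard ha.1
      rwa [← e, ← MulAut.conj_apply, MulEquiv.orderOf_eq] at this
    have h2 : orderOf g ∣ Nat.card (H j) := by
      have := (H j).orderOf_dvd_natCard hb.1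
      rwa [← e', ← MulAut.conj_apply, MulEquiv.orderOf_eq] at this
    have := orderOf_eq_one_iff.1 (Nat.eq_one_of_dvd_coprimes (hcop i j hij) h1 h2)
    exact ha.2 (by rw [← e, this]; simp)
  · haveI := hn i
    have := hsol i
    refine exists_mem_inducedIrrAbove_of_not_le (not_le_commutator_sup_of_solvable
      (solvable_of_surjective (f := (subgroupOfEquivOfLe (hHL i).le).symm.toMonoidHom)
        (subgroupOfEquivOfLe (hHL i).le).symm.surjective) fun hle => ?_)
    have := hc i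
    rw [le_bot_iff.1 hle, card_bot] at this
    have := hbig i
    omega
  · have := hcop i j hij
    rw [← hc i, ← hc j, ← e, Nat.coprime_self, hc i] at this
    have := hbig i
    omega

omit [Fintype G] in
/-- Peterfalvi (7.11). -/
theorem no_frobenius_partition [Finite G] (hodd : Odd (Nat.card G)) {ι : Type*} [Finite ι] [Nonempty ι]
    (L H : ι → Subgroup G) (hHL : ∀ i, H i < L i) (hH1 : ∀ i, H i ≠ ⊥)
    (hHn : ∀ i, ∀ x ∈ L i, ∀ h ∈ H i, x * h * x⁻¹ ∈ H i)
    (hfrob : ∀ i, ∀ h ∈ H i, h ≠ 1 → L i ⊓ centralizer ({h} : Set G) ≤ H i)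
    (hcop : ∀ i j, i ≠ j → Nat.Coprime (Nat.card (H i)) (Nat.card (H j)))
    (hTI : ∀ i g, ∀ a ∈ H i, a ≠ 1 → g * a * g⁻¹ ∈ H i → g ∈ L i)
    (hcover : ∀ g : G, g ≠ 1 → ∃ i, ∃ x : G, x * g * x⁻¹ ∈ H i) : False := by
  letI := Fintype.ofFinite G
  letI := Fintype.ofFinite ι
  letI : ∀ i, Fintype (L i) := fun i => Fintype.ofFinite _
  have hn : ∀ i, Group.IsNilpotent (H i) := fun i => by
    obtain ⟨W, -, -, -, -, -, h⟩ := exists_compl_of_frob (hHL i) (hHn i) (hfrob i); exact h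
  refine no_frobenius_partition_of_coh hodd L H hHL hH1 hHn hfrob hcop hTI
    (fun i => haveI := hn i; inferInstance) (fun i => ?_) hcover
  haveI : ((H i).subgroupOf (L i)).Normal := ⟨fun n hn g => hHn i g g.2 n hn⟩
  haveI := hn i
  refine sibley_frobenius (fun _ _ _ _ => rfl) (Ind1.odd_sub hodd _) (fun g hg x hx y hy e => ?_)
    (Group.nilpotent_of_mulEquiv (subgroupOfEquivOfLe (hHL i).le).symm)
    (centralizer_le_subgroupOf (hfrob i))
  by_contra h1
  exact hg (hTI i g x hx (fun e => h1 (Subtype.ext e)) (e ▸ hy))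

end Cfsg.Agent.PF
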