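import Cfsg.Agent.PF.S08
import Cfsg.Agent.Char.Sibley
import Cfsg.Agent.PF.S07b

/-!
Character theoretic set-up for Peterfalvi, sections 9 - 14: the Dade isometry `tau M`, its adjoint
`rho M`, and the canonical characters `h.η`, `h.μ`, `h.δ`, `h.μR` of a maximal subgroup of type P.
-/

set_option autoImplicit false
set_option linter.unusedSectionVars false

namespace Cfsg.Agent.PF

open Cfsg Cfsg.Agent.Char Cfsg.Agent.BG Subgroup
open scoped ComplexConjugate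

/-- the canonical `Fintype` structure of the subgroups of a finite group -/
noncomputable scoped instance (priority := high) subFintype {G : Type*} [Group G] [Finite G]
    (H : Subgroup G) : Fintype H := Fintype.ofFinite H

/-- `H ⇂ M` is `H ∩ M` as a subgroup of `↥M` -/
scoped infixl:72 " ⇂ " => Subgroup.subgroupOf

section Sub

variable {G : Type*} [Group G] {M H K N : Subgroup G}

theorem sub_normal (h : M ≤ N[H]) : (H ⇂ M).Normal := normal_subgroupOf_of_le_normalizer h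
theorem mem_sub {x : M} : x ∈ H ⇂ M ↔ (x : G) ∈ H := Iff.rfl
theorem sub_mono (h : H ≤ K) : H ⇂ M ≤ K ⇂ M := fun _ hx => h hx
theorem sub_le_iff (h : H ≤ M) : H ⇂ M ≤ K ⇂ M ↔ H ≤ K :=
  ⟨fun e x hx => @e ⟨x, h hx⟩ hx, sub_mono⟩
theorem sub_inj (h : H ≤ M) (h' : K ≤ M) : H ⇂ M = K ⇂ M ↔ H = K :=
  ⟨fun e => le_antisymm ((sub_le_iff h).1 e.le) ((sub_le_iff h').1 e.ge), fun e => e ▸ rfl⟩
theorem sub_eq_bot (h : H ≤ M) : H ⇂ M = ⊥ ↔ H = ⊥ := by
  rw [← bot_subgroupOf, sub_inj h bot_le]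
theorem card_sub (h : H ≤ M) : Nat.card (H ⇂ M) = #H :=
  Nat.card_congr (subgroupOfEquivOfLe h).toEquiv
theorem index_sub : (H ⇂ M).index = H.relIndex M := rfl
theorem relIndex_sub (h : K ≤ M) : (H ⇂ M).relIndex (K ⇂ M) = H.relIndex K :=
  relIndex_subgroupOf h
theorem map_sub (h : H ≤ M) : (H ⇂ M).map M.subtype = H := map_subgroupOf_eq_of_le h
theorem sub_map (X : Subgroup M) : (X.map M.subtype) ⇂ M = X :=
  comap_map_eq_self_of_injective M.subtype_injective X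
theorem sub_inf : (H ⊓ K) ⇂ M = H ⇂ M ⊓ K ⇂ M := rfl
theorem sub_sup (h : H ≤ M) (h' : K ≤ M) : (H ⊔ K) ⇂ M = H ⇂ M ⊔ K ⇂ M :=
  subgroupOf_sup h h'
theorem sub_comm (h : H ≤ M) (h' : K ≤ M) : ⁅H, K⁆ ⇂ M = ⁅H ⇂ M, K ⇂ M⁆ :=
  map_injective M.subtype_injective <| by
    rw [map_commutator, map_sub h, map_sub h', map_sub ((commutator_mono h h').trans (der_le M))]
theorem nil_sub (h : Nil H) : Group.IsNilpotent (H ⇂ M) := Core.isNilpotent_subgroupOf h M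
theorem sub_cent1 {x : M} : C1[x] = C1[(x : G)] ⇂ M := by
  ext y; simp only [mem_sub, mem_cent1, Subtype.ext_iff, coe_mul]

instance normalDer2 (M : Subgroup G) : (⁅⁅M, M⁆, ⁅M, M⁆⁆ ⇂ M).Normal :=
  sub_normal (normD (der_norm M))
instance normalF [Finite G] (M : Subgroup G) : (F[M] ⇂ M).Normal := sub_normal (F_norm M)

end Sub

variable {G : Type*} [Group G] [Fintype G]

/-- the Dade isometry relative to `A₀(M)` -/
noncomputable abbrev tau (M : Subgroup G) : CMap M G := dade (A0 M) M (supportR M)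
/-- the map `ρ` of (7.1) relative to `A₁(M)` -/
noncomputable abbrev rho (M : Subgroup G) : CMap G M := invDade (A1 M) M (supportR M)

variable [hG : MSO G] {M U V S T L W₁ W₂ : Subgroup G}

theorem odd_G : Odd (Nat.card G) := hG.out.1

/-- Hypothesis (7.6) for `A₁(M)` -/
theorem dade1 (hM : IsCoatom M) : Dade1 (A1 M) M (supportR M) (Mσ[M] ⇂ M) :=
  ⟨dade_A1 hM, inferInstance, fun x => by simp [mem_A1, mem_sub]⟩

theorem ind1 (hM : IsCoatom M) {ν : CMap M G}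
    (hν : CohWith (inducedIrrAbove (Mσ[M] ⇂ M) ⊥) (tau M) ν) :
    Ind1 (A1 M) M (supportR M) (Mσ[M] ⇂ M) ν :=
  (dade1 hM).ind1_of_subset (dade_A0 hM) ((A1_sub M).trans (AA_sub M)) hν

/-- on class functions supported in `A ⊆ A₀(M)` the map `tau M` vanishes outside `Ã` -/
theorem tau_of_notMem (hM : IsCoatom M) {A : Set G} {α : M → ℂ} (hα : IsClassFunction M α)
    (hA : ∀ x : M, (x : G) ∉ A → α x = 0) {g : G} (hg : g ∉ Td M A) : tau M α g = 0 :=
  (dade_A0 hM).dade_of_notMem' hα hA hg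

theorem tau_orth_of_disjoint (hM : IsCoatom M) (hL : IsCoatom L) {A B : Set G}
    (hd : Disjoint (Td M A) (Td L B)) {α : M → ℂ} {β : L → ℂ} (hα : IsClassFunction M α)
    (hβ : IsClassFunction L β) (hA : ∀ x : M, (x : G) ∉ A → α x = 0)
    (hB : ∀ x : L, (x : G) ∉ B → β x = 0) : classInner (tau M α) (tau L β) = 0 := by
  rw [classInner, Finset.sum_eq_zero fun g _ => ?_, mul_zero]
  by_cases h : g ∈ Td M A
  · rw [tau_of_notMem hL hβ hB (Set.disjoint_left.1 hd h), map_zero, mul_zero]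
  · rw [tau_of_notMem hM hα hA h, zero_mul]

end Cfsg.Agent.PF

namespace Cfsg.Agent.BG.PD

open Cfsg Cfsg.Agent.Char Cfsg.Agent.PF Subgroup

variable {G : Type*} [Group G] [Fintype G] [hG : MSO G] {M U V S T L H W₁ W₂ : Subgroup G}

attribute [simp] ι_coe

/-- the characters `η_ij = ω_ij^σ` of `G` -/
noncomputable def η (h : PD M U W₁ W₂) : (W₁ →* ℂˣ) → (W₂ →* ℂˣ) → G → ℂ :=
  (h.cycTI.exists_fam (mso_odd W₁) (mso_odd W₂)).choose

theorem cycFam (h : PD M U W₁ W₂) : CycFam (cycι h.comm) h.η :=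
  (h.cycTI.exists_fam (mso_odd W₁) (mso_odd W₂)).choose_spec

/-- `η` depends only on `W₁, W₂` -/
theorem η_eq (h : PD M U W₁ W₂) (h' : PD L V W₁ W₂) : h'.η = h.η := rfl

theorem η_swap (h : PD M U W₁ W₂) (h' : PD L V W₂ W₁) (i j) : h'.η j i = h.η i j := by
  have := h.cycFam.swap
  rw [cycι_swap] at this
  rw [← h'.cycFam.eq_eta this.toCycFam₀]

/-- the irreducible characters `μ_ij` of `M` -/
noncomputable def μ (h : PD M U W₁ W₂) : (W₁ →* ℂˣ) → (W₂ →* ℂˣ) → M → ℂ :=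
  h.primeTI.exists_fam.choose

/-- the signs `δ_j` -/
noncomputable def δ (h : PD M U W₁ W₂) : (W₂ →* ℂˣ) → ℤ :=
  h.primeTI.exists_fam.choose_spec.choose

/-- the reducible characters `μ_j = ∑ᵢ μ_ij` -/
noncomputable abbrev μR (h : PD M U W₁ W₂) : (W₂ →* ℂˣ) → M → ℂ := muR h.μ

theorem primeFam (h : PD M U W₁ W₂) : PrimeFam (⁅M, M⁆ ⇂ M) h.ι h.μ h.δ :=
  h.primeTI.exists_fam.choose_spec.choose_spec

/-- (8.15): hypothesis (4.6) -/
theorem pd (h : PD M U W₁ W₂) (h1 : W₂ ≤ H) (h2 : H ≤ Mσ[M]) (h3 : M ≤ N[H]) :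
    PrimeDade (A0 M) M (supportR M) (⁅M, M⁆ ⇂ M) (H ⇂ M) h.ι h.η h.μ h.δ :=
  h.primeDade h1 h2 h3 h.cycFam h.primeFam

/-- hypothesis (4.6) for `H = M_F` -/
theorem pdF (h : PD M U W₁ W₂) :
    PrimeDade (A0 M) M (supportR M) (⁅M, M⁆ ⇂ M) (MF[M] ⇂ M) h.ι h.η h.μ h.δ :=
  h.pd h.le2 (MF_le_Msigma h.max) (MF_norm M)

/-- hypothesis (4.6) for `H = M'` (types III, IV, V) -/
theorem pdD (h : PD M U W₁ W₂) (h1 : TypeP1 M) :
    PrimeDade (A0 M) M (supportR M) (⁅M, M⁆ ⇂ M) (⁅M, M⁆ ⇂ M) h.ι h.η h.μ h.δ :=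
  h.pd h.le2' (h.p1_der h1).ge (der_norm M)

theorem index_der (h : PD M U W₁ W₂) : (⁅M, M⁆ ⇂ M).index = #W₁ := h.primeTI.index_eq

theorem three_le₁ (h : PD M U W₁ W₂) : 3 ≤ #W₁ := h.cycFam.three_le₁
theorem three_le₂ (h : PD M U W₁ W₂) : 3 ≤ #W₂ := h.cycFam.three_le₂
theorem card_ne (h : PD M U W₁ W₂) : #W₁ ≠ #W₂ := h.cycTI.card_ne

end Cfsg.Agent.BG.PD
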