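import Cfsg.Agent.Char.PrimeDade

/-! Peterfalvi, section 7 (7.5 - 7.9). -/

set_option autoImplicit false

namespace Cfsg.Agent.PF

open Cfsg Cfsg.Agent.Char Subgroup
open scoped ComplexConjugate

section General

variable {G : Type*} [Group G] [Fintype G]

/-- Inner products of real virtual characters of a group of odd order. -/
theorem real_even (hodd : Odd (Nat.card G)) {φ ψ : G → ℂ} (hφ : IsGeneralizedCharacter G φ)
    (hψ : IsGeneralizedCharacter G ψ) (rφ : conjFun φ = φ) (rψ : conjFun ψ = ψ) :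
    ∃ n : ℤ, classInner φ ψ = classInner φ (fun _ => 1) * classInner ψ (fun _ => 1) + 2 * n := by
  classical
  obtain ⟨m, hm, -⟩ := hφ.exists_mult
  obtain ⟨m', hm', -⟩ := hψ.exists_mult
  let c : IrrCharacter G → IrrCharacter G := fun χ => ⟨conjFun χ.1, χ.2.conjF⟩
  have hc : ∀ {f : G → ℂ} {k : IrrCharacter G → ℤ}, IsGeneralizedCharacter G f → conjFun f = f →
      (∀ χ : IrrCharacter G, classInner f χ = k χ) → ∀ χ, k (c χ) = k χ := by
    intro f k hf rf hk χ
    have h1 := hk (c χ)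
    change classInner f (conjFun χ.1) = _ at h1
    rw [classInner_conjFun_right, rf, ← hf.classInner_comm χ.2.isGen, hk] at h1
    exact_mod_cast h1.symm
  have hs : ∑ χ ∈ Finset.univ.erase (irrOne G), ((m χ * m' χ : ℤ) : ZMod 2) = 0 := by
    refine Finset.sum_involution (fun χ _ => c χ) ?_ ?_ ?_ ?_
    · intro χ _
      rw [hc hφ rφ hm, hc hψ rψ hm', ← two_mul]
      exact mul_eq_zero_of_left rfl _
    · intro χ hχ _ e
      exact χ.2.conjF_ne_of_odd hodd (fun h => Finset.ne_of_mem_erase hχ (Subtype.ext h))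
        (congrArg Subtype.val e)
    · intro χ hχ
      refine Finset.mem_erase.2 ⟨fun e => Finset.ne_of_mem_erase hχ (Subtype.ext ?_), Finset.mem_univ _⟩
      have : conjFun χ.1 = fun _ => 1 := congrArg Subtype.val e
      rw [conjFun_eq_iff.1 this, conjFun_one]; rfl
    · intro χ _
      exact Subtype.ext (conjFun_conjFun _)
  rw [← Int.cast_sum, ZMod.intCast_zmod_eq_zero_iff_dvd] at hs
  obtain ⟨n, hn⟩ := hs
  refine ⟨n, ?_⟩
  rw [hφ.isClassFunction.classInner_eq_sum_irr, ← Finset.add_sum_erase _ _ (Finset.mem_univ (irrOne G))]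
  have h1 := hm (irrOne G)
  have h2 := hm' (irrOne G)
  rw [irrOne_coe] at h1 h2
  rw [irrOne_coe, h1, h2]
  have := congrArg (Int.cast : ℤ → ℂ) hn
  push_cast at this
  simp only [hm, hm', map_intCast, this]

theorem eq_zero_of_inner_ind {K : Subgroup G} {f : G → ℂ} (hf : IsClassFunction G f) (t : ℂ)
    (h : ∀ θ : K → ℂ, IsIrrCharacter K θ → classInner f (indFun K θ) = t * θ 1)
    {k : G} (hk : k ∈ K) (hk1 : k ≠ 1) : f k = 0 := by
  classical
  letI := Fintype.ofFinite K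
  have h1 := (hf.restrict K).apply_eq_sum_irr ⟨k, hk⟩
  have h2 := sum_irr_one_mul (⟨k, hk⟩ : K)
  rw [if_neg (fun e => hk1 (congrArg Subtype.val e))] at h2
  simp only at h1
  rw [h1, Finset.sum_congr rfl fun χ _ => by
    rw [← classInner_indFun_right K _ hf, h _ χ.2, mul_assoc], ← Finset.mul_sum, h2, mul_zero]

theorem nrm_eq_sub {ρ F : G → ℂ} (h : ∀ x, x ≠ 1 → ρ x = F x) (h1 : ρ 1 = 0) :
    nrm ρ = nrm F - ‖F 1‖ ^ 2 / Nat.card G := by
  classical
  rw [nrm_eq_sum, nrm_eq_sum, ← Finset.add_sum_erase _ _ (Finset.mem_univ (1 : G)),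
    ← Finset.add_sum_erase _ _ (Finset.mem_univ (1 : G)), h1,
    Finset.sum_congr rfl fun x hx => by rw [h x (Finset.ne_of_mem_erase hx)]]
  simp; ring

variable {K : Subgroup G}

theorem ind1_apply [K.Normal] {k : G} (hk : k ∈ K) : indFun K (fun _ => 1) k = K.index := by
  have := indFun_of_normal K (fun _ => (1 : ℂ)) ⟨k, hk⟩
  simp only [Finset.sum_const, Finset.card_univ, nsmul_eq_mul, mul_one] at this
  rw [this, ← Nat.card_eq_fintype_card, ← K.card_mul_index]
  have := card_ne_zero K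
  push_cast; field_simp

theorem classInner_ind1_one : classInner (indFun K (fun _ => 1)) (fun _ => 1) = 1 := by
  letI := Fintype.ofFinite K
  rw [classInner_indFun_left K _ (isClassFunction_const 1)]
  exact isIrrCharacter_one.classInner_self

theorem classInner_ind1_self [K.Normal] :
    classInner (indFun K (fun _ => 1)) (indFun K (fun _ => 1)) = K.index := by
  letI := Fintype.ofFinite K
  rw [classInner_indFun_left K _ (isClassFunction_indFun K _)]
  have : (fun h : K => indFun K (fun _ => 1) h) = (K.index : ℂ) • fun _ => (1 : ℂ) := by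
    ext h; simp [ind1_apply h.2]
  rw [this, classInner_smul_right, isIrrCharacter_one.classInner_self]; simp

theorem classInner_ind1_of_mem [K.Normal] {M : Subgroup G} {φ : G → ℂ}
    (h : φ ∈ inducedIrrAbove K M) : classInner (indFun K (fun _ => 1)) φ = 0 := by
  letI := Fintype.ofFinite K
  obtain ⟨θ, hθ, h1, -, rfl⟩ := h
  rw [classInner_indFun_right K _ (isClassFunction_indFun K _)]
  have : (fun h : K => indFun K (fun _ => 1) h) = (K.index : ℂ) • fun _ => (1 : ℂ) := by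
    ext h; simp [ind1_apply h.2]
  rw [this, classInner_smul_left, isIrrCharacter_one.classInner_of_ne hθ h1.symm, mul_zero]

theorem ind1_notMem [K.Normal] {M : Subgroup G} : indFun K (fun _ => 1) ∉ inducedIrrAbove K M := by
  intro h
  have := classInner_ind1_of_mem h
  rw [classInner_ind1_self] at this
  exact K.index_ne_zero_of_finite (by exact_mod_cast this)

end General

section Cover

variable {G : Type*} [Group G] [Fintype G]

open Classical in
/-- Peterfalvi (7.5), without normalisation. -/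
theorem cover_le {ι : Type*} (s : Finset ι) {A : ι → Set G} {L : ι → Subgroup G}
    [∀ i, Fintype (L i)] {R : ι → G → Subgroup G} (hD : ∀ i ∈ s, DadeHypothesis (A i) (L i) (R i))
    (hd : ∀ i ∈ s, ∀ j ∈ s, i ≠ j → Disjoint (dadeSupp (A i) (R i)) (dadeSupp (A j) (R j)))
    {χ : G → ℂ} (hχ : IsClassFunction G χ) :
    (Nat.card G : ℝ)⁻¹ * ∑ g ∈ Finset.univ.filter (fun g => ∀ i ∈ s, g ∉ dadeSupp (A i) (R i)),
      ‖χ g‖ ^ 2 + ∑ i ∈ s, nrm (invDade (A i) (L i) (R i) χ) ≤ nrm χ := by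
  have h1 : ∑ i ∈ s, nrm (invDade (A i) (L i) (R i) χ) ≤ ∑ i ∈ s, (Nat.card G : ℝ)⁻¹ *
      ∑ g ∈ Finset.univ.filter (· ∈ dadeSupp (A i) (R i)), ‖χ g‖ ^ 2 :=
    Finset.sum_le_sum fun i hi => (hD i hi).nrm_invDade_le_sum hχ
  rw [← Finset.mul_sum, ← Finset.sum_biUnion] at h1
  · rw [nrm_eq_sum χ, ← Finset.sum_filter_add_sum_filter_not Finset.univ
      (fun g => ∀ i ∈ s, g ∉ dadeSupp (A i) (R i)), mul_add]
    refine add_le_add le_rfl (h1.trans (le_of_eq ?_))
    congr 1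
    refine Finset.sum_congr ?_ fun _ _ => rfl
    ext g; simp
  · intro i hi j hj hij
    simp only [Function.onFun, Finset.disjoint_filter]
    exact fun x _ h1 h2 => Set.disjoint_left.1 (hd i hi j hj hij) h1 h2

open Classical in
theorem cover_card {ι : Type*} (s : Finset ι) {A : ι → Set G} {L : ι → Subgroup G}
    [∀ i, Fintype (L i)] {R : ι → G → Subgroup G} (hD : ∀ i ∈ s, DadeHypothesis (A i) (L i) (R i))
    (hd : ∀ i ∈ s, ∀ j ∈ s, i ≠ j → Disjoint (dadeSupp (A i) (R i)) (dadeSupp (A j) (R j))) :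
    (Nat.card G : ℝ)⁻¹ * (Finset.univ.filter (fun g => ∀ i ∈ s, g ∉ dadeSupp (A i) (R i))).card +
      ∑ i ∈ s, ((A i).ncard : ℝ) / Nat.card (L i) = 1 := by
  have hG : (0 : ℝ) < Nat.card G := by exact_mod_cast Nat.card_pos
  have h1 : ∀ i ∈ s, ((A i).ncard : ℝ) / Nat.card (L i) = (Nat.card G : ℝ)⁻¹ *
      (Finset.univ.filter (· ∈ dadeSupp (A i) (R i))).card := by
    intro i hi
    have h2 := (hD i hi).ncard_supp
    have hL : (0 : ℝ) < Nat.card (L i) := by exact_mod_cast Nat.card_pos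
    have h3 : (Finset.univ.filter (· ∈ dadeSupp (A i) (R i))).card = (dadeSupp (A i) (R i)).ncard := by
      rw [Set.ncard_eq_toFinset_card']; congr 1; ext; simp
    rw [h3]
    field_simp
    exact_mod_cast (by rw [← h2, mul_comm])
  rw [Finset.sum_congr rfl h1, ← Finset.mul_sum, ← Nat.cast_sum, ← Finset.card_biUnion, ← mul_add,
    ← Nat.cast_add]
  · have := Finset.card_filter_add_card_filter_not (s := Finset.univ)
      (fun g => ∀ i ∈ s, g ∉ dadeSupp (A i) (R i))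
    rw [Finset.card_univ, ← Nat.card_eq_fintype_card] at this
    rw [inv_mul_eq_one₀ hG.ne', ← this]
    congr 3
    ext g; simp
  · intro i hi j hj hij
    simp only [Function.onFun, Finset.disjoint_filter]
    exact fun x _ h1 h2 => Set.disjoint_left.1 (hd i hi j hj hij) h1 h2

open Classical in
/-- Peterfalvi (7.5). -/
theorem cover_ineq {ι : Type*} (s : Finset ι) {A : ι → Set G} {L : ι → Subgroup G}
    [∀ i, Fintype (L i)] {R : ι → G → Subgroup G} (hD : ∀ i ∈ s, DadeHypothesis (A i) (L i) (R i))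
    (hd : ∀ i ∈ s, ∀ j ∈ s, i ≠ j → Disjoint (dadeSupp (A i) (R i)) (dadeSupp (A j) (R j)))
    {χ : G → ℂ} (hχ : IsClassFunction G χ) (h1 : nrm χ = 1) :
    (Nat.card G : ℝ)⁻¹ * (∑ g ∈ Finset.univ.filter (fun g => ∀ i ∈ s, g ∉ dadeSupp (A i) (R i)),
      ‖χ g‖ ^ 2 - (Finset.univ.filter (fun g => ∀ i ∈ s, g ∉ dadeSupp (A i) (R i))).card) +
      ∑ i ∈ s, (nrm (invDade (A i) (L i) (R i) χ) - ((A i).ncard : ℝ) / Nat.card (L i)) ≤ 0 := by
  have h2 := cover_le s hD hd hχ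
  have h3 := cover_card s hD hd
  rw [Finset.sum_sub_distrib, mul_sub]
  linarith

open Classical in
/-- Peterfalvi (7.5) for one support. -/
theorem cover_ineq_one {A : Set G} {L : Subgroup G} [Fintype L] {R : G → Subgroup G}
    (hD : DadeHypothesis A L R) {χ : G → ℂ} (hχ : IsClassFunction G χ) (h1 : nrm χ = 1) :
    (Nat.card G : ℝ)⁻¹ * (∑ g ∈ Finset.univ.filter (fun g => g ∉ dadeSupp A R),
      ‖χ g‖ ^ 2 - (Finset.univ.filter (fun g => g ∉ dadeSupp A R)).card) +
      (nrm (invDade A L R χ) - (A.ncard : ℝ) / Nat.card L) ≤ 0 := by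
  have := cover_ineq (Finset.univ : Finset Unit) (A := fun _ => A) (L := fun _ => L)
    (R := fun _ => R) (fun _ _ => hD) (fun _ _ _ _ h => (h rfl).elim) hχ h1
  simpa using this

theorem classInner_dade_disjoint {A₁ A₂ : Set G} {L₁ L₂ : Subgroup G} {R₁ R₂ : G → Subgroup G}
    (hd : Disjoint (dadeSupp A₁ R₁) (dadeSupp A₂ R₂)) (α : L₁ → ℂ) (β : L₂ → ℂ) :
    classInner (dade A₁ L₁ R₁ α) (dade A₂ L₂ R₂ β) = 0 := by
  rw [classInner_def, Finset.sum_eq_zero, mul_zero]
  intro g _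
  by_cases h : g ∈ dadeSupp A₁ R₁
  · rw [dade_of_notMem β (Set.disjoint_left.1 hd h)]; simp
  · rw [dade_of_notMem α h, zero_mul]

end Cover

/-- Hypothesis (7.6): `A = K^#` for a normal subgroup `K` of `L`. -/
structure Dade1 {G : Type*} [Group G] (A : Set G) (L : Subgroup G) (R : G → Subgroup G)
    (K : Subgroup L) : Prop where
  hyp : DadeHypothesis A L R
  normal : K.Normal
  mem : ∀ x : L, (x : G) ∈ A ↔ x ∈ K ∧ x ≠ 1

/-- Hypothesis (7.6) with a coherent extension `ν` of the Dade isometry to `Z[S]`. -/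
structure Ind1 {G : Type*} [Group G] [Fintype G] (A : Set G) (L : Subgroup G) [Fintype L]
    (R : G → Subgroup G) (K : Subgroup L) (ν : CMap L G) : Prop extends Dade1 A L R K where
  iso : ZIso (inducedIrrAbove K ⊥) ν
  agree : ∀ α, IsClassFunction L α → (∀ x : L, (x : G) ∉ A → α x = 0) → ν α = dade A L R α

variable {G : Type*} [Group G] [Fintype G] {A : Set G} {L : Subgroup G} [Fintype L]
  {R : G → Subgroup G} {K : Subgroup L} {ν : CMap L G}

namespace Dade1

omit [Fintype G] [Fintype L] in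
theorem supp (h : Dade1 A L R K) {α : L → ℂ} (h1 : α 1 = 0) (hK : ∀ x, x ∉ K → α x = 0) (x : L)
    (hx : (x : G) ∉ A) : α x = 0 := by
  by_cases e : x = 1
  · rw [e, h1]
  · exact hK x fun hk => hx ((h.mem x).2 ⟨hk, e⟩)

omit [Fintype G] [Fintype L] in
theorem ncard_eq [Finite L] (h : Dade1 A L R K) : A.ncard + 1 = Nat.card K := by
  have h1 : A = (fun x : L => (x : G)) '' ((K : Set L) \ {1}) := by
    ext g
    constructor
    · intro hg
      exact ⟨⟨g, h.hyp.subset hg⟩, (h.mem ⟨g, h.hyp.subset hg⟩).1 hg, rfl⟩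
    · rintro ⟨x, hx, rfl⟩
      exact (h.mem x).2 hx
  rw [h1, Set.ncard_image_of_injective _ Subtype.val_injective,
    Set.ncard_diff_singleton_add_one K.one_mem (Set.toFinite _)]
  rfl

omit [Fintype G] in
theorem ncard_div (h : Dade1 A L R K) :
    (A.ncard : ℝ) / Nat.card L = (Nat.card K - 1) / (K.index * Nat.card K) := by
  rw [← K.card_mul_index, ← h.ncard_eq]; push_cast; ring

theorem ind1 (h : Dade1 A L R K) {τ : CMap L G} (hν : CohWith (inducedIrrAbove K ⊥) τ ν)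
    (hτ : ∀ α, IsClassFunction L α → (∀ x : L, (x : G) ∉ A → α x = 0) → τ α = dade A L R α) :
    Ind1 A L R K ν where
  toDade1 := h
  iso := hν.toZIso
  agree α h1 h2 := by rw [hν.agree α (h2 1 h.hyp.one_not_mem), hτ α h1 h2]

theorem ind1_of_subset (h : Dade1 A L R K) {A₀ : Set G} (h0 : DadeHypothesis A₀ L R) (hA : A ⊆ A₀)
    (hν : CohWith (inducedIrrAbove K ⊥) (dade A₀ L R) ν) : Ind1 A L R K ν :=
  h.ind1 hν fun _ h1 h2 => (h0.dade_restrict hA h.hyp.conj_mem h1 h2).symm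

theorem degIso (h : Dade1 A L R K) : DegIso (inducedIrrAbove K ⊥) (dade A L R) := by
  haveI := h.normal
  exact h.hyp.degIso (fun _ => isCharacter_of_mem_inducedIrrAbove)
    (fun _ => ne_zero_of_mem_inducedIrrAbove) (fun _ h1 _ h2 => orth_of_mem_inducedIrrAbove h1 h2)
    (fun φ hφ x h1 hx => apply_eq_zero_of_mem_inducedIrrAbove hφ fun hk => hx ((h.mem x).2 ⟨hk, h1⟩))

theorem invDade_one (h : Dade1 A L R K) (χ : G → ℂ) : invDade A L R χ 1 = 0 :=
  invDade_of_notMem χ h.hyp.one_not_mem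

theorem invDade_of_notMem (h : Dade1 A L R K) (χ : G → ℂ) {x : L} (hx : x ∉ K) :
    invDade A L R χ x = 0 :=
  Char.invDade_of_notMem χ fun hA => hx ((h.mem x).1 hA).1

open Classical in
/-- Peterfalvi (7.7). -/
theorem invDade_sum (h : Dade1 A L R K) {ξ₀ : L → ℂ}
    (h0 : ξ₀ ∈ insert (indFun K fun _ => 1) (seqInd K ⊥)) {χ : G → ℂ} (hχ : IsClassFunction G χ)
    (c : (L → ℂ) → ℂ) (hc : ∀ ξ, c ξ = classInner χ (dade A L R (ξ - (ξ 1 / ξ₀ 1) • ξ₀))) :
    (∀ x : L, (x : G) ∈ A → invDade A L R χ x =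
      (∑ ξ ∈ (insert (indFun K fun _ => 1) (seqInd K ⊥)).erase ξ₀, (c ξ / nrm ξ) • ξ) x) ∧
    nrm (invDade A L R χ) =
      ∑ ξ ∈ (insert (indFun K fun _ => 1) (seqInd K ⊥)).erase ξ₀, ‖c ξ‖ ^ 2 / nrm ξ -
      ‖∑ ξ ∈ (insert (indFun K fun _ => 1) (seqInd K ⊥)).erase ξ₀, c ξ / nrm ξ * ξ 1‖ ^ 2 /
        Nat.card L := by
  haveI := h.normal
  set T := insert (indFun K fun _ => 1) (seqInd K ⊥) with hT
  have hTm : ∀ ξ, ξ ∈ T ↔ ∃ θ : K → ℂ, IsIrrCharacter K θ ∧ ξ = indFun K θ := by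
    intro ξ
    rw [hT, Finset.mem_insert, mem_seqInd]
    constructor
    · rintro (rfl | ⟨θ, h1, -, -, rfl⟩)
      · exact ⟨_, isIrrCharacter_one, rfl⟩
      · exact ⟨θ, h1, rfl⟩
    · rintro ⟨θ, h1, rfl⟩
      by_cases e : θ = fun _ => 1
      · exact Or.inl (by rw [e])
      · exact Or.inr ⟨θ, h1, e, fun a ha => by rw [show a = 1 from Subtype.ext (mem_bot.1 ha)], rfl⟩
  have horth : ∀ ξ ∈ T, ∀ η ∈ T, ξ ≠ η → classInner ξ η = 0 := by
    intro ξ h1 η h2 hne
    obtain ⟨θ, h3, rfl⟩ := (hTm _).1 h1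
    obtain ⟨θ', h4, rfl⟩ := (hTm _).1 h2
    exact indFun_eq_or_orth h3 h4 hne
  have hcl : ∀ ξ ∈ T, IsClassFunction L ξ := fun ξ h1 => by
    obtain ⟨θ, -, rfl⟩ := (hTm _).1 h1; exact isClassFunction_indFun K θ
  have hK : ∀ ξ ∈ T, ∀ x, x ∉ K → ξ x = 0 := fun ξ h1 x hx => by
    obtain ⟨θ, -, rfl⟩ := (hTm _).1 h1; exact indFun_eq_zero_of_normal K θ hx
  have h1ne : ∀ ξ ∈ T, ξ 1 ≠ 0 := fun ξ h1 => by
    obtain ⟨θ, h3, rfl⟩ := (hTm _).1 h1
    rw [indFun_one]
    exact mul_ne_zero (by exact_mod_cast K.index_ne_zero_of_finite) h3.one_ne_zero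
  have hpos : ∀ ξ ∈ T, 0 < nrm ξ := fun ξ h1 => nrm_pos fun e => h1ne ξ h1 (by rw [e]; rfl)
  set χ₀ := ∑ ξ ∈ T.erase ξ₀, (c ξ / nrm ξ) • ξ with hχ₀
  have hcl0 : IsClassFunction L χ₀ :=
    isClassFunction_sum _ _ fun ξ h1 => (hcl ξ (Finset.mem_of_mem_erase h1)).smul _
  have hin : ∀ η ∈ T, classInner χ₀ η = if η = ξ₀ then 0 else c η := by
    intro η hη
    rw [hχ₀, classInner_sum_left]
    split_ifs with e
    · exact Finset.sum_eq_zero fun ξ h1 => by
        rw [classInner_smul_left, horth ξ (Finset.mem_of_mem_erase h1) η hη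
          (e ▸ Finset.ne_of_mem_erase h1), mul_zero]
    · rw [Finset.sum_eq_single η]
      · rw [classInner_smul_left, classInner_self_nrm, div_mul_cancel₀]
        exact_mod_cast (hpos η hη).ne'
      · intro ξ h1 hne
        rw [classInner_smul_left, horth ξ (Finset.mem_of_mem_erase h1) η hη hne, mul_zero]
      · intro h1; exact (h1 (Finset.mem_erase.2 ⟨e, hη⟩)).elim
  have ha : ∀ x : L, (x : G) ∈ A → invDade A L R χ x = χ₀ x := by
    intro x hx
    have hρ := h.hyp.isClassFunction_invDade hχ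
    have := eq_zero_of_inner_ind (K := K) (hρ.sub hcl0)
      (classInner (invDade A L R χ) ξ₀ / ξ₀ 1 * K.index) (fun θ hθ => ?_) ((h.mem x).1 hx).1
      ((h.mem x).1 hx).2
    · exact sub_eq_zero.1 this
    · have hm : indFun K θ ∈ T := (hTm _).2 ⟨θ, hθ, rfl⟩
      have hr : conj (ξ₀ 1) = ξ₀ 1 := by
        obtain ⟨θ, h1, rfl⟩ := (hTm _).1 h0; exact h1.isCharacter.indFun.conj_apply_one
      have h2 := hc (indFun K θ)
      rw [h.hyp.classInner_dade_right ((hcl _ hm).sub ((hcl _ h0).smul _)) hχ, classInner_sub_right,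
        classInner_smul_right, map_div₀, hθ.isCharacter.indFun.conj_apply_one, hr] at h2
      rw [classInner_sub_left, hin _ hm, mul_assoc, ← indFun_one]
      have := h1ne _ h0
      split_ifs with e
      · rw [e]; field_simp; ring
      · rw [h2]; field_simp; ring
  refine ⟨ha, ?_⟩
  rw [nrm_eq_sub (F := χ₀) (fun x hx => ?_) (h.invDade_one χ), hχ₀, nrm_sum_of_orth]
  · congr 1
    · refine Finset.sum_congr rfl fun ξ h1 => ?_
      have := hpos ξ (Finset.mem_of_mem_erase h1)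
      rw [nrm_smul, norm_div, Complex.norm_real, Real.norm_eq_abs, abs_of_pos this]
      field_simp
    · simp
  · intro ξ h1 η h2 hne
    rw [classInner_smul_left, classInner_smul_right,
      horth ξ (Finset.mem_of_mem_erase h1) η (Finset.mem_of_mem_erase h2) hne, mul_zero, mul_zero]
  · by_cases hk : x ∈ K
    · exact ha x ((h.mem x).2 ⟨hk, hx⟩)
    · rw [h.invDade_of_notMem χ hk, hχ₀, Finset.sum_apply, Finset.sum_eq_zero]
      intro ξ h1
      rw [Pi.smul_apply, hK ξ (Finset.mem_of_mem_erase h1) x hk, smul_zero]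

theorem supp_sub (h : Dade1 A L R K) {φ ζ : L → ℂ} (hφ : φ ∈ inducedIrrAbove K ⊥)
    (hζ : ζ ∈ inducedIrrAbove K ⊥) {d : ℂ} (hd : φ 1 = d * ζ 1) (x : L) (hx : (x : G) ∉ A) :
    (φ - d • ζ) x = 0 := by
  haveI := h.normal
  refine h.supp (by simp [hd]) (fun x hx => ?_) x hx
  simp [apply_eq_zero_of_mem_inducedIrrAbove hφ hx, apply_eq_zero_of_mem_inducedIrrAbove hζ hx]

theorem supp_beta (h : Dade1 A L R K) {ζ : L → ℂ} (hζ : ζ ∈ inducedIrrAbove K ⊥)
    (h1 : ζ 1 = K.index) (x : L) (hx : (x : G) ∉ A) : (indFun K (fun _ => 1) - ζ) x = 0 := by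
  haveI := h.normal
  refine h.supp (by simp [h1, indFun_one]) (fun x hx => ?_) x hx
  simp [apply_eq_zero_of_mem_inducedIrrAbove hζ hx, indFun_eq_zero_of_normal K _ hx]

omit [Fintype G] in
theorem cl_beta {ζ : L → ℂ} (hζ : ζ ∈ inducedIrrAbove K ⊥) :
    IsClassFunction L (indFun K (fun _ => 1) - ζ) :=
  (isClassFunction_indFun K _).sub (isCharacter_of_mem_inducedIrrAbove hζ).isClassFunction

theorem beta_gen (h : Dade1 A L R K) {ζ : L → ℂ} (hζ : ζ ∈ inducedIrrAbove K ⊥)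
    (h1 : ζ 1 = K.index) : IsGeneralizedCharacter G (dade A L R (indFun K (fun _ => 1) - ζ)) :=
  h.hyp.isGen_dade (isCharacter_one.indFun.isGen.sub (isCharacter_of_mem_inducedIrrAbove hζ).isGen)
    (h.supp_beta hζ h1)

theorem beta_one (h : Dade1 A L R K) {ζ : L → ℂ} (hζ : ζ ∈ inducedIrrAbove K ⊥)
    (h1 : ζ 1 = K.index) :
    classInner (dade A L R (indFun K (fun _ => 1) - ζ)) (fun _ => 1) = 1 := by
  rw [h.hyp.classInner_dade_one (cl_beta hζ) (h.supp_beta hζ h1), classInner_sub_left,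
    classInner_ind1_one, classInner_one_of_mem_inducedIrrAbove hζ, sub_zero]

theorem nrm_beta (h : Dade1 A L R K) {ζ : L → ℂ} (hζ : ζ ∈ inducedIrrAbove K ⊥)
    (hi : IsIrrCharacter L ζ) (h1 : ζ 1 = K.index) :
    nrm (dade A L R (indFun K (fun _ => 1) - ζ)) = K.index + 1 := by
  haveI := h.normal
  rw [h.hyp.nrm_dade (cl_beta hζ) (h.supp_beta hζ h1), nrm_sub_of_orth (classInner_ind1_of_mem hζ),
    hi.nrm_eq, nrm_def, classInner_ind1_self]
  simp

end Dade1

namespace Ind1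

theorem sub_smul (h : Ind1 A L R K ν) {φ ζ : L → ℂ} (hφ : φ ∈ inducedIrrAbove K ⊥)
    (hζ : ζ ∈ inducedIrrAbove K ⊥) {d : ℂ} (hd : φ 1 = d * ζ 1) :
    dade A L R (φ - d • ζ) = ν φ - d • ν ζ := by
  rw [← h.agree _ ((isCharacter_of_mem_inducedIrrAbove hφ).isClassFunction.sub
    ((isCharacter_of_mem_inducedIrrAbove hζ).isClassFunction.smul d)) (h.supp_sub hφ hζ hd),
    map_sub, map_smul]

theorem sub (h : Ind1 A L R K ν) {φ ζ : L → ℂ} (hφ : φ ∈ inducedIrrAbove K ⊥)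
    (hζ : ζ ∈ inducedIrrAbove K ⊥) (hd : φ 1 = ζ 1) : dade A L R (φ - ζ) = ν φ - ν ζ := by
  simpa using h.sub_smul hφ hζ (d := 1) (by simpa using hd)

theorem exists_cohWith (h : Ind1 A L R K ν) :
    ∃ ν', CohWith (inducedIrrAbove K ⊥) (dade A L R) ν' ∧ ∀ φ ∈ inducedIrrAbove K ⊥, ν' φ = ν φ := by
  rcases (inducedIrrAbove K ⊥).eq_empty_or_nonempty with e | ⟨ζ, hζ⟩
  · rw [e]; obtain ⟨ν', h'⟩ := coh_empty (dade A L R); exact ⟨ν', h', fun _ h => h.elim⟩
  have h0 := h.degIso.one_ne_zero hζ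
  obtain ⟨ν', h1, h2⟩ := exists_agree (dade A L R) h0 (ν ζ)
  have : ∀ φ ∈ inducedIrrAbove K ⊥, ν' φ = ν φ := by
    intro φ hφ
    have hd : φ 1 = φ 1 / ζ 1 * ζ 1 := (div_mul_cancel₀ _ h0).symm
    have := (h1.sub_smul hd).symm.trans (h.sub_smul hφ hζ hd)
    rwa [h2, sub_left_inj] at this
  exact ⟨ν', ⟨h.iso.congr this, h1⟩, this⟩

theorem map_conj (h : Ind1 A L R K ν) (hodd : Odd (Nat.card L)) {χ : L → ℂ}
    (hχ : χ ∈ inducedIrrAbove K ⊥) (hi : IsIrrCharacter L χ) : ν (conjFun χ) = conjFun (ν χ) := by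
  haveI := h.normal
  obtain ⟨ν', h1, h2⟩ := h.exists_cohWith
  have hc := conjFun_mem_inducedIrrAbove hχ
  rw [← h2 _ hχ, ← h2 _ hc]
  exact h.degIso.conj_cohWith h1 dade_conj hχ hi hc (conjFun_ne_of_mem_inducedIrrAbove hodd hχ)

theorem inner (h : Ind1 A L R K ν) {φ ψ : L → ℂ} (hφ : φ ∈ inducedIrrAbove K ⊥)
    (hψ : ψ ∈ inducedIrrAbove K ⊥) : classInner (ν φ) (ν ψ) = classInner φ ψ := h.iso.inner _ hφ _ hψ

theorem orth (h : Ind1 A L R K ν) {φ ψ : L → ℂ} (hφ : φ ∈ inducedIrrAbove K ⊥)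
    (hψ : ψ ∈ inducedIrrAbove K ⊥) (hne : φ ≠ ψ) : classInner (ν φ) (ν ψ) = 0 := by
  rw [h.inner hφ hψ, h.degIso.orth _ hφ _ hψ hne]

theorem isDirr (h : Ind1 A L R K ν) {φ : L → ℂ} (hφ : φ ∈ inducedIrrAbove K ⊥)
    (hi : IsIrrCharacter L φ) : IsDirr (ν φ) := h.iso.isDirr hφ hi

omit [Fintype G] in
theorem deg {φ ζ : L → ℂ} (h1 : ζ 1 = K.index) : φ 1 = φ 1 / K.index * ζ 1 := by
  rw [h1, div_mul_cancel₀]; exact_mod_cast K.index_ne_zero_of_finite

omit [Fintype G] in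
theorem conj_deg {φ : L → ℂ} (hφ : φ ∈ inducedIrrAbove K ⊥) :
    (starRingEnd ℂ) (φ 1 / K.index) = φ 1 / K.index := by
  rw [map_div₀, (isCharacter_of_mem_inducedIrrAbove hφ).conj_apply_one, map_natCast]

/-- Peterfalvi (7.8)(a), first part. -/
theorem orth_one (h : Ind1 A L R K ν) {ζ : L → ℂ} (hζ : ζ ∈ inducedIrrAbove K ⊥)
    (hi : IsIrrCharacter L ζ) (h2 : ∃ φ ∈ inducedIrrAbove K ⊥, φ ≠ ζ) {φ : L → ℂ}
    (hφ : φ ∈ inducedIrrAbove K ⊥) : classInner (ν φ) (fun _ => 1) = 0 := by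
  have h0 := h.degIso.one_ne_zero hζ
  have key : ∀ φ ∈ inducedIrrAbove K ⊥,
      classInner (ν φ) (fun _ => 1) = φ 1 / ζ 1 * classInner (ν ζ) (fun _ => 1) := by
    intro φ hφ
    have hd : φ 1 = φ 1 / ζ 1 * ζ 1 := (div_mul_cancel₀ _ h0).symm
    have := h.hyp.classInner_dade_one ((isCharacter_of_mem_inducedIrrAbove hφ).isClassFunction.sub
      (hi.isClassFunction.smul _)) (h.supp_sub hφ hζ hd)
    rw [h.sub_smul hφ hζ hd, classInner_sub_left, classInner_sub_left, classInner_smul_left,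
      classInner_smul_left, classInner_one_of_mem_inducedIrrAbove hφ,
      classInner_one_of_mem_inducedIrrAbove hζ] at this
    linear_combination this
  rw [key φ hφ]
  by_contra hne
  have hne' := right_ne_zero_of_mul hne
  obtain ⟨ψ, hψ, hψζ⟩ := h2
  have h3 := h.orth hψ hζ hψζ
  rw [(h.isDirr hζ hi).eq_smul isIrrCharacter_one.isDirr hne', classInner_smul_right, key ψ hψ] at h3
  exact mul_ne_zero ((map_ne_zero _).2 hne')
    (mul_ne_zero (div_ne_zero (h.degIso.one_ne_zero hψ) h0) hne') h3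

theorem inner_of_orth (h : Ind1 A L R K ν) {ζ φ : L → ℂ} (hζ : ζ ∈ inducedIrrAbove K ⊥)
    (h1 : ζ 1 = K.index) (hφ : φ ∈ inducedIrrAbove K ⊥) (β : G → ℂ) :
    classInner β (ν φ) = classInner β (dade A L R (φ - (φ 1 / K.index) • ζ)) +
      φ 1 / K.index * classInner β (ν ζ) := by
  rw [h.sub_smul hφ hζ (deg h1), classInner_sub_right, classInner_smul_right, conj_deg hφ]; ring

open Classical in
theorem beta_inner (h : Ind1 A L R K ν) {ζ : L → ℂ} (hζ : ζ ∈ inducedIrrAbove K ⊥)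
    (hi : IsIrrCharacter L ζ) (h1 : ζ 1 = K.index) {a : ℂ}
    (ha : classInner (dade A L R (indFun K (fun _ => 1) - ζ)) (ν ζ) = a - 1) {φ : L → ℂ}
    (hφ : φ ∈ inducedIrrAbove K ⊥) :
    classInner (dade A L R (indFun K (fun _ => 1) - ζ)) (ν φ) =
      a * (φ 1 / K.index) - if φ = ζ then 1 else 0 := by
  haveI := h.normal
  rw [h.inner_of_orth hζ h1 hφ, ha, h.hyp.classInner_dade (Dade1.cl_beta hζ)
    ((isCharacter_of_mem_inducedIrrAbove hφ).isClassFunction.sub (hi.isClassFunction.smul _))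
    (h.supp_beta hζ h1), classInner_sub_left, classInner_sub_right, classInner_sub_right,
    classInner_smul_right, classInner_smul_right, conj_deg hφ, classInner_ind1_of_mem hφ,
    classInner_ind1_of_mem hζ, hi.classInner_self]
  split_ifs with e
  · rw [e, hi.classInner_self]; ring
  · rw [h.degIso.orth _ hζ _ hφ (Ne.symm e)]; ring

/-- the values of `(ν ζ)^ρ` on `A` -/
theorem invDade_zeta (h : Ind1 A L R K ν) {ζ : L → ℂ} (hζ : ζ ∈ inducedIrrAbove K ⊥)
    (hi : IsIrrCharacter L ζ) (h1 : ζ 1 = K.index) {a : ℤ}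
    (ha : classInner (dade A L R (indFun K (fun _ => 1) - ζ)) (ν ζ) = a - 1) (x : L)
    (hx : (x : G) ∈ A) : invDade A L R (ν ζ) x = ζ x + a := by
  classical
  haveI := h.normal
  have hg := h.iso.gen _ hζ
  have hρ := h.hyp.isClassFunction_invDade hg.isClassFunction
  have hb : classInner (invDade A L R (ν ζ)) (indFun K (fun _ => 1) - ζ) = a - 1 := by
    rw [← h.hyp.classInner_dade_right (Dade1.cl_beta hζ) hg.isClassFunction,
      hg.classInner_comm (h.beta_gen hζ h1), ha]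
  rw [classInner_sub_right] at hb
  have := eq_zero_of_inner_ind (K := K)
    ((hρ.sub hi.isClassFunction).sub ((isClassFunction_const (1 : ℂ)).smul a))
    (classInner (invDade A L R (ν ζ)) ζ - 1) (fun θ hθ => ?_) ((h.mem x).1 hx).1 ((h.mem x).1 hx).2
  · simp only [Pi.sub_apply, Pi.smul_apply, smul_eq_mul, mul_one] at this
    linear_combination this
  · rw [classInner_sub_left, classInner_sub_left, classInner_smul_left]
    by_cases e : θ = fun _ => 1
    · subst e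
      rw [classInner_eq_zero_comm.1 (classInner_ind1_of_mem hζ),
        isCharacter_one.classInner_comm isCharacter_one.indFun, classInner_ind1_one]
      linear_combination hb
    · have hm : indFun K θ ∈ inducedIrrAbove K ⊥ :=
        ⟨θ, hθ, e, fun a ha => by rw [show a = 1 from Subtype.ext (mem_bot.1 ha)], rfl⟩
      have h3 := h.inner_of_orth hζ h1 hm (ν ζ)
      rw [h.hyp.classInner_dade_right ((isClassFunction_indFun K θ).sub (hi.isClassFunction.smul _))
        hg.isClassFunction, classInner_sub_right, classInner_smul_right, conj_deg hm, h.inner hζ hm,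
        h.inner hζ hζ, hi.classInner_self, indFun_one, mul_div_cancel_left₀ _
          (by exact_mod_cast K.index_ne_zero_of_finite)] at h3
      rw [classInner_eq_zero_comm.1 (classInner_one_of_mem_inducedIrrAbove hm)]
      linear_combination -h3

theorem nrm_invDade_zeta (h : Ind1 A L R K ν) {ζ : L → ℂ} (hζ : ζ ∈ inducedIrrAbove K ⊥)
    (hi : IsIrrCharacter L ζ) (h1 : ζ 1 = K.index) {a : ℤ}
    (ha : classInner (dade A L R (indFun K (fun _ => 1) - ζ)) (ν ζ) = a - 1) :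
    nrm (invDade A L R (ν ζ)) =
      1 + a ^ 2 / K.index - (K.index + a) ^ 2 / (K.index * Nat.card K) := by
  haveI := h.normal
  have he : (K.index : ℂ) ≠ 0 := by exact_mod_cast K.index_ne_zero_of_finite
  have he' : (K.index : ℝ) ≠ 0 := by exact_mod_cast K.index_ne_zero_of_finite
  rw [nrm_eq_sub (F := ζ + ((a : ℂ) / K.index) • indFun K (fun _ => 1)) (fun x hx => ?_)
    (h.invDade_one _), nrm_add_of_orth, hi.nrm_eq, nrm_smul, nrm_def, classInner_ind1_self]
  · simp only [Pi.add_apply, Pi.smul_apply, smul_eq_mul, indFun_one, h1, mul_one,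
      div_mul_cancel₀ _ he, norm_div, Complex.norm_intCast, Complex.norm_natCast, Complex.natCast_re]
    have : (K.index : ℂ) + a = ((K.index + a : ℝ) : ℂ) := by push_cast; rfl
    rw [this, Complex.norm_real, Real.norm_eq_abs, sq_abs, div_pow, sq_abs, ← K.card_mul_index]
    push_cast
    field_simp
  · rw [classInner_smul_right, classInner_eq_zero_comm.1 (classInner_ind1_of_mem hζ), mul_zero]
  · by_cases hk : x ∈ K
    · rw [h.invDade_zeta hζ hi h1 ha x ((h.mem x).2 ⟨hk, hx⟩)]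
      simp [ind1_apply hk, div_mul_cancel₀ _ he]
    · simp [h.invDade_of_notMem _ hk, apply_eq_zero_of_mem_inducedIrrAbove hζ hk,
        indFun_eq_zero_of_normal K _ hk]

theorem exists_a (h : Ind1 A L R K ν) {ζ : L → ℂ} (hζ : ζ ∈ inducedIrrAbove K ⊥)
    (h1 : ζ 1 = K.index) :
    ∃ a : ℤ, classInner (dade A L R (indFun K (fun _ => 1) - ζ)) (ν ζ) = a - 1 := by
  obtain ⟨n, hn⟩ := (h.beta_gen hζ h1).classInner_int (h.iso.gen _ hζ)
  exact ⟨n + 1, by rw [hn]; push_cast; ring⟩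

/-- Peterfalvi (7.8)(b), first inequality. -/
theorem le_nrm_invDade (h : Ind1 A L R K ν) {ζ : L → ℂ} (hζ : ζ ∈ inducedIrrAbove K ⊥)
    (hi : IsIrrCharacter L ζ) (h1 : ζ 1 = K.index) (he : 2 * K.index + 1 ≤ Nat.card K) :
    1 - (K.index : ℝ) / Nat.card K ≤ nrm (invDade A L R (ν ζ)) := by
  obtain ⟨a, ha⟩ := h.exists_a hζ h1
  rw [h.nrm_invDade_zeta hζ hi h1 ha]
  have h2 : (0 : ℝ) < K.index := by exact_mod_cast Nat.pos_of_ne_zero K.index_ne_zero_of_finite
  have h3 : (0 : ℝ) < Nat.card K := by exact_mod_cast Nat.card_pos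
  have h4 : (2 * K.index + 1 : ℝ) ≤ Nat.card K := by exact_mod_cast he
  have h5 : (a : ℝ) ≤ a ^ 2 := by exact_mod_cast Int.le_self_sq a
  have : (1 + a ^ 2 / K.index - (K.index + a) ^ 2 / (K.index * Nat.card K) : ℝ) -
      (1 - (K.index : ℝ) / Nat.card K) =
      (a ^ 2 * (Nat.card K - 1) - 2 * K.index * a) / (K.index * Nat.card K) := by
    field_simp; ring
  rw [← sub_nonneg, this]
  apply div_nonneg _ (by positivity)
  nlinarith [sq_nonneg (a : ℝ)]

/-- the sum appearing in (7.8)(a) -/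
noncomputable def sumNu (K : Subgroup L) (ν : CMap L G) : G → ℂ :=
  ∑ φ ∈ seqInd K ⊥, (φ 1 / K.index / nrm φ) • ν φ

theorem inner_sumNu (h : Ind1 A L R K ν) {φ : L → ℂ} (hφ : φ ∈ inducedIrrAbove K ⊥) :
    classInner (sumNu K ν) (ν φ) = φ 1 / K.index := by
  rw [sumNu, classInner_sum_left, Finset.sum_eq_single φ]
  · rw [classInner_smul_left, h.inner hφ hφ, classInner_self_nrm, div_mul_cancel₀]
    exact_mod_cast (h.degIso.nrm_pos hφ).ne'
  · intro ψ hψ hne
    rw [classInner_smul_left, h.orth (mem_seqInd.1 hψ) hφ hne, mul_zero]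
  · intro h1; exact (h1 (mem_seqInd.2 hφ)).elim

theorem inner_sumNu_of_orth {γ : G → ℂ} (h : ∀ φ ∈ inducedIrrAbove K ⊥, classInner γ (ν φ) = 0) :
    classInner γ (sumNu K ν) = 0 := by
  rw [sumNu, classInner_sum_right]
  exact Finset.sum_eq_zero fun φ hφ => by rw [classInner_smul_right, h φ (mem_seqInd.1 hφ), mul_zero]

omit [Fintype G] in
theorem sum_deg_sq [K.Normal] :
    ∑ φ ∈ seqInd K ⊥, ‖φ 1 / K.index‖ ^ 2 / nrm φ = (Nat.card K - 1) / K.index := by
  have he : (K.index : ℝ) ≠ 0 := by exact_mod_cast K.index_ne_zero_of_finite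
  have := sum_seqInd_sq (K := K) ⊥
  rw [relIndex_bot_left] at this
  rw [eq_div_iff he, Finset.sum_mul]
  apply mul_left_cancel₀ he
  rw [← this, Finset.mul_sum]
  refine Finset.sum_congr rfl fun φ hφ => ?_
  rw [norm_div, (isCharacter_of_mem_inducedIrrAbove (mem_seqInd.1 hφ)).norm_one, Complex.norm_natCast]
  field_simp

theorem nrm_sumNu (h : Ind1 A L R K ν) : nrm (sumNu K ν) = (Nat.card K - 1) / K.index := by
  haveI := h.normal
  rw [sumNu, nrm_sum_of_orth, ← sum_deg_sq]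
  · refine Finset.sum_congr rfl fun φ hφ => ?_
    have := h.degIso.nrm_pos (mem_seqInd.1 hφ)
    rw [nrm_smul, h.iso.nrm_eq (mem_seqInd.1 hφ), norm_div _ (_ : ℂ), Complex.norm_real,
      Real.norm_eq_abs, abs_of_pos this]
    field_simp
  · intro φ hφ ψ hψ hne
    rw [classInner_smul_left, classInner_smul_right, h.orth (mem_seqInd.1 hφ) (mem_seqInd.1 hψ) hne,
      mul_zero, mul_zero]

/-- Peterfalvi (7.8)(a),(b). -/
theorem exists_gamma (h : Ind1 A L R K ν) {ζ : L → ℂ} (hζ : ζ ∈ inducedIrrAbove K ⊥)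
    (hi : IsIrrCharacter L ζ) (h1 : ζ 1 = K.index) (h2 : ∃ φ ∈ inducedIrrAbove K ⊥, φ ≠ ζ) :
    ∃ (a : ℤ) (Γ : G → ℂ), (∀ φ ∈ inducedIrrAbove K ⊥, classInner Γ (ν φ) = 0) ∧
      classInner Γ (fun _ => 1) = 0 ∧ IsClassFunction G Γ ∧
      classInner (dade A L R (indFun K (fun _ => 1) - ζ)) (ν ζ) = a - 1 ∧
      dade A L R (indFun K (fun _ => 1) - ζ) = (fun _ => 1) - ν ζ + (a : ℂ) • sumNu K ν + Γ ∧
      nrm Γ = K.index - 1 + 2 * a - a ^ 2 * ((Nat.card K - 1) / K.index) ∧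
      (2 * K.index + 1 ≤ Nat.card K → nrm Γ ≤ K.index - 1) := by
  classical
  obtain ⟨a, ha⟩ := h.exists_a hζ h1
  have he : (K.index : ℂ) ≠ 0 := by exact_mod_cast K.index_ne_zero_of_finite
  have o1 : ∀ φ ∈ inducedIrrAbove K ⊥, classInner (fun _ => (1 : ℂ)) (ν φ) = 0 := fun φ hφ =>
    classInner_eq_zero_comm.1 (h.orth_one hζ hi h2 hφ)
  have o2 := inner_sumNu_of_orth o1
  set β := dade A L R (indFun K (fun _ => 1) - ζ) with hβ
  set Γ := β - ((fun _ => 1) - ν ζ + (a : ℂ) • sumNu K ν) with hΓ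
  have g1 : ∀ φ ∈ inducedIrrAbove K ⊥, classInner Γ (ν φ) = 0 := by
    intro φ hφ
    rw [hΓ, classInner_sub_left, classInner_add_left, classInner_sub_left, classInner_smul_left,
      h.beta_inner hζ hi h1 ha hφ, o1 φ hφ, h.inner_sumNu hφ, h.inner hζ hφ]
    split_ifs with e
    · rw [e, hi.classInner_self]; ring
    · rw [h.degIso.orth _ hζ _ hφ (Ne.symm e)]; ring
  have g2 : classInner Γ (fun _ => 1) = 0 := by
    rw [hΓ, classInner_sub_left, classInner_add_left, classInner_sub_left, classInner_smul_left,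
      h.beta_one hζ h1, isIrrCharacter_one.classInner_self, h.orth_one hζ hi h2 hζ,
      classInner_eq_zero_comm.1 o2]
    ring
  have e : β = (fun _ => 1) - ν ζ + (a : ℂ) • sumNu K ν + Γ := by rw [hΓ]; abel
  have g3 : nrm Γ = K.index - 1 + 2 * a - a ^ 2 * ((Nat.card K - 1) / K.index) := by
    have := h.nrm_beta hζ hi h1
    rw [← hβ, e, nrm_add_of_orth, nrm_add, nrm_sub_of_orth (o1 ζ hζ), isIrrCharacter_one.nrm_eq,
      (h.isDirr hζ hi).nrm_eq, nrm_intCast_smul, h.nrm_sumNu, classInner_smul_right,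
      classInner_sub_left, o2, ← conj_classInner, h.inner_sumNu hζ, h1, div_self he] at this
    · simp only [sub_zero, map_one, zero_sub, mul_neg, mul_one, Complex.neg_re, map_intCast,
        Complex.intCast_re] at this
      linarith
    · rw [classInner_eq_zero_comm, classInner_add_right, classInner_sub_right, classInner_smul_right,
        g2, g1 ζ hζ, inner_sumNu_of_orth g1]
      simp
  refine ⟨a, Γ, g1, g2, ?_, ha, e, g3, fun hle => ?_⟩
  · refine (h.beta_gen hζ h1).isClassFunction.sub ((((isClassFunction_const 1).sub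
      (h.iso.gen _ hζ).isClassFunction)).add (IsClassFunction.smul ?_ _))
    exact isClassFunction_sum _ _ fun φ hφ => (h.iso.gen _ (mem_seqInd.1 hφ)).isClassFunction.smul _
  · rw [g3]
    have h2 : (0 : ℝ) < K.index := by exact_mod_cast Nat.pos_of_ne_zero K.index_ne_zero_of_finite
    have h4 : (2 * K.index + 1 : ℝ) ≤ Nat.card K := by exact_mod_cast hle
    have h5 : (a : ℝ) ≤ a ^ 2 := by exact_mod_cast Int.le_self_sq a
    have h6 : (2 : ℝ) ≤ (Nat.card K - 1) / K.index := by rw [le_div_iff₀ h2]; linarith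
    nlinarith [sq_nonneg (a : ℝ)]

/-- Peterfalvi (7.8)(c). -/
theorem invDade_of_orth (h : Ind1 A L R K ν) {ζ : L → ℂ} (hζ : ζ ∈ inducedIrrAbove K ⊥)
    (h1 : ζ 1 = K.index) {χ : G → ℂ} (hχ : IsClassFunction G χ)
    (ho : ∀ φ ∈ inducedIrrAbove K ⊥, classInner χ (ν φ) = 0) :
    (∀ x : L, (x : G) ∈ A →
      invDade A L R χ x = classInner χ (dade A L R (indFun K (fun _ => 1) - ζ))) ∧
    nrm (invDade A L R χ) = (A.ncard : ℝ) / Nat.card L *
      ‖classInner χ (dade A L R (indFun K (fun _ => 1) - ζ))‖ ^ 2 := by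
  haveI := h.normal
  have hρ := h.hyp.isClassFunction_invDade hχ
  have he : (K.index : ℂ) ≠ 0 := by exact_mod_cast K.index_ne_zero_of_finite
  have he' : (K.index : ℝ) ≠ 0 := by exact_mod_cast K.index_ne_zero_of_finite
  set c := classInner χ (dade A L R (indFun K (fun _ => 1) - ζ)) with hc
  have ha : ∀ x : L, (x : G) ∈ A → invDade A L R χ x = c := by
    intro x hx
    have hb := hc
    rw [h.hyp.classInner_dade_right (Dade1.cl_beta hζ) hχ, classInner_sub_right] at hb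
    have := eq_zero_of_inner_ind (K := K) (hρ.sub ((isClassFunction_const (1 : ℂ)).smul c))
      (classInner (invDade A L R χ) ζ) (fun θ hθ => ?_) ((h.mem x).1 hx).1 ((h.mem x).1 hx).2
    · simp only [Pi.sub_apply, Pi.smul_apply, smul_eq_mul, mul_one] at this
      linear_combination this
    · rw [classInner_sub_left, classInner_smul_left]
      by_cases e : θ = fun _ => 1
      · subst e
        rw [isCharacter_one.classInner_comm isCharacter_one.indFun, classInner_ind1_one]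
        linear_combination -hb
      · have hm : indFun K θ ∈ inducedIrrAbove K ⊥ :=
          ⟨θ, hθ, e, fun a ha => by rw [show a = 1 from Subtype.ext (mem_bot.1 ha)], rfl⟩
        have h3 := h.inner_of_orth hζ h1 hm χ
        rw [h.hyp.classInner_dade_right ((isClassFunction_indFun K θ).sub
          ((isCharacter_of_mem_inducedIrrAbove hζ).isClassFunction.smul _))
          hχ, classInner_sub_right, classInner_smul_right, conj_deg hm, ho _ hm, ho _ hζ,
          indFun_one, mul_div_cancel_left₀ _ he] at h3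
        rw [classInner_eq_zero_comm.1 (classInner_one_of_mem_inducedIrrAbove hm)]
        linear_combination -h3
  refine ⟨ha, ?_⟩
  rw [nrm_eq_sub (F := (c / K.index) • indFun K (fun _ => 1)) (fun x hx => ?_)
    (h.invDade_one _), nrm_smul, nrm_def, classInner_ind1_self, h.ncard_div]
  · simp only [Pi.smul_apply, smul_eq_mul, indFun_one, mul_one,
      div_mul_cancel₀ _ he, norm_div, Complex.norm_natCast, Complex.natCast_re]
    rw [← K.card_mul_index]
    have : (Nat.card K : ℝ) ≠ 0 := by exact_mod_cast Nat.card_pos.ne'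
    push_cast
    field_simp
  · by_cases hk : x ∈ K
    · rw [ha x ((h.mem x).2 ⟨hk, hx⟩)]
      simp [ind1_apply hk, div_mul_cancel₀ _ he]
    · simp [h.invDade_of_notMem _ hk, indFun_eq_zero_of_normal K _ hk]

theorem odd_sub (hodd : Odd (Nat.card G)) (L : Subgroup G) : Odd (Nat.card L) :=
  hodd.of_dvd_nat (card_subgroup_dvd_card L)

theorem exists_ne (h : Ind1 A L R K ν) (hodd : Odd (Nat.card L)) {ζ : L → ℂ}
    (hζ : ζ ∈ inducedIrrAbove K ⊥) : ∃ φ ∈ inducedIrrAbove K ⊥, φ ≠ ζ := by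
  haveI := h.normal
  exact ⟨_, conjFun_mem_inducedIrrAbove hζ, conjFun_ne_of_mem_inducedIrrAbove hodd hζ⟩

/-- `β + ν ζ` is real. -/
theorem real_beta (h : Ind1 A L R K ν) (hodd : Odd (Nat.card L)) {ζ : L → ℂ}
    (hζ : ζ ∈ inducedIrrAbove K ⊥) (hi : IsIrrCharacter L ζ) :
    conjFun (dade A L R (indFun K (fun _ => 1) - ζ) + ν ζ) =
      dade A L R (indFun K (fun _ => 1) - ζ) + ν ζ := by
  have h2 := h.sub hζ (conjFun_mem_inducedIrrAbove hζ) hi.isCharacter.conjFun_one.symm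
  rw [conjFun_add, ← dade_conj, ← h.map_conj hodd hζ hi, conjFun_sub, ← indFun_conjFun, conjFun_one]
  simp only [map_sub] at h2 ⊢
  linear_combination h2

variable {A₂ : Set G} {L₂ : Subgroup G} [Fintype L₂] {R₂ : G → Subgroup G} {K₂ : Subgroup L₂}
  {ν₂ : CMap L₂ G}

/-- Coherent images for disjoint Dade supports are orthogonal. -/
theorem orth_of_disjoint (h : Ind1 A L R K ν) (h' : Ind1 A₂ L₂ R₂ K₂ ν₂) (hodd : Odd (Nat.card G))
    (hd : Disjoint (dadeSupp A R) (dadeSupp A₂ R₂)) {χ : L → ℂ} {ψ : L₂ → ℂ}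
    (hχ : χ ∈ inducedIrrAbove K ⊥) (hχi : IsIrrCharacter L χ) (hψ : ψ ∈ inducedIrrAbove K₂ ⊥)
    (hψi : IsIrrCharacter L₂ ψ) : classInner (ν χ) (ν₂ ψ) = 0 := by
  haveI := h.normal
  haveI := h'.normal
  have c1 := conjFun_mem_inducedIrrAbove hχ
  have c2 := conjFun_mem_inducedIrrAbove hψ
  have e1 := h.sub hχ c1 hχi.isCharacter.conjFun_one.symm
  have e2 := h'.sub hψ c2 hψi.isCharacter.conjFun_one.symm
  refine (dirr_orthogonal_of_sub (h.isDirr hχ hχi) (h.isDirr c1 hχi.conjF) (h'.isDirr hψ hψi)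
    (h'.isDirr c2 hψi.conjF) one_ne_zero one_ne_zero (map_one _) (map_one _)
    (h.orth hχ c1 (conjFun_ne_of_mem_inducedIrrAbove (odd_sub hodd L) hχ).symm)
    (h'.orth hψ c2 (conjFun_ne_of_mem_inducedIrrAbove (odd_sub hodd L₂) hψ).symm) ?_ ?_ ?_).1
  · rw [one_smul, one_smul, ← e1, ← e2, classInner_dade_disjoint hd]
  · have := congrFun e1 1
    rw [h.hyp.dade_one] at this
    exact sub_eq_zero.1 this.symm
  · have := congrFun e2 1
    rw [h'.hyp.dade_one] at this
    rw [sub_eq_zero.1 this.symm]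

/-- Peterfalvi (7.9). -/
theorem nonorth (h : Ind1 A L R K ν) (h' : Ind1 A₂ L₂ R₂ K₂ ν₂) (hodd : Odd (Nat.card G))
    (hd : Disjoint (dadeSupp A R) (dadeSupp A₂ R₂)) {ζ : L → ℂ} {ζ₂ : L₂ → ℂ}
    (hζ : ζ ∈ inducedIrrAbove K ⊥) (hi : IsIrrCharacter L ζ) (h1 : ζ 1 = K.index)
    (hζ₂ : ζ₂ ∈ inducedIrrAbove K₂ ⊥) (hi₂ : IsIrrCharacter L₂ ζ₂) (h1₂ : ζ₂ 1 = K₂.index) :
    classInner (dade A L R (indFun K (fun _ => 1) - ζ)) (ν₂ ζ₂) ≠ 0 ∨
    classInner (dade A₂ L₂ R₂ (indFun K₂ (fun _ => 1) - ζ₂)) (ν ζ) ≠ 0 := by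
  by_contra hn
  push Not at hn
  obtain ⟨n1, n2⟩ := hn
  have o1 := odd_sub hodd L
  have o2 := odd_sub hodd L₂
  obtain ⟨n, hn⟩ := real_even hodd ((h.beta_gen hζ h1).add (h.iso.gen _ hζ))
    ((h'.beta_gen hζ₂ h1₂).add (h'.iso.gen _ hζ₂)) (h.real_beta o1 hζ hi) (h'.real_beta o2 hζ₂ hi₂)
  simp only [classInner_add_left, classInner_add_right, classInner_dade_disjoint hd, n1,
    classInner_eq_zero_comm.1 n2, h.orth_of_disjoint h' hodd hd hζ hi hζ₂ hi₂, h.beta_one hζ h1,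
    h'.beta_one hζ₂ h1₂, h.orth_one hζ hi (h.exists_ne o1 hζ) hζ,
    h'.orth_one hζ₂ hi₂ (h'.exists_ne o2 hζ₂) hζ₂] at hn
  have : (0 : ℤ) = 1 + 2 * n := by
    have : ((0 : ℤ) : ℂ) = ((1 + 2 * n : ℤ) : ℂ) := by push_cast; linear_combination hn
    exact_mod_cast this
  omega

end Ind1

end Cfsg.Agent.PF
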