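import Cfsg.Agent.BG.S16c
import Cfsg.Agent.Char.PrimeDade
import Cfsg.Agent.S1536
/-!
Peterfalvi, section 8: the maximal subgroups of a minimal simple group of odd order, in the language of
`BG.S16c`.
-/
set_option autoImplicit false

namespace Cfsg.Agent.BG
open Subgroup PHom Cfsg.Agent.Char

section F
variable {G : Type*} [Group G] [Finite G] {M U U₀ E A : Subgroup G} {x : G}
/-- PF 8.2 a -/
theorem OfF.card_eq (h : OfF M U) (ho : Odd #M) (h1 : U₀ ≤ U) (h2 : Monoid.exponent U₀ = Monoid.exponent U)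
    (h3 : Semireg MF[M] U₀) : #U₀ = Monoid.exponent U := by
  haveI := zg_iff.2 (h3.zg (ho.of_dvd_nat (cardS (h1.trans h.sd.right))) h.ne (h1.trans h.sd.norm))
  rw [← h2, IsZGroup.exponent_eq_card]
/-- PF 8.2 b -/
theorem OfF.frob_of_zg (h : OfF M U) (ho : Odd #M) (h1 : ZG U) : Frob MF[M] U M := by
  obtain ⟨U₀, a, b, c⟩ := h.reg
  haveI := zg_iff.2 h1
  obtain rfl := eq_of_card_le a (by rw [h.card_eq ho a b c, IsZGroup.exponent_eq_card])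
  exact ⟨h.sd, h.ne, h.une, c⟩
theorem Frob.zg {K : Subgroup G} (h : Frob K E M) (ho : Odd #M) : ZG E :=
  h.reg.zg (ho.of_dvd_nat (cardS h.sd.right)) h.ne_l h.sd.norm
theorem Frob.MF_eq [MSO G] {K : Subgroup G} (h : Frob K E M) : MF[M] = K :=
  le_antisymm (h.F_eq ▸ MF_le_F M) (le_MF (hall_of_coprime h.sd.left (h.sd.relIndex_l ▸ h.coprime.symm)) h.sd.nl
    (h.F_eq ▸ F_nil M))
/-- a Frobenius group stays Frobenius for every complement -/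
theorem Frob.of_sd {K : Subgroup G} (h : Frob K E M) (h1 : Sdprod K U M) : Frob K U M :=
  ⟨h1, h.ne_l, fun i => h.ne_r (by rw [← card_eq_one, ← h.sd.relIndex_l, h1.relIndex_l, i, card_bot']),
    fun x a b => eq_bot_iff.2 fun y c => by_contra fun i =>
      b (h1.inf.le ⟨h.cent_le c.1 i ⟨h1.right a, C1_symm c.2⟩, a⟩)⟩
instance MF_normal (M : Subgroup G) : (MF[M].subgroupOf M).Normal := normal_subgroupOf (MF_norm M)
omit [Finite G] in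
instance der_normal (M : Subgroup G) : (⁅M, M⁆.subgroupOf M).Normal := normal_subgroupOf (der_norm M)
omit [Finite G] in
instance O_normal (π : Set ℕ) (M : Subgroup G) : (O[π](M).subgroupOf M).Normal := normal_subgroupOf (O_norm π M)
/-- an element fixing a non-trivial irreducible character of a normal Hall subgroup centralizes an element -/
theorem exists_cent_of_inertia {H : Subgroup G} {π : Set ℕ} (h : Hall π H M) [(H.subgroupOf M).Normal]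
    {θ : H.subgroupOf M → ℂ} (hθ : IsIrrCharacter _ θ) (h1 : θ ≠ fun _ => 1) {u : M} (hu : u ∈ inertia θ) :
    ∃ x ∈ H, x ≠ 1 ∧ (u : G) ∈ C1[x] := by
  obtain ⟨x, a, b, c⟩ := (S1536.result (H.subgroupOf M)
    (by rw [Nat.card_congr (subgroupOfEquivOfLe h.le).toEquiv]; exact h.coprime) u).1 ⟨θ, hθ, h1, hu⟩
  exact ⟨x, a, fun i => b (Subtype.ext i), mem_C1.2 (congrArg Subtype.val c)⟩
/-- PF 8.2 c -/
theorem inertia_le_of_typeF (hA : ∀ x ∈ MF[M], x ≠ 1 → U ⊓ C1[x] ≤ A) {θ : MF[M].subgroupOf M → ℂ}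
    (hθ : IsIrrCharacter _ θ) (h1 : θ ≠ fun _ => 1) {u : M} (hu : u ∈ inertia θ) (h2 : (u : G) ∈ U) : (u : G) ∈ A :=
  let ⟨x, a, b, c⟩ := exists_cent_of_inertia (MF_hall M) hθ h1 hu
  hA x a b ⟨h2, c⟩
end F

section main
variable {G : Type*} [Group G]
/-- the Dade support `Ã` of a subset `A` of `A₀(M)` -/
abbrev Td (M : Subgroup G) (A : Set G) : Set G := dadeSupp A (supportR M)
/-- `T` supports `S` -/
def Sup (T S : Subgroup G) : Prop := ∃ x ∈ A0 S, ¬ C1[x] ≤ S ∧ C1[x] ≤ T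
theorem tildeOf_eq_Td (M : Subgroup G) (A : Set G) : tildeOf M A = Td M A :=
  Set.ext fun g => ⟨fun ⟨a, i, r, j, y, e⟩ => ⟨a, i, r, j, y⁻¹, by rw [e]; group⟩,
    fun ⟨a, i, r, j, y, e⟩ => ⟨a, i, r, j, y⁻¹, by rw [← e]; group⟩⟩
theorem supportR_bot {M : Subgroup G} {x : G} (h : C1[x] ≤ M) : supportR M x = ⊥ := dif_neg fun i => i.1 h
theorem supportR_le (M : Subgroup G) (x : G) : supportR M x ≤ C1[x] := by
  rw [supportR]; split_ifs; exacts [inf_le_right, bot_le]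

variable [Finite G] [hG : MSO G] {M K U V L H S T W₁ W₂ E X P : Subgroup G} {x y g : G} {p : ℕ} {A : Set G}
include hG

/-- PF 8.11 -/
theorem MF_hall_top (hM : IsCoatom M) : Hall (piOf MF[M]) MF[M] ⊤ :=
  ((((MF_hall M).sub (MF_le_Msigma hM) (O_le _ _)).congr (ρ := piOf MF[M] ∩ σ[M])
    fun p a b => (and_iff_left (O_pig _ _ p a b)).symm).trans (Msigma_hall_top hM) Set.inter_subset_right).congr
      fun p a _ => and_iff_left_of_imp fun i => O_pig _ _ p a (i.trans (cardS (MF_le_Msigma hM)))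
theorem norm_syl_Msigma (hM : IsCoatom M) (hP : Syl p P Mσ[M]) (h : P ≠ ⊥) : N[P] ≤ M :=
  have b := hP.pi.mem_of_ne h ((O_pig _ _).of_le hP.le)
  norm_sigma_syl b ((Msigma_hall hM).syl b hP)
theorem syl_MF_top (hM : IsCoatom M) (h : p ∣ #MF[M]) : Syl p O[{p}](MF[M]) ⊤ :=
  (MF_hall_top hM).syl h ((MF_nil M).hall_O _)
/-- PF 8.12 a -/
theorem KappaCompl.abel_rank (h : KappaCompl M U K) (hM : IsCoatom M) (h1 : P ≤ U) (h2 : Nil P) :
    Abel P ∧ r(P) ≤ 2 :=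
  ⟨sigma'_nil_abel hM (h1.trans h.hU.le) (h.sigma'.of_le h1) h2,
    sigma'_rank hM (h1.trans h.hU.le) (h.sigma'.of_le h1)⟩
/-- PF 8.12 b -/
theorem KappaCompl.umax (h : KappaCompl M U K) (hM : IsCoatom M) (h1 : X ≤ U) (h2 : X ≠ ⊥)
    (h3 : Mσ[M] ⊓ C[X] ≠ ⊥) : UMax C[X] M := ((kappa_structure hM h).2.2.1 X h1 h2 h3).1
theorem AA_umax (hM : IsCoatom M) (hx : x ∈ AA M) (h : PiE σ[M]ᶜ x) : UMax C1[x] M := by
  obtain ⟨K, hK⟩ := hall_exists κ[M] (coatom_sol hM)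
  obtain ⟨U, hU⟩ := ex_kappa_compl hM hK
  obtain ⟨⟨a, y, b, c, d⟩, e, f⟩ := hx
  exact cst_self h ▸ hU.umax_cst hM (hU.mem hM a f) (fun i => e (((O_pig _ _).elt i).eq_one h)) b c d
/-- PF 8.12 c -/
theorem A0_diff_ti (hM : IsCoatom M) (hx : x ∈ A0 M \ A1 M) (h : g * x * g⁻¹ ∈ A0 M) : g ∈ M :=
  A0_ti hM hx.1 (fun i => hx.2 ⟨i, A0_ne hx.1⟩) h
/-- PF 8.15 -/
theorem dade_A0 (hM : IsCoatom M) : DadeHypothesis (A0 M) M (supportR M) := by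
  have a : ∀ x ∈ A0 M, Sdprod (supportR M x) (M ⊓ C1[x]) C1[x] ∧
      ∀ y ∈ A0 M, (#(supportR M x)).Coprime #(M ⊓ C1[y]) := fun x hx => by
    by_cases i : C1[x] ≤ M
    · rw [supportR_bot i, card_bot', inf_eq_right.2 i]
      exact ⟨⟨bot_sup_eq _, bot_inf_eq _, norm_bot _⟩, fun _ _ => Nat.coprime_one_left _⟩
    · obtain ⟨-, L, j⟩ := A0_supp hM hx i
      exact j.R ▸ ⟨j.sdC, fun y k => coprimeS (j.cop y k) inf_le_left le_rfl⟩
  exact ⟨fun i => A0_ne i rfl, fun _ => A0_le, fun _ i _ => A0_conj i, fun _ i _ => A0_fusion hM i,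
    fun x _ => supportR_le M x, fun x i c j u => conj_mem ((a x i).1.nl j), fun x i => (a x i).1.inf,
    fun x i => (a x i).1.sup, fun x i => (a x i).2⟩
theorem dade_AA (hM : IsCoatom M) : DadeHypothesis (AA M) M (supportR M) :=
  (dade_A0 hM).mono (AA_sub M) fun _ i _ => AA_conj i
theorem dade_A1 (hM : IsCoatom M) : DadeHypothesis (A1 M) M (supportR M) :=
  (dade_AA hM).mono (A1_sub M) fun _ i _ => A1_conj i
theorem dade_sub (hM : IsCoatom M) (h1 : H ≤ Mσ[M]) (h2 : M ≤ N[H]) :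
    DadeHypothesis ((H : Set G) \ {1}) M (supportR M) :=
  (dade_A1 hM).mono (fun _ i => ⟨h1 i.1, i.2⟩) fun _ i _ j => ⟨conj_mem (h2 i) j.1, by simpa using j.2⟩
theorem dade_MF (hM : IsCoatom M) : DadeHypothesis ((MF[M] : Set G) \ {1}) M (supportR M) :=
  dade_sub hM (MF_le_Msigma hM) (MF_norm M)
theorem nti_of_cent (hM : IsCoatom M) (h1 : A ⊆ A0 M) (h2 : A.Nonempty) (h3 : ∀ g ∈ M, ∀ x ∈ A, g * x * g⁻¹ ∈ A)
    (h4 : ∀ x ∈ A, C1[x] ≤ M) : NTI A M := by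
  refine ⟨h2, h3, fun g x a b => ?_⟩
  obtain ⟨m, c, d⟩ := A0_fusion hM (h1 a) (h1 b)
  exact (M.mul_mem_cancel_left (inv_mem c)).1 (h4 x a (mem_C1.2 (by
    rw [mul_assoc, mul_inv_eq_iff_eq_mul.1 d.symm]; group)))
omit [Finite G] hG in
theorem NTI.cent (h : NTI A M) (hx : x ∈ A) : C1[x] ≤ M := fun g i =>
  h.ti g x hx (by rwa [mem_C1.1 i, mul_inv_cancel_right])
theorem N_A (hM : IsCoatom M) (h1 : A ⊆ A0 M) (h2 : A.Nonempty) (h3 : ∀ g ∈ M, ∀ x ∈ A, g * x * g⁻¹ ∈ A) :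
    normalizer A = M := by
  obtain ⟨x, hx⟩ := h2
  have a : closure A ≤ M := (closure_le _).2 fun _ i => A0_le (h1 i)
  have b : ∀ g ∈ normalizer A, g ∈ N[closure A] := fun g i => mem_N_of_cj_le (by
    rw [cj, MonoidHom.map_closure, closure_le]
    rintro _ ⟨y, j, rfl⟩
    exact subset_closure ((mem_set_normalizer_iff.1 i y).1 j))
  exact le_antisymm (fun g i => (coatom_N hM a (fun g i => b g (mem_normalizer_of h3 i))
    (ne_bot_of_mem (subset_closure hx) (A0_ne (h1 hx)))).le (b g i)) fun g => mem_normalizer_of h3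
/-- PF 8.16 -/
theorem TypeP2.cent_A0 (h : TypeP2 M) (hx : x ∈ A0 M) : C1[x] ≤ M := by_contra fun i => by
  obtain ⟨K, hK⟩ := hall_exists κ[M] (coatom_sol h.max)
  exact i ((h.facts hK).2.2.2.cent (A0_supp h.max hx i).1)
theorem TypeP2.nti_A0 (h : TypeP2 M) : NTI (A0 M) M :=
  nti_of_cent h.max le_rfl ((A1_nonempty h.max).mono ((A1_sub M).trans (AA_sub M))) (fun _ i _ => A0_conj i)
    fun _ => h.cent_A0
theorem TypeP2.nti_AA (h : TypeP2 M) : NTI (AA M) M :=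
  nti_of_cent h.max (AA_sub M) ((A1_nonempty h.max).mono (A1_sub M)) (fun _ i _ => AA_conj i)
    fun _ i => h.cent_A0 (AA_sub M i)
theorem TypeP2.nti_A1 (h : TypeP2 M) : NTI (A1 M) M :=
  nti_of_cent h.max ((A1_sub M).trans (AA_sub M)) (A1_nonempty h.max) (fun _ i _ => A1_conj i)
    fun _ i => h.cent_A0 (AA_sub M (A1_sub M i))
/-- PF 8.17 a -/
theorem exists_dvd_Msigma (hp : p.Prime) (h : p ∣ Nat.card G) : ∃ M : Subgroup G, IsCoatom M ∧ p ∣ #Mσ[M] :=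
  (exists_sigma hp h).imp fun _ i => ⟨i.1, (Msigma_hall i.1).dvd hp i.2 (sigma_dvd i.2)⟩
theorem Msigma_coprime (hM : IsCoatom M) (hL : IsCoatom L) (h : ¬ Cjg M L) : (#Mσ[M]).Coprime #Mσ[L] :=
  (sigma_pig' hM hL h (O_pig _ _)).coprime' (O_pig _ _)
theorem Td_A1 (hM : IsCoatom M) : Td M (A1 M) = ClS (SigSupp M) := by rw [← tildeOf_eq_Td, A1, tildeOf_eq hM]
theorem Td_A1_cjg (hM : IsCoatom M) (h : Cjg M L) : Td M (A1 M) = Td L (A1 L) := by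
  rw [Td_A1 hM, Td_A1 (h.coatom hM)]
  ext g
  rw [mem_clS_sigSupp, mem_clS_sigSupp]
  exact ⟨fun ⟨x, H, a, b⟩ => ⟨x, H, h.symm.trans a, b⟩, fun ⟨x, H, a, b⟩ => ⟨x, H, h.trans a, b⟩⟩
/-- PF 8.17 b -/
theorem card_Td_A1 (hM : IsCoatom M) : (Td M (A1 M)).ncard = (#Mσ[M] - 1) * M.index := by
  rw [Td_A1 hM, card_clS_sigma hM]
/-- PF 8.17 c -/
theorem Td_A1_disjoint (hM : IsCoatom M) (hL : IsCoatom L) (h : ¬ Cjg M L) : Disjoint (Td M (A1 M)) (Td L (A1 L)) := by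
  rw [Td_A1 hM, Td_A1 hL]; exact sigma_support_disjoint hM hL h
theorem Td_cover_F (h : ∀ M : Subgroup G, IsCoatom M → TypeF M) (hg : g ≠ 1) :
    ∃ M : Subgroup G, IsCoatom M ∧ g ∈ Td M (A1 M) :=
  (mso_partition_F (fun M i => (h M i.max).not_typeP i) hg).imp fun _ i => ⟨i.1, (Td_A1 i.1).ge i.2⟩
theorem PD.cover (h : PD S U W₁ W₂) (hg : g ≠ 1) :
    (∃ M : Subgroup G, IsCoatom M ∧ g ∈ Td M (A1 M)) ∨ g ∈ ClS (Zhat W₁ W₂) :=
  h.eq2 ▸ ((mso_partition_P h.typeP h.hK).1 g hg).imp_left fun ⟨M, i⟩ => ⟨M, i.1, (Td_A1 i.1).ge i.2⟩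
theorem PD.disj (h : PD S U W₁ W₂) (hM : IsCoatom M) : Disjoint (ClS (Zhat W₁ W₂)) (Td M (A1 M)) :=
  Td_A1 hM ▸ h.eq2 ▸ (mso_partition_P h.typeP h.hK).2 M hM
/-- PF 8.18 a -/
theorem A1_AA (hS : IsCoatom S) (hT : IsCoatom T) (h : ¬ Cjg S T) (h1 : x ∈ A1 S) (h2 : x ∈ AA T) :
    ¬ C1[x] ≤ S ∧ UMax C1[x] T ∧ x ∉ A1 T :=
  have a : PiE σ[T]ᶜ x := sigma_pig' hS hT h ((O_pig _ _).elt h1.1)
  have b := AA_umax hT h2 a
  ⟨fun i => h (b.uniq S hS i ▸ cjg_refl S), b, fun i => i.2 (((O_pig _ _).elt i.1).eq_one a)⟩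
theorem Sup.suppAt (h : Sup T S) (hS : IsCoatom S) (hT : IsCoatom T) : ∃ x ∈ A1 S, ¬ C1[x] ≤ S ∧ SuppAt S T x := by
  obtain ⟨x, a, b, c⟩ := h
  obtain ⟨d, L, e⟩ := A0_supp hS a b
  exact ⟨x, d, b, e.umax.uniq T hT c ▸ e⟩
theorem sup_iff (hS : IsCoatom S) (hT : IsCoatom T) (h : ¬ Cjg S T) : Sup T S ↔ (A1 S ∩ AA T).Nonempty :=
  ⟨fun i => let ⟨x, a, _, b⟩ := i.suppAt hS hT; ⟨x, a, b.mem⟩, fun ⟨x, a, b⟩ =>
    ⟨x, AA_sub S (A1_sub S a), (A1_AA hS hT h a b).1, (A1_AA hS hT h a b).2.1.le⟩⟩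
omit hG in
theorem AA_pow (hx : x ∈ AA M) (hy : y ∈ zpowers x) (h : y ≠ 1) : y ∈ AA M := by
  obtain ⟨⟨a, z, b, c, d⟩, -, f⟩ := hx
  exact ⟨⟨zpowers_le.2 a hy, z, b, c, mem_C1.1 (zpowers_le.2 (mem_C1.2 d) hy)⟩, h, f.of_mem_zpowers hy⟩
/-- PF 8.18 b -/
theorem sup_cj_iff (hS : IsCoatom S) (hT : IsCoatom T) (h : ¬ Cjg S T) :
    (∃ g, Sup (cj g T) S) ↔ (Td S (A1 S) ∩ Td T (AA T)).Nonempty := by
  have s := fun g => sup_iff hS (coatom_cj' hT g) (mt cjg_cj_right.1 h)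
  constructor
  · rintro ⟨g, i⟩
    obtain ⟨x, a, b⟩ := (s g).1 i
    refine ⟨x, subset_dadeSupp a, (conj_mem_dadeSupp g⁻¹).1 (subset_dadeSupp ?_)⟩
    simpa using AA_cj b g⁻¹
  · rintro ⟨y, a, x, b, r, c, z, d⟩
    have e : C1[x] ≤ T := by_contra fun i => Set.disjoint_left.1 (Td_A1_disjoint hS hT h) a
      ⟨x, (A0_supp hT (AA_sub T b) i).1, r, c, z, d⟩
    rw [supportR_bot e, mem_bot] at c
    obtain ⟨v, a, u, f, w, j⟩ := a
    have k : v ∈ zpowers (v * u) := pi_part_mem (pin_self _)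
      (pin_of_cop (((dade_A1 hS).coprime_orderOf a a).symm.coprime_dvd_left (orderOf_dvd f)))
      (mem_C1'.1 (supportR_le S v f))
    refine ⟨w * z⁻¹, (s _).2 ⟨v, a, AA_pow ?_ k a.2⟩⟩
    rw [show v * u = w * z⁻¹ * x * (w * z⁻¹)⁻¹ by rw [← j, ← mul_one x, ← c, ← d]; group]
    exact AA_cj b _
/-- PF 8.18 c -/
theorem Td_disjoint_or (hS : IsCoatom S) (hT : IsCoatom T) (h : ¬ Cjg S T) :
    Disjoint (Td S (A1 S)) (Td T (AA T)) ∨ Disjoint (Td T (A1 T)) (Td S (AA S)) := by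
  by_contra! i
  rw [Set.not_disjoint_iff_nonempty_inter, Set.not_disjoint_iff_nonempty_inter, ← sup_cj_iff hS hT h,
    ← sup_cj_iff hT hS (not_cjg_symm h)] at i
  obtain ⟨⟨g, a⟩, k, b⟩ := i
  obtain ⟨x, -, -, c⟩ := a.suppAt hS (coatom_cj' hT g)
  obtain ⟨y, d, -, e⟩ := b.suppAt hT (coatom_cj' hS k)
  have f := c.cop _ (AA_sub S (by simpa using AA_cj e.mem k⁻¹))
  rw [MF_eq_of_notP1 c.ty, ← cj_Msigma, card_cj] at f
  have := Nat.eq_one_of_dvd_coprimes f (orderOf_dvd d.1) (dvd_trans (by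
    rw [← orderOf_injective (MulAut.conj k⁻¹).toMonoidHom (MulEquiv.injective _) y]; simp)
    (orderOf_dvd (x := k⁻¹ * y * k) ⟨by simpa using (AA_cj e.mem k⁻¹).1.1, mem_C1_self _⟩))
  exact d.2 (orderOf_eq_one_iff.1 this)

namespace PD
theorem comm (h : PD M U W₁ W₂) : ∀ a ∈ W₁, ∀ b ∈ W₂, a * b = b * a := h.snc.2.2.2.1
/-- the embedding of `W₁ × W₂` in `M` -/
def ι (h : PD M U W₁ W₂) : W₁ × W₂ →* M := (cycι h.comm).codRestrict M fun w => h.leW (cycι_mem w)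
theorem ι_coe (h : PD M U W₁ W₂) (w : W₁ × W₂) : (h.ι w : G) = w.1 * w.2 := rfl
theorem ι_comp (h : PD M U W₁ W₂) : M.subtype.comp h.ι = cycι h.comm := rfl
theorem cycTI (h : PD M U W₁ W₂) : CycTI (cycι h.comm) := h.snc.cycTI
theorem ι_zhat (h : PD M U W₁ W₂) {w : W₁ × W₂} (h1 : w.1 ≠ 1) (h2 : w.2 ≠ 1) : (h.ι w : G) ∈ Zhat W₁ W₂ :=
  ⟨cycι_mem w, fun i => i.elim (fun j => h2 ((cycι_mem_left h.dp.inf).1 j)) fun j => h1 ((cycι_mem_right h.dp.inf).1 j)⟩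
theorem exists_ι (h : PD M U W₁ W₂) (hx : x ∈ Zhat W₁ W₂) : ∃ w : W₁ × W₂, w.1 ≠ 1 ∧ w.2 ≠ 1 ∧ (h.ι w : G) = x := by
  obtain ⟨w, rfl⟩ := exists_cycι (h := h.comm) hx.1
  exact ⟨w, fun i => hx.2 (Or.inr ((cycι_mem_right h.dp.inf).2 i)),
    fun i => hx.2 (Or.inl ((cycι_mem_left h.dp.inf).2 i)), rfl⟩
theorem primeTI (h : PD M U W₁ W₂) : PrimeTI (⁅M, M⁆.subgroupOf M) h.ι := by
  refine ⟨inferInstance, fun a b i => h.cycTI.inj (congrArg Subtype.val i), h.cyc1, h.cyc2, h.cycTI.nt₁, h.cycTI.nt₂,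
    mso_odd _, mso_odd _, fun x => ?_, fun w => ?_, ?_, fun a i k j e => ?_⟩
  · obtain ⟨k, a, b, c, d⟩ := h.der.prod.ex x x.2
    exact ⟨⟨k, der_le M a⟩, a, ⟨b, c⟩, Subtype.ext (by simpa [ι_coe] using d)⟩
  · rw [mem_subgroupOf, ι_coe, ⁅M, M⁆.mul_mem_cancel_right (h.le2' w.2.2)]
    exact ⟨fun i => Subtype.ext (h.der.inf.le ⟨i, w.1.2⟩), fun i => i ▸ one_mem _⟩
  · rw [Nat.card_congr (subgroupOfEquivOfLe (der_le M)).toEquiv]; exact h.cop.symm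
  · exact ⟨⟨k, (h.cent a.2 fun o => i (Subtype.ext o)).le ⟨j, mem_C1.2 (by
      simpa [ι_coe] using congrArg Subtype.val e)⟩⟩, Subtype.ext (by simp [ι_coe])⟩
end PD
end main

section dade
variable {G : Type*} [Group G] [Fintype G] [hG : MSO G] {M U H W₁ W₂ : Subgroup G} [Fintype M] [Fintype W₁] [Fintype W₂]
  {η : (W₁ →* ℂˣ) → (W₂ →* ℂˣ) → G → ℂ} {μ : (W₁ →* ℂˣ) → (W₂ →* ℂˣ) → M → ℂ} {δ : (W₂ →* ℂˣ) → ℤ}
/-- PF 8.15: Hypothesis 4.6 holds for `K = M'` and `H = M_F` or `H = M_σ` -/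
theorem PD.primeDade (h : PD M U W₁ W₂) (h1 : W₂ ≤ H) (h2 : H ≤ Mσ[M]) (h3 : M ≤ N[H])
    (hη : CycFam (cycι h.comm) η) (hμ : PrimeFam (⁅M, M⁆.subgroupOf M) h.ι μ δ) :
    PrimeDade (A0 M) M (supportR M) (⁅M, M⁆.subgroupOf M) (H.subgroupOf M) h.ι η μ δ :=
  ⟨dade_A0 h.max, hη, hμ, normal_subgroupOf h3, fun _ i => Msigma_le_der h.max (h2 i),
    fun b => by simpa [mem_subgroupOf, h.ι_coe] using h1 b.2,
    fun x a b k c d e => AA_sub M (h.mem_AA.2 ⟨c, fun i => d (Subtype.ext i), x, h2 a, fun i => b (Subtype.ext i),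
      (congrArg Subtype.val e).symm⟩),
    fun w a b => h.mem_A0.2 (Or.inr ⟨1, one_mem _, _, h.ι_zhat a b, by simp⟩)⟩
theorem PD.exists_fam (h : PD M U W₁ W₂) :
    (∃ η, CycFam (cycι h.comm) η) ∧ ∃ μ δ, PrimeFam (⁅M, M⁆.subgroupOf M) h.ι μ δ :=
  ⟨h.cycTI.exists_fam (mso_odd _) (mso_odd _), h.primeTI.exists_fam⟩
/-- the family of `T` is the transposed family of `S` -/
theorem PD.swap {T V : Subgroup G} (h : PD M U W₁ W₂) (h' : PD T V W₂ W₁) (hη : CycFam (cycι h.comm) η) :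
    CycFam (cycι h'.comm) fun j i => η i j := cycι_swap (h := h.comm) ▸ hη.swap
end dade

end Cfsg.Agent.BG
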