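import Cfsg.Agent.PF.S08
/-!
Peterfalvi, section 9, group theoretic part (9.1 - 9.7).
-/
set_option autoImplicit false

namespace Cfsg.Agent.BG
open Subgroup PHom

variable {G : Type*} [Group G]
/-- Hypothesis 9.5 (with 9.2 and 9.4): `M` is of type II, III or IV, `H/H₀` is a chief factor of `M`, `H = M_F`,
and `C = C_U(H/H₀)`. -/
structure H95 (M U W₁ W₂ H₀ C : Subgroup G) (p : ℕ) : Prop extends PD M U W₁ W₂ where
  une : U ≠ ⊥
  chief : Chief H₀ MF[M] M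
  cU : MF[M] ⊓ C[U] ≤ H₀
  prime : p.Prime
  pow : ∀ x ∈ MF[M], x ^ p ∈ H₀
  memC : ∀ u, u ∈ C ↔ u ∈ U ∧ ∀ x ∈ MF[M], u * x * u⁻¹ * x⁻¹ ∈ H₀
/-- case (b) of 9.7: `U` acts irreducibly on `H/H₀` -/
def PGal (M U H₀ : Subgroup G) : Prop := ∀ X, H₀ ≤ X → X ≤ MF[M] → U ≤ N[X] → X = H₀ ∨ X = MF[M]
/-- `f` identifies `H/H₀` with the additive group `V` -/
structure AddM (H H₀ : Subgroup G) {V : Type*} [AddCommGroup V] (f : G → V) : Prop where
  le : H₀ ≤ H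
  add : ∀ x ∈ H, ∀ y ∈ H, f (x * y) = f x + f y
  ker : ∀ x ∈ H, f x = 0 ↔ x ∈ H₀
  surj : ∀ v, ∃ x ∈ H, f x = v
namespace AddM
variable {H H₀ : Subgroup G} {V V' : Type*} [AddCommGroup V] [AddCommGroup V'] {f : G → V} {x y : G}
theorem one (e : AddM H H₀ f) : f 1 = 0 := (e.ker 1 (one_mem _)).2 (one_mem _)
theorem inv (e : AddM H H₀ f) (hx : x ∈ H) : f x⁻¹ = -f x :=
  eq_neg_of_add_eq_zero_left (by rw [← e.add _ (inv_mem hx) _ hx, inv_mul_cancel, e.one])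
theorem eq_iff (e : AddM H H₀ f) (hx : x ∈ H) (hy : y ∈ H) : f x = f y ↔ x * y⁻¹ ∈ H₀ := by
  rw [← e.ker _ (mul_mem hx (inv_mem hy)), e.add _ hx _ (inv_mem hy), e.inv hy, add_neg_eq_zero]
theorem zpow (e : AddM H H₀ f) (hx : x ∈ H) (n : ℤ) : f (x ^ n) = n • f x := by
  induction n using Int.induction_on with
  | zero => simpa using e.one
  | succ n i => rw [zpow_add_one, e.add _ (zpow_mem hx _) _ hx, i, add_smul, one_smul]
  | pred n i => rw [zpow_sub_one, e.add _ (zpow_mem hx _) _ (inv_mem hx), i, e.inv hx, sub_smul, one_smul, sub_eq_add_neg]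
theorem comp (e : AddM H H₀ f) (k : V ≃+ V') : AddM H H₀ fun x => k (f x) :=
  ⟨e.le, fun x a y b => by rw [e.add x a y b, map_add], fun x a => by rw [k.map_eq_zero_iff, e.ker x a],
    fun v => (e.surj (k.symm v)).imp fun x a => ⟨a.1, by rw [a.2, k.apply_symm_apply]⟩⟩
/-- the preimage of a subgroup of `V` -/
def sub (e : AddM H H₀ f) (S : AddSubgroup V) : Subgroup G where
  carrier := {x | x ∈ H ∧ f x ∈ S}
  mul_mem' a b := ⟨mul_mem a.1 b.1, e.add _ a.1 _ b.1 ▸ add_mem a.2 b.2⟩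
  one_mem' := ⟨one_mem _, e.one ▸ zero_mem _⟩
  inv_mem' a := ⟨inv_mem a.1, e.inv a.1 ▸ neg_mem a.2⟩
theorem mem_sub (e : AddM H H₀ f) {S : AddSubgroup V} : x ∈ e.sub S ↔ x ∈ H ∧ f x ∈ S := Iff.rfl
theorem sub_le (e : AddM H H₀ f) (S : AddSubgroup V) : e.sub S ≤ H := fun _ a => a.1
theorem le_sub (e : AddM H H₀ f) (S : AddSubgroup V) : H₀ ≤ e.sub S :=
  fun x a => ⟨e.le a, (e.ker x (e.le a)).2 a ▸ zero_mem _⟩
theorem sub_inj (e : AddM H H₀ f) {S T : AddSubgroup V} (h : e.sub S = e.sub T) : S = T := by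
  ext v
  obtain ⟨x, a, rfl⟩ := e.surj v
  exact ⟨fun i => (h.le ⟨a, i⟩).2, fun i => (h.ge ⟨a, i⟩).2⟩
theorem sub_bot (e : AddM H H₀ f) : e.sub ⊥ = H₀ := le_antisymm (fun x a => (e.ker x a.1).1 a.2) (e.le_sub _)
theorem sub_top (e : AddM H H₀ f) : e.sub ⊤ = H := le_antisymm (e.sub_le _) fun _ a => ⟨a, trivial⟩
theorem exists_sub (e : AddM H H₀ f) {X : Subgroup G} (h1 : H₀ ≤ X) (h2 : X ≤ H) : ∃ S, e.sub S = X := by
  refine ⟨⟨⟨⟨f '' X, ?_⟩, 1, one_mem _, e.one⟩, ?_⟩, le_antisymm ?_ fun x a => ⟨h2 a, x, a, rfl⟩⟩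
  · rintro _ _ ⟨x, a, rfl⟩ ⟨y, b, rfl⟩
    exact ⟨_, mul_mem a b, e.add _ (h2 a) _ (h2 b)⟩
  · rintro _ ⟨x, a, rfl⟩
    exact ⟨_, inv_mem a, e.inv (h2 a)⟩
  · rintro x ⟨a, y, b, c⟩
    exact (X.mul_mem_cancel_left b).1 (h1 ((e.eq_iff (h2 b) a).1 c)) |> inv_mem_iff.1
theorem relIndex (e : AddM H H₀ f) (S : AddSubgroup V) : H₀.relIndex (e.sub S) = Nat.card S := by
  let k : e.sub S →* Multiplicative S := MonoidHom.mk' (fun x => Multiplicative.ofAdd ⟨f x, x.2.2⟩)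
    fun x y => congrArg Multiplicative.ofAdd (Subtype.ext (e.add _ x.2.1 _ y.2.1))
  have a : k.ker = H₀.subgroupOf (e.sub S) := by
    ext x
    rw [mem_subgroupOf, ← e.ker _ x.2.1, MonoidHom.mem_ker]
    exact ofAdd_eq_one.trans Subtype.ext_iff
  have b : k.range = ⊤ := MonoidHom.range_eq_top.2 fun v => by
    obtain ⟨x, i, j⟩ := e.surj v.toAdd.1
    exact ⟨⟨x, i, j ▸ v.toAdd.2⟩, congrArg Multiplicative.ofAdd (Subtype.ext j)⟩
  rw [Subgroup.relIndex, ← a, index_ker, b, card_top]; rfl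
end AddM
/-- 9.7 (a): coordinates `f` of `H/H₀`, which is the module induced from the linear character `χ` of `U` -/
structure NGal (M U W₁ H₀ : Subgroup G) (p : ℕ) (f : G → W₁ → ZMod p) (χ : PHom G (ZMod p)ˣ) : Prop
    extends AddM MF[M] H₀ f where
  dom : χ.dom = U
  actW : ∀ w : W₁, ∀ x ∈ MF[M], ∀ v, f (w * x * (w : G)⁻¹) (w * v) = f x v
  actU : ∀ u ∈ U, ∀ x ∈ MF[M], ∀ v : W₁, f (u * x * u⁻¹) v = χ.app ((v : G)⁻¹ * u * v) * f x v
/-- 9.7 (b): `H/H₀` is the additive group of a field `F` -/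
structure Gal (M U W₁ W₂ H₀ C : Subgroup G) (p : ℕ) (F : Type) [Field F] [Fintype F] (f : G → F) (ψ : PHom G Fˣ)
    (η : W₁ →* (F ≃+* F)) : Prop extends AddM MF[M] H₀ f where
  card : Fintype.card F = p ^ #W₁
  char : CharP F p
  dom : ψ.dom = U
  kerC : ψ.ker = C
  actU : ∀ u ∈ U, ∀ x ∈ MF[M], f (u * x * u⁻¹) = ψ.app u * f x
  actW : ∀ w : W₁, ∀ x ∈ MF[M], f (w * x * (w : G)⁻¹) = η w (f x)
  actWU : ∀ w : W₁, ∀ u ∈ U, (ψ.app (w * u * (w : G)⁻¹) : F) = η w (ψ.app u)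
  inj : Function.Injective η
  mem2 : ∀ x ∈ MF[M], x ∈ W₂ ⊔ H₀ ↔ f x ^ p = f x

variable [Finite G] [hG : MSO G] {M U W₁ W₂ H₀ C X : Subgroup G} {x y u w : G} {p : ℕ}
include hG

theorem PD.copF (h : PD M U W₁ W₂) : (#(U ⊔ W₁)).Coprime #MF[M] := h.sdF.relIndex_l ▸ (MF_hall M).coprime.symm
theorem PD.wielandt (h : PD M U W₁ W₂) (h1 : U ≠ ⊥) :
    #(MF[M] ⊓ C[U ⊔ W₁]) ^ #W₁ * #MF[M] = #W₂ ^ #W₁ * #(MF[M] ⊓ C[U]) :=
  h.centW ▸ frob_wielandt (h.frob h1) h.sdF.norm h.copF (MF_nil M).sol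
/-- 9.3, type II -/
theorem PD.core2 (h : PD M U W₁ W₂) (h2 : TypeP2 M) : MF[M] ⊓ C[U] = ⊥ ∧ #MF[M] = #W₂ ^ #W₁ := by
  have a := (h.p2_iff.1 h2).1
  have b := MF_eq_of_notP1 (Or.inr h2) ▸ (h.kc h2).cent_eq_bot h.max a
  exact ⟨b, h.centW ▸ frob_wielandt_card (h.frob a) h.sdF.norm h.copF (MF_nil M).sol b⟩
theorem PD.prime2_p1 (h : PD M U W₁ W₂) (h1 : TypeP1 M) : (#W₂).Prime :=
  h.emb.elim fun _ e => (e.p2.resolve_left fun i => i.1.pi h1.pi).2
theorem PD.prime1_p2 (h : PD M U W₁ W₂) (h1 : TypeP2 M) : (#W₁).Prime := (h.prime_ti (h.p2_iff.1 h1).1).1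
/-- 9.3, types III and IV -/
theorem PD.core34 (h : PD M U W₁ W₂) (h1 : TypeP1 M) (h2 : U ≠ ⊥) :
    MF[M] ⊓ C[U ⊔ W₁] = ⊥ ∧ #MF[M] = #W₂ ^ #W₁ * #(MF[M] ⊓ C[U]) := by
  have a := h.wielandt h2
  have b : MF[M] ⊓ C[U ⊔ W₁] = ⊥ := (eq_bot_or_eq_of_prime (h.prime2_p1 h1)
    (h.centW ▸ inf_le_inf_left _ (centS le_sup_right))).resolve_right fun i => by
      rw [i, Nat.mul_right_inj (pow_ne_zero _ (card_ne _))] at a
      exact h.not_cent h2 (cent_symm ((eq_of_card_le inf_le_left a.le).ge.trans inf_le_right))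
  rw [b, card_bot', one_pow, one_mul] at a
  exact ⟨b, a⟩
/-- 9.4 -/
theorem PD.exists_h95 (h : PD M U W₁ W₂) (h1 : U ≠ ⊥) : ∃ H₀ C p, H95 M U W₁ W₂ H₀ C p := by
  have n := MF_norm M
  have a : MF[M] ⊓ C[U] ⊔ ⁅MF[M], MF[M]⁆ ≤ MF[M] := sup_le inf_le_left (der_le _)
  obtain ⟨H₀, b, c⟩ := exists_chief_ge (H := M) (lt_of_le_of_ne a fun i => h.not_cent h1 (cent_symm
    (((MF_nil M).eq_of_sup_der inf_le_left i.ge).ge.trans inf_le_right))) (MF_le M)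
    (h.sdF.sup.ge.trans (sup_le (norm_of_der_le le_sup_right a) (normY (normI h.sdF.norm
      (normC (sup_le (normG U) h.norm))) (normD h.sdF.norm)))) n
  obtain ⟨p, d, e⟩ := c.abelem (MF_nil M).sol
  refine ⟨H₀, U ⊓ (quo H₀).pre C[MF[M] ÷ H₀], p, h, h1, c, le_sup_left.trans b, d,
    fun x i => (quo_ker H₀).le (((abelem_im_iff c.nUV).1 e).2 x i), fun u => mem_inf.trans (and_congr_right fun i => ?_)⟩
  have j : zpowers u ≤ N[H₀] := zpowers_le.2 (c.nV (h.leU i))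
  rw [← zpowers_le, le_pre_iff j, quo_cent_iff j c.nUV]
  refine ⟨fun k x l => k (comm_mem (mem_zpowers u) l), fun k => ?_⟩
  rw [← quo_cent_iff j c.nUV, im_zpowers (j (mem_zpowers u)), zpowers_le, mem_C]
  intro _ l
  obtain ⟨x, l', o, rfl⟩ := mem_im.1 l
  have := j (mem_zpowers u)
  rw [← app_mul o this, ← app_mul this o, eq_comm, app_eq_iff (mul_mem this o) (mul_mem o this), quo_ker]
  simpa [mul_assoc] using inv_mem (conj_mem' (mul_mem o this) (k x l'))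

namespace H95
omit [Finite G] hG in
theorem lt (h : H95 M U W₁ W₂ H₀ C p) : H₀ < MF[M] := h.chief.lt
omit [Finite G] hG in
theorem n0 (h : H95 M U W₁ W₂ H₀ C p) : M ≤ N[H₀] := h.chief.nV
theorem qprime (h : H95 M U W₁ W₂ H₀ C p) : (#W₁).Prime := (h.prime_ti h.une).1
theorem tiF (h : H95 M U W₁ W₂ H₀ C p) : NTI ((F[M] : Set G) \ {1}) M := (h.prime_ti h.une).2
theorem der_le0 (h : H95 M U W₁ W₂ H₀ C p) : ⁅MF[M], MF[M]⁆ ≤ H₀ := by
  obtain ⟨q, -, a⟩ := h.chief.abelem (MF_nil M).sol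
  exact (quo_abel_iff h.chief.nUV).1 a.abel
theorem abelem (h : H95 M U W₁ W₂ H₀ C p) : Abelem p (MF[M] ÷ H₀) :=
  (abelem_im_iff h.chief.nUV).2 (by rw [quo_ker]; exact ⟨h.der_le0, h.pow⟩)
omit [Finite G] hG in
theorem C_le (h : H95 M U W₁ W₂ H₀ C p) : C ≤ U := fun u i => ((h.memC u).1 i).1
omit [Finite G] hG in
theorem commC (h : H95 M U W₁ W₂ H₀ C p) : ⁅C, MF[M]⁆ ≤ H₀ := comm_le_iff.2 fun u i => ((h.memC u).1 i).2
omit [Finite G] hG in
theorem le_C (h : H95 M U W₁ W₂ H₀ C p) (h1 : X ≤ U) (h2 : ⁅X, MF[M]⁆ ≤ H₀) : X ≤ C :=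
  fun u i => (h.memC u).2 ⟨h1 i, comm_le_iff.1 h2 u i⟩
omit [Finite G] hG in
theorem cent_le_C (h : H95 M U W₁ W₂ H₀ C p) : U ⊓ C[MF[M]] ≤ C :=
  h.le_C inf_le_left ((comm_eq_bot.2 inf_le_right).le.trans bot_le)
theorem der_le_C (h : H95 M U W₁ W₂ H₀ C p) : ⁅U, U⁆ ≤ C := (le_inf (der_le U) h.der_cent).trans h.cent_le_C
theorem nC (h : H95 M U W₁ W₂ H₀ C p) : U ⊔ W₁ ≤ N[C] := fun g i => mem_N_of_cj_le <|
  have j : g ∈ M := h.sdF.right i
  h.le_C (cj_le_of_mem h.C_le (sup_le (normG U) h.norm i)) (by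
    rw [← cj_of_mem_N (MF_norm M j), ← cj_comm]; exact cj_le_of_mem h.commC (h.n0 j))
/-- `H₀X` is normal in `M` for `X = C, U', C'` -/
theorem n0X (h : H95 M U W₁ W₂ H₀ C p) (h1 : X ≤ C) (h2 : U ⊔ W₁ ≤ N[X]) : M ≤ N[H₀ ⊔ X] :=
  h.sdF.sup.ge.trans (sup_le (norm_of_comm_le (A := H₀ ⊔ X) (comm_sup_le
    ((commL h.chief.nUV).trans le_sup_left) (((commS h1 le_rfl).trans h.commC).trans le_sup_left)
    (normsG le_sup_left) (normsG le_sup_right)) le_rfl) (normY (h.sdF.right.trans h.n0) h2))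
theorem n0C (h : H95 M U W₁ W₂ H₀ C p) : M ≤ N[H₀ ⊔ C] := h.n0X le_rfl h.nC
theorem n0U' (h : H95 M U W₁ W₂ H₀ C p) : M ≤ N[H₀ ⊔ ⁅U, U⁆] :=
  h.n0X h.der_le_C (normD (sup_le (normG U) h.norm))
theorem n0C' (h : H95 M U W₁ W₂ H₀ C p) : M ≤ N[H₀ ⊔ ⁅C, C⁆] := h.n0X (der_le C) (normD h.nC)
theorem nHX (h : H95 M U W₁ W₂ H₀ C p) (h1 : X ≤ C) (h2 : U ⊔ W₁ ≤ N[X]) : M ≤ N[MF[M] ⊔ X] := by
  rw [← sup_eq_left.2 h.lt.le, sup_assoc]; exact normY (MF_norm M) (h.n0X h1 h2)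
theorem nHC (h : H95 M U W₁ W₂ H₀ C p) : M ≤ N[MF[M] ⊔ C] := h.nHX le_rfl h.nC
theorem cent_quo (h : H95 M U W₁ W₂ H₀ C p) (h1 : X ≤ U ⊔ W₁) :
    (MF[M] ⊓ C[X]) ÷ H₀ = MF[M] ÷ H₀ ⊓ C[X ÷ H₀] :=
  im_IC' ((h1.trans h.sdF.right).trans h.n0) h.chief.nUV ((quo_ker H₀).le.trans h.lt.le)
    (coprimeS h.copF h1 ((quo_ker H₀).le.trans h.lt.le))
    (Or.inr ((MF_nil M).sol.of_le ((quo_ker H₀).le.trans h.lt.le)))
theorem centU_quo (h : H95 M U W₁ W₂ H₀ C p) : MF[M] ÷ H₀ ⊓ C[U ÷ H₀] = ⊥ := by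
  rw [← h.cent_quo le_sup_left, quo_bot_iff (inf_le_left.trans h.chief.nUV)]; exact h.cU
/-- 9.6 -/
theorem C_ne (h : H95 M U W₁ W₂ H₀ C p) : C ≠ U := fun i => h.lt.not_ge ((quo_bot_iff h.chief.nUV).1 (by
  rw [← h.centU_quo, eq_comm, inf_eq_left]
  exact cent_symm ((quo_cent_iff (h.leU.trans h.n0) h.chief.nUV).2 (i ▸ h.commC))))
theorem idx_aux (h : H95 M U W₁ W₂ H₀ C p) : H₀.relIndex MF[M] = H₀.relIndex W₂ ^ #W₁ := by
  have n := h.sdF.right.trans h.n0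
  have k : ∀ X ≤ U ⊔ W₁, X ⊓ (quo H₀).ker = ⊥ := fun X i => by
    rw [quo_ker, eq_bot_iff, ← h.sdF.inf, inf_comm]; exact inf_le_inf h.lt.le i
  have nU := le_sup_left.trans n
  have nW := le_sup_right.trans n
  have f := h.frob h.une
  have := frob_wielandt_card (M := MF[M] ÷ H₀) ⟨f.sd.im_cop (φ := quo H₀) n f.coprime.symm,
    fun i => h.une (by rw [← k U le_sup_left, inf_eq_left.2 ((im_eq_bot_iff nU).1 i)]),
    fun i => h.ne1 (by rw [← k W₁ le_sup_right, inf_eq_left.2 ((im_eq_bot_iff nW).1 i)]),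
    f.reg.im h.norm nU nW⟩ (im_norm h.sdF.norm) (cop_im h.copF _) ((MF_nil M).sol.im _) h.centU_quo
  rwa [← h.cent_quo le_sup_right, h.centW, card_im_inj nW (k _ le_sup_right), card_quo h.chief.nUV,
    card_quo (h.le2.trans h.chief.nUV)] at this
theorem idx2 (h : H95 M U W₁ W₂ H₀ C p) : H₀.relIndex W₂ = p := by
  refine ((Nat.dvd_prime h.prime).1 ?_).resolve_left fun i => h.lt.not_ge (relIndex_eq_one.1 ?_)
  · rw [← card_quo (h.le2.trans h.chief.nUV)]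
    exact (h.abelem.of_le (im_mono h.le2)).cyc_card h.prime (h.cyc2.im _)
  · rw [h.idx_aux, i, one_pow]
theorem idx (h : H95 M U W₁ W₂ H₀ C p) : H₀.relIndex MF[M] = p ^ #W₁ := by rw [h.idx_aux, h.idx2]
theorem p_dvd (h : H95 M U W₁ W₂ H₀ C p) : p ∣ #W₂ := h.idx2 ▸ relIndex_dvd _ _
theorem p_eq (h : H95 M U W₁ W₂ H₀ C p) (h1 : (#W₂).Prime) : p = #W₂ :=
  (Nat.prime_dvd_prime_iff_eq h.prime h1).1 h.p_dvd
theorem p_eq34 (h : H95 M U W₁ W₂ H₀ C p) (h1 : TypeP1 M) : p = #W₂ := h.p_eq (h.prime2_p1 h1)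
theorem inf2 (h : H95 M U W₁ W₂ H₀ C p) (h1 : (#W₂).Prime) : W₂ ⊓ H₀ = ⊥ :=
  inf_bot_of_prime h1 fun i => h.prime.one_lt.ne' (h.idx2.symm.trans (relIndex_eq_one.2 i))
theorem p_not_dvd (h : H95 M U W₁ W₂ H₀ C p) : ¬ p ∣ #(U ⊔ W₁) := fun i =>
  h.prime.one_lt.ne' (Nat.eq_one_of_dvd_coprimes h.copF i (h.p_dvd.trans (cardS h.le2)))
/-- `W₁` acts semiregularly on `U/X` -/
theorem _root_.Cfsg.Agent.BG.PD.reg_quo (h : PD M U W₁ W₂) (h1 : X ≤ U) (h2 : U ⊔ W₁ ≤ N[X]) (hw : w ∈ W₁)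
    (h3 : w ≠ 1) (hu : u ∈ U) (h4 : w * u * w⁻¹ * u⁻¹ ∈ X) : u ∈ X := by
  have a := h2 (mem_sup_left hu)
  have b := h2 (mem_sup_right hw)
  have := (h.reg.im (φ := quo X) h.norm (le_sup_left.trans h2) (le_sup_right.trans h2) _ (app_mem_im hw b) fun i =>
    h3 (h.reg.inf_bot.le ⟨h1 ((quo_ker X).le (mem_ker.2 ⟨b, i⟩)), hw⟩)).le ⟨app_mem_im hu a, mem_C1'.2 (by
      rw [← app_mul (φ := quo X) a b, ← app_mul (φ := quo X) b a, eq_comm, app_eq_iff (mul_mem a b) (mul_mem b a), quo_ker]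
      simpa [mul_assoc] using conj_mem' (mul_mem a b) h4)⟩
  exact (quo_ker X).le (mem_ker.2 ⟨a, this⟩)
theorem _root_.Cfsg.Agent.BG.PD.dvd_idx (h : PD M U W₁ W₂) (h1 : X ≤ U) (h2 : U ⊔ W₁ ≤ N[X]) :
    #W₁ ∣ X.relIndex U - 1 := by
  have := (h.reg.im (φ := quo X) h.norm (le_sup_left.trans h2) (le_sup_right.trans h2)).card_dvd (im_norm h.norm)
  rwa [card_quo (le_sup_left.trans h2), card_im_inj (le_sup_right.trans h2) (by
    rw [quo_ker, eq_bot_iff, ← h.reg.inf_bot, inf_comm]; exact inf_le_inf_right _ h1)] at this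
theorem regC (h : H95 M U W₁ W₂ H₀ C p) (hw : w ∈ W₁) (h3 : w ≠ 1) (hu : u ∈ U) (h4 : w * u * w⁻¹ * u⁻¹ ∈ C) :
    u ∈ C := h.reg_quo h.C_le h.nC hw h3 hu h4
theorem q_dvd (h : H95 M U W₁ W₂ H₀ C p) : #W₁ ∣ C.relIndex U - 1 := h.dvd_idx h.C_le h.nC
theorem one_lt_u (h : H95 M U W₁ W₂ H₀ C p) : 1 < C.relIndex U :=
  lt_of_le_of_ne (relIndex_pos _ _) fun i => h.C_ne (h.C_le.antisymm (relIndex_eq_one.1 i.symm))
theorem exists_lin [Fact p.Prime] (h : H95 M U W₁ W₂ H₀ C p) : ∃ (f : G → Fin #W₁ → ZMod p)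
    (r : M →* Module.End (ZMod p) (Fin #W₁ → ZMod p)), AddM MF[M] H₀ f ∧
      ∀ m : M, ∀ x ∈ MF[M], f (m * x * (m : G)⁻¹) = r m (f x) := by
  have n := h.chief.nUV
  obtain ⟨ε, ρ, a, b, -, c⟩ := PnElem.exists_gl (H := MF[M] ÷ H₀) ⟨le_rfl, h.abelem, (card_quo n).trans h.idx⟩
  have d : ∀ x ∈ MF[M], ε (Function.invFun ε ((quo H₀).app x)) = (quo H₀).app x := fun x i =>
    Function.invFun_eq (b.ge (app_mem_im i (n i)))
  refine ⟨fun x => (Function.invFun ε ((quo H₀).app x)).toAdd, (Matrix.toLinAlgEquiv' (R := ZMod p)).toMonoidHom.comp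
    ((Units.coeHom _).comp (ρ.comp ((inclusion (im_norm (MF_norm M))).comp (res h.n0)))),
    ⟨h.lt.le, fun x i y j => congrArg Multiplicative.toAdd (a ?_), fun x i => ?_, fun v => ?_⟩, fun m x i => ?_⟩
  · change _ = ε (_ * _)
    rw [map_mul, d _ (mul_mem i j), app_mul (n i) (n j)]
    exact congrArg₂ _ (d x i).symm (d y j).symm
  · rw [toAdd_eq_zero, ← map_eq_one_iff ε a, d x i]
    exact (and_iff_right (n i)).symm.trans ((mem_ker (φ := quo H₀)).symm.trans (by rw [quo_ker]))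
  · obtain ⟨x, i, -, j⟩ := mem_im.1 (b.le ⟨Multiplicative.ofAdd v, rfl⟩)
    exact ⟨x, i, congrArg Multiplicative.toAdd (a ((d x i).trans j))⟩
  · refine congrArg Multiplicative.toAdd (a ((d _ (conj_mem (MF_norm M m.2) i)).trans (Eq.trans ?_ (c _ _))))
    rw [app_conj (h.n0 m.2) (n i), ofAdd_toAdd, d x i, ← res_coe (φ := quo H₀) h.n0 m]; rfl
section lin
variable {V : Type*} [AddCommGroup V] [Module (ZMod p) V] {f : G → V} {r : M →* Module.End (ZMod p) V}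
theorem norm_sub (h : H95 M U W₁ W₂ H₀ C p) (e : AddM MF[M] H₀ f)
    (a : ∀ m : M, ∀ x ∈ MF[M], f (m * x * (m : G)⁻¹) = r m (f x)) {S : AddSubgroup V} (hX : X ≤ M) :
    X ≤ N[e.sub S] ↔ ∀ m : M, (m : G) ∈ X → ∀ v ∈ S, r m v ∈ S := by
  refine ⟨fun i m j v k => ?_, fun i => le_N_iff.2 fun g j x k =>
    ⟨conj_mem (MF_norm M (hX j)) k.1, a ⟨g, hX j⟩ x k.1 ▸ i _ j _ k.2⟩⟩
  obtain ⟨x, l, rfl⟩ := e.surj v
  exact a m x l ▸ (conj_mem (i j) ⟨l, k⟩).2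
theorem irr (h : H95 M U W₁ W₂ H₀ C p) (h1 : H₀ ≤ X) (h2 : X ≤ MF[M]) (h3 : U ≤ N[X]) (h4 : W₁ ≤ N[X]) :
    X = H₀ ∨ X = MF[M] := or_iff_not_imp_right.2 fun i => h.chief.max X h1 (lt_of_le_of_ne h2 i)
  (h.sdF.sup.ge.trans (sup_le (norm_of_der_le (h.der_le0.trans h1) h2) (sup_le h3 h4)))
end lin
/-- 9.7 (a), first step -/
theorem exists_idx (h : H95 M U W₁ W₂ H₀ C p) (h1 : ¬ PGal M U H₀) :
    ∃ X, H₀ ≤ X ∧ X ≤ MF[M] ∧ U ≤ N[X] ∧ H₀.relIndex X = p := by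
  classical
  haveI := Fact.mk h.prime
  haveI := Fintype.ofFinite W₁
  obtain ⟨f, r, e, a⟩ := h.exists_lin
  let P : Submodule (ZMod p) (Fin #W₁ → ZMod p) → Prop := fun S => ∀ m : M, (m : G) ∈ U → ∀ v ∈ S, r m v ∈ S
  obtain ⟨S, ⟨b1, b2, b3⟩, b⟩ := wellFounded_lt.has_min {S | S ≠ ⊥ ∧ S ≠ ⊤ ∧ P S} (by
    simp only [PGal, not_forall, not_or] at h1
    obtain ⟨X, i, j, k, l, o⟩ := h1
    obtain ⟨S, rfl⟩ := e.exists_sub i j
    exact ⟨AddSubgroup.toZModSubmodule p S,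
      fun t => l ((congrArg e.sub (congrArg Submodule.toAddSubgroup t)).trans e.sub_bot),
      fun t => o ((congrArg e.sub (congrArg Submodule.toAddSubgroup t)).trans e.sub_top), (h.norm_sub e a h.leU).1 k⟩)
  let T : W₁ → Submodule (ZMod p) (Fin #W₁ → ZMod p) := fun w => S.map (r (inclusion h.le1 w))
  have c : ∀ (w : W₁) (m : M) v, r m (r (inclusion h.le1 w) v) =
      r (inclusion h.le1 w) (r ((inclusion h.le1 w)⁻¹ * m * inclusion h.le1 w) v) := fun w m v => by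
    rw [← Module.End.mul_apply, ← Module.End.mul_apply, ← map_mul, ← map_mul]; congr 2; group
  have c1 : ∀ w, P (T w) := by
    rintro w m i _ ⟨v, j, rfl⟩
    exact ⟨_, b3 _ (conj_mem' (h.norm w.2) i) v j, (c w m v).symm⟩
  have c2 : ∀ w, Module.finrank (ZMod p) (T w) = Module.finrank (ZMod p) S := fun w =>
    (Submodule.equivMapOfInjective _ ((Module.End.isUnit_iff _).1 ((Group.isUnit _).map r)).1 S).finrank_eq.symm
  have c3 : ∀ s : Finset W₁, P (s.sup T) ∧ Module.finrank (ZMod p) S ∣ Module.finrank (ZMod p) ↥(s.sup T) := fun s => by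
    induction s using Finset.induction_on with
    | empty => exact ⟨fun m _ v i => by rw [(Submodule.mem_bot _).1 i, map_zero]; exact zero_mem _,
        by rw [Finset.sup_empty, finrank_bot]; exact dvd_zero _⟩
    | insert w s _ i =>
      rw [Finset.sup_insert]
      refine ⟨fun m j v k => ?_, ?_⟩
      · obtain ⟨x, k1, y, k2, rfl⟩ := Submodule.mem_sup.1 k
        exact map_add (r m) x y ▸ Submodule.add_mem_sup (c1 w m j x k1) (i.1 m j y k2)
      by_cases j : S ⊓ (s.sup T).comap (r (inclusion h.le1 w)) = ⊥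
      · have k : T w ⊓ s.sup T = ⊥ := eq_bot_iff.2 (by
          rintro _ ⟨⟨v, l, rfl⟩, o⟩
          rw [(Submodule.mem_bot _).1 (j.le ⟨l, o⟩), map_zero]; exact zero_mem _)
        have := Submodule.finrank_sup_add_finrank_inf_eq (T w) (s.sup T)
        rw [k, finrank_bot, add_zero, c2] at this
        exact this ▸ dvd_add dvd_rfl i.2
      · have k : S ⊓ (s.sup T).comap (r (inclusion h.le1 w)) = S := by_contra fun k =>
          b _ ⟨j, ne_top_of_le_ne_top b2 inf_le_left, fun m l v o => ⟨b3 m l v o.1, by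
            have := i.1 (inclusion h.le1 w * m * (inclusion h.le1 w)⁻¹) (conj_mem (h.norm w.2) l) _ o.2
            rwa [c, show (inclusion h.le1 w)⁻¹ * (inclusion h.le1 w * m * (inclusion h.le1 w)⁻¹) *
              inclusion h.le1 w = m by group] at this⟩⟩ (lt_of_le_of_ne inf_le_left k)
        rw [sup_eq_right.2 (Submodule.map_le_iff_le_comap.2 (k.ge.trans inf_le_right))]
        exact i.2
  have d : Finset.univ.sup T = ⊤ := by
    have i : S ≤ Finset.univ.sup T := fun v i => Finset.le_sup (f := T) (Finset.mem_univ 1) ⟨v, i, by simp⟩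
    refine (h.irr (e.le_sub (Finset.univ.sup T).toAddSubgroup) (e.sub_le _) ((h.norm_sub e a h.leU).2 (c3 _).1)
      ((h.norm_sub e a h.le1).2 fun m j => ?_)).elim (fun j => ?_) fun j => ?_
    rotate_left
    · exact absurd (eq_bot_iff.2 (i.trans (Submodule.toAddSubgroup_injective
        (e.sub_inj (j.trans e.sub_bot.symm))).le)) b1
    · exact Submodule.toAddSubgroup_injective (e.sub_inj (j.trans e.sub_top.symm))
    · refine show Finset.univ.sup T ≤ (Finset.univ.sup T).comap (r m) from Finset.sup_le fun w _ => ?_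
      rintro _ ⟨v, k, rfl⟩
      refine Finset.le_sup (f := T) (Finset.mem_univ (⟨m, j⟩ * w)) ⟨v, k, ?_⟩
      rw [map_mul, map_mul]; rfl
  have := (c3 Finset.univ).2
  rw [d, finrank_top, Module.finrank_fin_fun] at this
  refine ⟨e.sub S.toAddSubgroup, e.le_sub _, e.sub_le _, (h.norm_sub e a h.leU).2 b3, ?_⟩
  rw [e.relIndex]
  change Nat.card S = p
  rw [Module.natCard_eq_pow_finrank (K := ZMod p), Nat.card_zmod, ((Nat.dvd_prime h.qprime).1 this).resolve_right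
    fun i => b2 (Submodule.eq_top_of_finrank_eq (by rw [i, Module.finrank_fin_fun])), pow_one]
/-- 9.7 (a), second step -/
theorem exists_ngal_of (h : H95 M U W₁ W₂ H₀ C p) (h1 : H₀ ≤ X) (h2 : X ≤ MF[M]) (h3 : U ≤ N[X])
    (h4 : H₀.relIndex X = p) : ∃ f χ, NGal M U W₁ H₀ p f χ ∧ ∀ x ∈ MF[M], x ∈ X ↔ ∀ v, v ≠ 1 → f x v = 0 := by
  classical
  haveI := Fact.mk h.prime
  haveI := Fintype.ofFinite W₁
  obtain ⟨f, r, e, a⟩ := h.exists_lin
  obtain ⟨S, rfl⟩ := e.exists_sub h1 h2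
  obtain ⟨S, rfl⟩ := (AddSubgroup.toZModSubmodule p).symm.surjective S
  rw [e.relIndex] at h4
  have b : Module.finrank (ZMod p) S = 1 := Nat.pow_right_injective h.prime.two_le (by
    have := Module.natCard_eq_pow_finrank (K := ZMod p) (V := S)
    rw [Nat.card_zmod] at this
    exact this.symm.trans (h4.trans (pow_one p).symm))
  obtain ⟨⟨v, v1⟩, v2⟩ := (Module.finrank_pos_iff_exists_ne_zero (R := ZMod p) (M := S)).1 (b ▸ one_pos)
  have v0 : v ≠ 0 := fun i => v2 (Subtype.ext i)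
  have c : ∀ y ∈ S, ∃ t : ZMod p, t • v = y := fun y i =>
    ((finrank_eq_one_iff_of_nonzero' _ v2).1 b ⟨y, i⟩).imp fun _ => congrArg Subtype.val
  choose k hk using fun u : U => c _ ((h.norm_sub e a h.leU).1 h3 (inclusion h.leU u) u.2 v v1)
  let χ : U →* ZMod p := ⟨⟨k, smul_left_injective _ v0 (by simp [hk])⟩, fun s t => smul_left_injective _ v0 (by
    simp only [hk, map_mul, Module.End.mul_apply]
    rw [← hk t, map_smul, ← hk s, smul_smul, mul_comm])⟩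
  let ω : W₁ → Fin #W₁ → ZMod p := fun w => r (inclusion h.le1 w) v
  have c1 : ∀ s t : W₁, r (inclusion h.le1 s) (ω t) = ω (s * t) := fun s t => by
    simp only [ω, map_mul, Module.End.mul_apply]
  have c2 : ∀ u (i : u ∈ U) (t : W₁), r ⟨u, h.leU i⟩ (ω t) =
      ((PHom.mk U χ.toHomUnits).app ((t : G)⁻¹ * u * t) : ZMod p) • ω t := fun u i t => by
    rw [app_eq (φ := PHom.mk U χ.toHomUnits) (conj_mem' (h.norm t.2) i), ← map_smul]
    change _ = r _ (k _ • v)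
    rw [hk, ← Module.End.mul_apply, ← Module.End.mul_apply, ← map_mul, ← map_mul]
    congr 2; ext; simp [mul_assoc]
  have d : ⊤ ≤ Submodule.span (ZMod p) (Set.range ω) := by
    have i : ∀ m : M, (∀ t, r m (ω t) ∈ Submodule.span (ZMod p) (Set.range ω)) →
        ∀ y ∈ Submodule.span (ZMod p) (Set.range ω), r m y ∈ Submodule.span (ZMod p) (Set.range ω) := fun m i y j =>
      (Submodule.span_le (p := (Submodule.span (ZMod p) (Set.range ω)).comap (r m))).2 (Set.range_subset_iff.2 i) j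
    rcases h.irr (e.le_sub (Submodule.span (ZMod p) (Set.range ω)).toAddSubgroup) (e.sub_le _)
      ((h.norm_sub e a h.leU).2 fun m j => i m fun t => c2 m j t ▸ Submodule.smul_mem _ _
        (Submodule.subset_span ⟨t, rfl⟩)) ((h.norm_sub e a h.le1).2 fun m j => i m fun t =>
          Submodule.subset_span ⟨_, (c1 ⟨m, j⟩ t).symm⟩) with j | j
    · exact absurd ((e.sub_inj (j.trans e.sub_bot.symm)).le (Submodule.subset_span ⟨1, by simp [ω]⟩)) v0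
    · exact (Submodule.toAddSubgroup_injective (e.sub_inj (j.trans e.sub_top.symm))).ge
  let B := basisOfTopLeSpanOfCardEqFinrank ω d (by rw [Module.finrank_fin_fun, Nat.card_eq_fintype_card])
  have hB : ∀ t, B t = ω t := congrFun (coe_basisOfTopLeSpanOfCardEqFinrank ..)
  refine ⟨fun x => B.equivFun (f x), PHom.mk U χ.toHomUnits, ⟨e.comp B.equivFun.toAddEquiv, rfl,
    fun w x i t => ?_, fun u i x j t => ?_⟩, fun x i => ?_⟩
  · rw [show f (w * x * (w : G)⁻¹) = _ from a (inclusion h.le1 w) x i]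
    exact LinearMap.congr_fun (B.ext (f₁ := B.coord (w * t) ∘ₗ r _) (f₂ := B.coord t) fun s => by
      rw [LinearMap.comp_apply, hB, c1, ← hB, ← hB]; simp [Finsupp.single_apply]) (f x)
  · rw [show f (u * x * u⁻¹) = _ from a ⟨u, h.leU i⟩ x j]
    exact LinearMap.congr_fun (B.ext (f₁ := B.coord t ∘ₗ r _) (f₂ := ((PHom.mk U χ.toHomUnits).app ((t : G)⁻¹ * u * t) : ZMod p) • B.coord t) fun s => by
      rw [LinearMap.comp_apply, hB, c2 u i, ← hB]
      by_cases l : s = t <;> simp [Finsupp.single_apply, l]) (f x)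
  · have j : B 1 = v := by simp [hB, ω]
    refine (and_iff_right i).trans ⟨fun l t o => ?_, fun l => ?_⟩
    · obtain ⟨z, l⟩ := c _ l
      change B.equivFun (f x) t = 0
      rw [← l, ← j]; simp [Finsupp.single_apply, o.symm]
    · change f x ∈ S
      rw [← B.sum_equivFun (f x), Finset.sum_eq_single 1 (fun t _ o => by rw [show B.equivFun (f x) t = 0 from l t o, zero_smul]) (by simp), j]
      exact S.smul_mem _ v1
/-- 9.7 (a) -/
theorem exists_ngal (h : H95 M U W₁ W₂ H₀ C p) (h1 : ¬ PGal M U H₀) : ∃ f χ, NGal M U W₁ H₀ p f χ := by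
  obtain ⟨X, a, b, c, d⟩ := h.exists_idx h1
  obtain ⟨f, χ, e, -⟩ := h.exists_ngal_of a b c d
  exact ⟨f, χ, e⟩
/-- 9.7 (b) -/
theorem exists_gal (h : H95 M U W₁ W₂ H₀ C p) (h1 : PGal M U H₀) :
    ∃ (F : Type) (_ : Field F) (_ : Fintype F) (f : G → F) (ψ : PHom G Fˣ) (η : W₁ →* (F ≃+* F)),
      Gal M U W₁ W₂ H₀ C p F f ψ η := by
  classical
  haveI := Fact.mk h.prime
  obtain ⟨f, r, e, a⟩ := h.exists_lin
  have irr : ∀ S : Submodule (ZMod p) (Fin #W₁ → ZMod p), (∀ m : M, (m : G) ∈ U → ∀ v ∈ S, r m v ∈ S) →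
      S = ⊥ ∨ S = ⊤ := fun S i =>
    (h1 _ (e.le_sub S.toAddSubgroup) (e.sub_le _) ((h.norm_sub e a h.leU).2 i)).imp
      (fun j => Submodule.toAddSubgroup_injective (e.sub_inj (j.trans e.sub_bot.symm)))
      fun j => Submodule.toAddSubgroup_injective (e.sub_inj (j.trans e.sub_top.symm))
  have kC : ∀ m : M, (m : G) ∈ U → (r m = 1 ↔ (m : G) ∈ C) := fun m i => by
    rw [h.memC, and_iff_right i]
    refine ⟨fun j x k => (e.eq_iff (conj_mem (MF_norm M m.2) k) k).1 (by rw [a m x k, j]; rfl),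
      fun j => LinearMap.ext fun v => ?_⟩
    obtain ⟨x, k, rfl⟩ := e.surj v
    exact (a m x k).symm.trans ((e.eq_iff (conj_mem (MF_norm M m.2) k) k).2 (j x k))
  let A := Subalgebra.centralizer (ZMod p) (r '' {m : M | (m : G) ∈ U})
  have mA : ∀ {z}, z ∈ A ↔ ∀ m : M, (m : G) ∈ U → r m * z = z * r m := fun {z} =>
    (Subalgebra.mem_centralizer_iff _).trans Set.forall_mem_image
  have rA : ∀ m : M, (m : G) ∈ U → r m ∈ A := fun m i => mA.2 fun n j => by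
    have := (kC (n * m * n⁻¹ * m⁻¹) (mul_mem (mul_mem (mul_mem j i) (inv_mem j)) (inv_mem i))).2
      (h.der_le_C (comm_mem j i))
    rw [← map_mul, ← map_mul, ← one_mul (r (m * n)), ← this, ← map_mul]; congr 1; group
  obtain ⟨y, y1, y2⟩ : ∃ y ∈ W₂, y ∉ H₀ := SetLike.not_le_iff_exists.1 fun i =>
    h.prime.one_lt.ne' (h.idx2.symm.trans (relIndex_eq_one.2 i))
  have y3 := h.le2 y1
  have v0 : f y ≠ 0 := fun i => y2 ((e.ker y y3).1 i)
  have inj : ∀ z : A, z ≠ 0 → Function.Injective z.1 := fun z i =>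
    LinearMap.ker_eq_bot.1 ((irr _ fun m j v k => by
      rw [LinearMap.mem_ker, ← Module.End.mul_apply, ← mA.1 z.2 m j, Module.End.mul_apply, LinearMap.mem_ker.1 k,
        map_zero]).resolve_right fun j => i (Subtype.ext (LinearMap.ker_eq_top.1 j)))
  let ev : A →ₗ[ZMod p] (Fin #W₁ → ZMod p) := (LinearMap.applyₗ (f y)).comp A.val.toLinearMap
  have evb : Function.Bijective ev := by
    refine ⟨(injective_iff_map_eq_zero _).2 fun z i => by_contra fun j => v0 (inj z j (i.trans (map_zero _).symm)),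
      LinearMap.range_eq_top.1 ((irr _ ?_).resolve_left fun i => v0 (i.le ⟨1, rfl⟩))⟩
    rintro m i _ ⟨z, rfl⟩
    exact ⟨⟨r m, rA m i⟩ * z, rfl⟩
  haveI : Finite A := Finite.of_injective _ evb.1
  haveI : Nontrivial A := ⟨1, 0, fun i => v0 (show ev 1 = 0 by rw [i, map_zero])⟩
  haveI : NoZeroDivisors A := ⟨fun {s t} i => or_iff_not_imp_left.2 fun j => evb.1 (inj s j (by
    rw [map_zero, map_zero]; exact show ev (s * t) = 0 by rw [i, map_zero]))⟩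
  haveI : IsDomain A := NoZeroDivisors.to_isDomain A
  letI : Field A := (Finite.isDomain_to_isField A).toField
  let k := LinearEquiv.ofBijective ev evb
  let ψ : U →* A := ⟨⟨fun u => ⟨r (inclusion h.leU u), rA _ u.2⟩, Subtype.ext (map_one (r.comp (inclusion h.leU)))⟩,
    fun s t => Subtype.ext (map_mul (r.comp (inclusion h.leU)) s t)⟩
  have hψ : ∀ u (i : u ∈ U), (((PHom.mk U ψ.toHomUnits).app u : A) : Module.End (ZMod p) _) = r ⟨u, h.leU i⟩ :=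
    fun u i => by rw [app_eq (φ := PHom.mk U ψ.toHomUnits) i]; rfl
  have cA : ∀ (w : W₁) (z : A), r (inclusion h.le1 w) * z * r (inclusion h.le1 w⁻¹) ∈ A := fun w z => mA.2 fun m i => by
    have := mA.1 z.2 (inclusion h.le1 w⁻¹ * m * inclusion h.le1 w) (conj_mem' (h.norm w.2) i)
    have t : ∀ s t : W₁, r (inclusion h.le1 s) * r (inclusion h.le1 t) = r (inclusion h.le1 (s * t)) := fun s t => by
      rw [map_mul, map_mul]
    calc _ = r (inclusion h.le1 w) * (r (inclusion h.le1 w⁻¹ * m * inclusion h.le1 w) * z) * r (inclusion h.le1 w⁻¹) := by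
          simp only [map_mul, ← mul_assoc, t, mul_inv_cancel, map_one, one_mul]
      _ = _ := by rw [this]; simp only [map_mul, mul_assoc, t, mul_inv_cancel, map_one, mul_one]
  let η₀ : W₁ → A →+* A := fun w => ⟨⟨⟨fun z => ⟨_, cA w z⟩, Subtype.ext (by simp [← map_mul])⟩, fun s t => Subtype.ext (by
    simp only [Subalgebra.coe_mul, mul_assoc]
    rw [← mul_assoc (r (inclusion h.le1 w⁻¹)), ← map_mul, ← map_mul, inv_mul_cancel, map_one, map_one, one_mul])⟩,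
    Subtype.ext (by simp), fun s t => Subtype.ext (by simp [mul_add, add_mul])⟩
  have η1 : ∀ s t z, η₀ (s * t) z = η₀ s (η₀ t z) := fun s t z => Subtype.ext (by
    simp only [η₀, RingHom.coe_mk, MonoidHom.coe_mk, OneHom.coe_mk, mul_inv_rev, map_mul, mul_assoc])
  have η2 : ∀ z, η₀ 1 z = z := fun z => Subtype.ext (by simp [η₀])
  let η : W₁ →* (A ≃+* A) := MonoidHom.mk' (fun w => RingEquiv.ofRingHom (η₀ w) (η₀ w⁻¹)
    (RingHom.ext fun z => (η1 _ _ z).symm.trans (by rw [mul_inv_cancel]; exact η2 z))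
    (RingHom.ext fun z => (η1 _ _ z).symm.trans (by rw [inv_mul_cancel]; exact η2 z))) fun s t => RingEquiv.ext (η1 s t)
  have e' := e.comp k.symm.toAddEquiv
  have k1 : k.symm (f y) = 1 := k.symm_apply_eq.2 rfl
  have wU : ∀ w : W₁, ∀ u ∈ U, ((PHom.mk U ψ.toHomUnits).app (w * u * (w : G)⁻¹) : A) =
      η w ((PHom.mk U ψ.toHomUnits).app u) := fun w u i => Subtype.ext (by
    rw [hψ _ (conj_mem (h.norm w.2) i)]
    change _ = _ * Subtype.val _ * _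
    rw [hψ u i, ← map_mul, ← map_mul]; rfl)
  have kψ : (PHom.mk U ψ.toHomUnits).ker = C := by
    ext u
    refine mem_ker.trans ⟨fun i => (kC ⟨u, h.leU i.1⟩ i.1).1 (by rw [← hψ u i.1, i.2]; rfl), fun i => ⟨h.C_le i, ?_⟩⟩
    exact Units.ext (Subtype.ext ((hψ u (h.C_le i)).trans ((kC _ (h.C_le i)).2 i)))
  haveI : CharP A p := charP_of_injective_algebraMap (algebraMap (ZMod p) A).injective p
  letI := Fintype.ofFinite A
  refine ⟨A, inferInstance, inferInstance, fun x => k.symm (f x), PHom.mk U ψ.toHomUnits, η, e', ?_, inferInstance, rfl,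
    kψ, fun u i x j => ?_, fun w x j => ?_, wU, (injective_iff_map_eq_one η).2 fun w i => by_contra fun j => ?_,
    fun x i => ?_⟩
  · rw [← Nat.card_eq_fintype_card, Nat.card_congr k.toEquiv, Nat.card_fun, Nat.card_zmod, Nat.card_fin]
  · rw [show f (u * x * u⁻¹) = _ from a ⟨u, h.leU i⟩ x j, k.symm_apply_eq, ← hψ u i]
    conv_lhs => rw [← k.apply_symm_apply (f x)]
    rfl
  · rw [show f (w * x * (w : G)⁻¹) = _ from a (inclusion h.le1 w) x j, k.symm_apply_eq]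
    conv_lhs => rw [← k.apply_symm_apply (f x)]
    have := a (inclusion h.le1 w⁻¹) y y3
    rw [show (inclusion h.le1 w⁻¹ : G) * y * (inclusion h.le1 w⁻¹ : G)⁻¹ = y from
      mul_inv_eq_of_eq_mul (h.comm _ (w⁻¹).2 y y1)] at this
    change _ = r (inclusion h.le1 w) ((k.symm (f x)).1 (r (inclusion h.le1 w⁻¹) (f y)))
    rw [← this]; rfl
  · refine h.C_ne (h.C_le.antisymm fun u l => h.regC w.2 (fun t => j (Subtype.ext t)) l ?_)
    have := wU w u l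
    rw [i] at this
    have l' := conj_mem (h.norm w.2) l
    have := (app_eq_iff (φ := PHom.mk U ψ.toHomUnits) l l').1 (Units.ext this).symm
    rw [kψ] at this
    simpa [mul_assoc] using conj_mem (h.nC (mem_sup_left l)) this
  · rw [← Subfield.mem_bot_iff_pow_eq_self, mem_bot_iff_intCast p]
    refine ⟨fun j => ?_, fun ⟨n, j⟩ => ?_⟩
    · rcases eq_or_eq_of_relIndex_prime (D := H₀) (Y := W₂ ⊔ H₀) (X := (W₂ ⊔ H₀) ⊓ e'.sub (AddSubgroup.zmultiples 1))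
        (by rw [sup_comm, relIndex_sup_l (h.le2.trans h.chief.nUV), h.idx2]; exact h.prime)
        (le_inf le_sup_right (e'.le_sub _)) inf_le_left with l | l
      · exact absurd (l.le ⟨mem_sup_left y1, y3, 1, by simpa using k1.symm⟩) y2
      · obtain ⟨n, t⟩ := (l.ge j).2.2
        exact ⟨n, by simpa using t⟩
    · have := (e'.eq_iff i (zpow_mem y3 n)).1 (by rw [e'.zpow y3]; simp [k1, j])
      exact (mul_mem_cancel_right (inv_mem (mem_sup_left (zpow_mem y1 n)))).1 (mem_sup_right this)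
end H95

/-- a `W₁`-invariant linear character of `U` is trivial -/
theorem PD.inv_triv {A : Type*} [CommGroup A] (h : PD M U W₁ W₂) (φ : U →* A)
    (h1 : ∀ w (i : w ∈ W₁) (u : U), φ ⟨w * u * w⁻¹, conj_mem (h.norm i) u.2⟩ = φ u) (u : U) : φ u = 1 := by
  obtain ⟨w, a, b⟩ := exists_mem_ne_one h.ne1
  have c : ∀ x (i : x ∈ U), x ∈ (PHom.mk U φ).ker ↔ φ ⟨x, i⟩ = 1 := fun x i => by
    rw [mem_ker, app_eq (φ := PHom.mk U φ) i]; exact and_iff_right i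
  refine (c u u.2).1 (h.reg_quo ker_le_dom (sup_le (dom_norm_ker (φ := PHom.mk U φ)) (le_N_iff.2 fun v i x j => ?_)) a b u.2 ?_)
  · exact (c _ _).2 ((h1 v i ⟨x, ker_le_dom j⟩).trans ((c _ _).1 j))
  · refine (c _ (mul_mem (conj_mem (h.norm a) u.2) (inv_mem u.2))).2 ?_
    rw [← mul_inv_cancel (φ u), ← map_inv]
    conv_rhs => rw [← h1 w a u, ← map_mul]
    rfl
theorem cyc_quo_ker {A : Type*} [CommGroup A] [IsCyclic A] (φ : PHom G A) : Cyc (φ.dom ÷ φ.ker) :=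
  cyc_im_of_ker_le (φ := φ) le_rfl dom_norm_ker (inf_le_right.trans (quo_ker _).ge) inferInstance

namespace NGal
variable {f : G → W₁ → ZMod p} {χ : PHom G (ZMod p)ˣ}
theorem memC (e : NGal M U W₁ H₀ p f χ) (h : H95 M U W₁ W₂ H₀ C p) :
    u ∈ C ↔ u ∈ U ∧ ∀ v ∈ W₁, v⁻¹ * u * v ∈ χ.ker := by
  rw [h.memC]
  refine and_congr_right fun i => ⟨fun j v k => mem_ker.2 ⟨e.dom.ge (conj_mem' (h.norm k) i), Units.ext ?_⟩,
    fun j x k => (e.eq_iff (conj_mem (MF_norm M (h.leU i)) k) k).1 (funext fun v => ?_)⟩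
  · obtain ⟨x, l, o⟩ := e.surj fun _ => 1
    have := e.actU u i x l ⟨v, k⟩
    rw [(e.eq_iff (conj_mem (MF_norm M (h.leU i)) l) l).2 (j x l), o, mul_one] at this
    exact this.symm
  · rw [e.actU u i x k, (mem_ker.1 (j v v.2)).2, Units.val_one, one_mul]
theorem C_le (e : NGal M U W₁ H₀ p f χ) (h : H95 M U W₁ W₂ H₀ C p) : C ≤ χ.ker := fun u i => by
  simpa using ((e.memC h).1 i).2 1 (one_mem _)
omit [Finite G] hG in
theorem ker_le (e : NGal M U W₁ H₀ p f χ) : χ.ker ≤ U := e.dom ▸ ker_le_dom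
omit [Finite G] hG in
theorem n_ker (e : NGal M U W₁ H₀ p f χ) : U ≤ N[χ.ker] := e.dom ▸ dom_norm_ker
/-- `a = |U : C_U(H₁)|` -/
theorem one_lt (e : NGal M U W₁ H₀ p f χ) (h : H95 M U W₁ W₂ H₀ C p) : 1 < χ.ker.relIndex U :=
  lt_of_le_of_ne (relIndex_pos _ _) fun i => h.C_ne (h.C_le.antisymm fun u j => (e.memC h).2
    ⟨j, fun v k => relIndex_eq_one.1 i.symm (conj_mem' (h.norm k) j)⟩)
theorem dvd (e : NGal M U W₁ H₀ p f χ) (h : H95 M U W₁ W₂ H₀ C p) : χ.ker.relIndex U ∣ p - 1 := by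
  haveI := Fact.mk h.prime
  rw [← card_im e.dom.ge, ← ZMod.card_units p, ← Nat.card_eq_fintype_card]
  exact card_subgroup_dvd_card _
theorem cyc (e : NGal M U W₁ H₀ p f χ) (h : H95 M U W₁ W₂ H₀ C p) : Cyc (U ÷ χ.ker) :=
  haveI := Fact.mk h.prime
  e.dom ▸ cyc_quo_ker χ
theorem pow_mem (e : NGal M U W₁ H₀ p f χ) (h : H95 M U W₁ W₂ H₀ C p) (hu : u ∈ U) : u ^ χ.ker.relIndex U ∈ C :=
  (e.memC h).2 ⟨U.pow_mem hu _, fun v i => by
    have := @conj_pow G _ (χ.ker.relIndex U) v⁻¹ u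
    rw [inv_inv] at this
    exact this ▸ pow_relIndex_mem e.n_ker (conj_mem' (h.norm i) hu)⟩
theorem prod_eq (e : NGal M U W₁ H₀ p f χ) (h : H95 M U W₁ W₂ H₀ C p) [Fintype W₁] (hu : u ∈ U) :
    ∏ v : W₁, χ.app ((v : G)⁻¹ * u * v) = 1 := by
  have a : ∀ (v : W₁) (u : U), (v : G)⁻¹ * u * v ∈ χ.dom := fun v u => e.dom.ge (conj_mem' (h.norm v.2) u.2)
  refine h.inv_triv (MonoidHom.mk' (fun u : U => ∏ v : W₁, χ.app ((v : G)⁻¹ * u * v)) fun s t => ?_)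
    (fun w i u => ?_) ⟨u, hu⟩
  · rw [← Finset.prod_mul_distrib]
    refine Finset.prod_congr rfl fun v _ => ?_
    rw [← app_mul (a v s) (a v t)]; simp [mul_assoc]
  · exact (Fintype.prod_equiv (Equiv.mulLeft ⟨w, i⟩) _ _ fun v => by simp [mul_assoc]).symm
theorem exists_hom (e : NGal M U W₁ H₀ p f χ) (h : H95 M U W₁ W₂ H₀ C p) :
    ∃ g : U →* (Fin (#W₁ - 1) → Multiplicative (ZMod (χ.ker.relIndex U))), g.ker = C.subgroupOf U := by
  classical
  haveI := Fact.mk h.prime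
  haveI := Fintype.ofFinite W₁
  let k : χ.im U ≃* Multiplicative (ZMod (χ.ker.relIndex U)) := mulEquivOfCyclicCardEq (by
    rw [card_im e.dom.ge]; exact (Nat.card_zmod _).symm)
  let s : Fin (#W₁ - 1) ≃ {v : W₁ // v ≠ 1} := Fintype.equivOfCardEq (by simp)
  let c : W₁ → U →* U := fun v => MonoidHom.mk' (fun u => ⟨(v : G)⁻¹ * u * v, conj_mem' (h.norm v.2) u.2⟩)
    fun s t => Subtype.ext (by simp [mul_assoc])
  refine ⟨Pi.monoidHom fun i => k.toMonoidHom.comp ((res e.dom.ge).comp (c (s i))), Subgroup.ext fun u => ?_⟩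
  have a : ∀ v : W₁, k (res e.dom.ge (c v u)) = 1 ↔ χ.app ((v : G)⁻¹ * u * v) = 1 := fun v => by
    rw [k.map_eq_one_iff, Subtype.ext_iff, res_coe]; rfl
  rw [mem_subgroupOf, e.memC h, and_iff_right u.2, MonoidHom.mem_ker, funext_iff]
  refine ⟨fun i v j => mem_ker.2 ⟨e.dom.ge (conj_mem' (h.norm j) u.2), ?_⟩,
    fun i t => (a _).2 (mem_ker.1 (i _ (s t).1.2)).2⟩
  have b : ∀ v : W₁, v ≠ 1 → χ.app ((v : G)⁻¹ * u * v) = 1 := fun v l => by
    obtain ⟨t, l'⟩ := s.surjective ⟨v, l⟩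
    obtain rfl : (s t).1 = v := congrArg Subtype.val l'
    exact (a _).1 (i t)
  by_cases l : (⟨v, j⟩ : W₁) = 1
  · have := e.prod_eq h u.2
    rwa [Finset.prod_eq_single ⟨v, j⟩ (fun t _ o => b t (l ▸ o)) (by simp)] at this
  · exact b ⟨v, j⟩ l
theorem u_dvd (e : NGal M U W₁ H₀ p f χ) (h : H95 M U W₁ W₂ H₀ C p) :
    C.relIndex U ∣ χ.ker.relIndex U ^ (#W₁ - 1) := by
  obtain ⟨g, a⟩ := e.exists_hom h
  have := card_subgroup_dvd_card g.range
  rwa [← index_ker, a, Nat.card_fun, Nat.card_fin, show Nat.card (Multiplicative (ZMod _)) = _ from Nat.card_zmod _] at this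
theorem mem2 (e : NGal M U W₁ H₀ p f χ) (h : H95 M U W₁ W₂ H₀ C p) (hx : x ∈ MF[M]) :
    x ∈ W₂ ⊔ H₀ ↔ ∀ v, f x v = f x 1 := by
  let S := (Pi.constAddMonoidHom W₁ (ZMod p)).range
  have a : ∀ g : W₁ → ZMod p, g ∈ S ↔ ∀ v, g v = g 1 := fun g =>
    ⟨fun ⟨_, i⟩ v => i ▸ rfl, fun i => ⟨g 1, funext fun v => (i v).symm⟩⟩
  have b : W₂ ⊔ H₀ ≤ e.sub S := sup_le (fun y i => ⟨h.le2 i, (a _).2 fun v => by
    have := e.actW v y (h.le2 i) 1
    rwa [mul_one, mul_inv_eq_of_eq_mul (h.comm _ v.2 y i)] at this⟩) (e.le_sub S)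
  rw [(eq_or_eq_of_relIndex_prime (by
    rw [e.relIndex, ← Nat.card_congr (AddMonoidHom.ofInjective fun s t i => congrFun i 1).toEquiv, Nat.card_zmod]
    exact h.prime) le_sup_right b).resolve_left fun i => h.prime.one_lt.ne'
      (h.idx2.symm.trans (relIndex_eq_one.2 (le_sup_left.trans i.le))), e.mem_sub, a, and_iff_right hx]
end NGal

namespace Gal
variable {F : Type} [Field F] [Fintype F] {f : G → F} {ψ : PHom G Fˣ} {η : W₁ →* (F ≃+* F)}
theorem cyc (e : Gal M U W₁ W₂ H₀ C p F f ψ η) : Cyc (U ÷ C) := e.dom ▸ e.kerC ▸ cyc_quo_ker ψ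
theorem fix (e : Gal M U W₁ W₂ H₀ C p F f ψ η) (h : H95 M U W₁ W₂ H₀ C p) {z : Fˣ} (h1 : z ^ (p - 1) = 1) (w : W₁) :
    η w z = z := by
  haveI := Fact.mk h.prime
  haveI := e.char
  obtain ⟨n, a⟩ := (mem_bot_iff_intCast p F).1 ((Subfield.mem_bot_iff_pow_eq_self F p).2 (show (z : F) ^ p = z by
    rw [← Nat.sub_add_cancel h.prime.one_le, pow_succ, ← Units.val_pow_eq_pow_val, h1, Units.val_one, one_mul]))
  rw [← a, map_intCast]
theorem cop (e : Gal M U W₁ W₂ H₀ C p F f ψ η) (h : H95 M U W₁ W₂ H₀ C p) : (C.relIndex U).Coprime (p - 1) := by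
  refine Nat.coprime_of_dvd fun r a b c => ?_
  rw [← e.kerC, ← card_im e.dom.ge] at b
  obtain ⟨z, i, j⟩ := cauchy a b
  obtain ⟨u, k, l, rfl⟩ := mem_im.1 i
  obtain ⟨w, s, t⟩ := exists_mem_ne_one h.ne1
  have := (e.actWU ⟨w, s⟩ u k).trans (e.fix h (orderOf_dvd_iff_pow_eq_one.1 (j ▸ c)) _)
  have := (app_eq_iff l (e.dom.ge (conj_mem (h.norm s) k))).1 (Units.ext this).symm
  rw [e.kerC] at this
  have := h.regC s t k (by simpa [mul_assoc] using conj_mem (h.nC (mem_sup_left k)) this)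
  rw [(mem_ker.1 (e.kerC.ge this)).2, orderOf_one] at j
  exact a.one_lt.ne j
theorem dvd (e : Gal M U W₁ W₂ H₀ C p F f ψ η) (h : H95 M U W₁ W₂ H₀ C p) :
    C.relIndex U ∣ (p ^ #W₁ - 1) / (p - 1) := by
  classical
  have a : (p ^ #W₁ - 1) / (p - 1) * (p - 1) = p ^ #W₁ - 1 := Nat.div_mul_cancel (Nat.sub_one_dvd_pow_sub_one p _)
  rw [← e.kerC, ← card_im e.dom.ge, ← IsCyclic.exponent_eq_card, Monoid.exponent_dvd_iff_forall_pow_eq_one]
  intro z
  obtain ⟨u, rfl⟩ := res_surj e.dom.ge z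
  refine Subtype.ext (h.inv_triv ((powMonoidHom ((p ^ #W₁ - 1) / (p - 1))).comp ((ψ.im U).subtype.comp (res e.dom.ge)))
    (fun w i u => Units.ext ?_) u)
  simp only [MonoidHom.comp_apply, powMonoidHom_apply, subtype_apply, res_coe, Units.val_pow_eq_pow_val]
  rw [show (ψ.app (w * u * w⁻¹) : F) = _ from e.actWU ⟨w, i⟩ u u.2, ← map_pow, ← Units.val_pow_eq_pow_val,
    e.fix h (by rw [← pow_mul, a, ← e.card, ← Fintype.card_units, pow_card_eq_one])]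
/-- `U/C` acts semiregularly on `H/H₀` -/
theorem reg (e : Gal M U W₁ W₂ H₀ C p F f ψ η) (h : H95 M U W₁ W₂ H₀ C p) (hu : u ∈ U) (hx : x ∈ MF[M])
    (h1 : u * x * u⁻¹ * x⁻¹ ∈ H₀) : u ∈ C ∨ x ∈ H₀ := or_iff_not_imp_right.2 fun i => by
  have := (e.actU u hu x hx).symm.trans ((e.eq_iff (conj_mem (MF_norm M (h.leU hu)) hx) hx).2 h1)
  exact e.kerC.le (mem_ker.2 ⟨e.dom.ge hu, Units.ext ((mul_eq_right₀ fun j => i ((e.ker x hx).1 j)).1 this)⟩)
end Gal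

end Cfsg.Agent.BG
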