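import Cfsg.Agent.PF.Base
import Cfsg.Agent.PF.S09g

/-! Peterfalvi, section 9, group theoretic part (9.1 - 9.7). -/

set_option autoImplicit false
set_option linter.unusedSectionVars false

namespace Cfsg.Agent.PF

open Cfsg Cfsg.Agent.BG Subgroup

variable {G : Type*} [Group G]

/-- Hypotheses (9.2), (9.5): `M` is of type II, III or IV, `H/H₀` is a chief factor of `M`
(`H = M_F`) of exponent `p` with `C_H(U) ≤ H₀`, and `C = C_U(H/H₀)`. -/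
structure P9 (M U W₁ W₂ H₀ C : Subgroup G) (p : ℕ) : Prop extends PD M U W₁ W₂ where
  une : U ≠ ⊥
  chief : Chief H₀ MF[M] M
  cent0 : MF[M] ⊓ C[U] ≤ H₀
  prime : p.Prime
  dvd : p ∣ H₀.relIndex MF[M]
  memC : ∀ x, x ∈ C ↔ x ∈ U ∧ ∀ y ∈ MF[M], x * y * x⁻¹ * y⁻¹ ∈ H₀

/-- case (9.7.b): `U` acts irreducibly on `H/H₀` -/
def Galois (M U H₀ : Subgroup G) : Prop := ∀ X, H₀ ≤ X → X < MF[M] → U ≤ N[X] → X = H₀

/-- case (9.7.a): `H/H₀` is the direct product of the `W₁`-conjugates of `H₁/H₀`, `U₁ = C_U(H₁/H₀)`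
has index `a` in `U`. -/
structure NonGal (M U W₁ H₀ H₁ U₁ : Subgroup G) (p a : ℕ) : Prop where
  le0 : H₀ ≤ H₁
  le : H₁ ≤ MF[M]
  idx : H₀.relIndex H₁ = p
  norm : U ≤ N[H₁]
  sup : ⨆ w ∈ W₁, cj w H₁ = MF[M]
  indep : ∀ w ∈ W₁, cj w H₁ ⊓ (H₀ ⊔ ⨆ v ∈ W₁, ⨆ _ : v ≠ w, cj v H₁) = H₀
  memU : ∀ x, x ∈ U₁ ↔ x ∈ U ∧ ∀ y ∈ H₁, x * y * x⁻¹ * y⁻¹ ∈ H₀
  idxU : U₁.relIndex U = a

variable [Finite G] [hG : MSO G] {M U W₁ W₂ H₀ C H₁ U₁ : Subgroup G} {p a : ℕ}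
include hG

/-- (9.3), type II -/
theorem _root_.Cfsg.Agent.BG.PD.card_typeII (h : PD M U W₁ W₂) (h2 : TypeP2 M) :
    MF[M] ⊓ C[U] = ⊥ ∧ #MF[M] = #W₂ ^ #W₁ :=
  h.core2 h2

/-- (9.3), types III and IV -/
theorem _root_.Cfsg.Agent.BG.PD.card_type34 (h : PD M U W₁ W₂) (h1 : TypeP1 M) (h2 : U ≠ ⊥) :
    (#W₂).Prime ∧ #MF[M] = #W₂ ^ #W₁ * #(MF[M] ⊓ C[U]) :=
  ⟨h.prime2_p1 h1, (h.core34 h1 h2).2⟩

theorem _root_.Cfsg.Agent.BG.H95.p9 (h : H95 M U W₁ W₂ H₀ C p) : P9 M U W₁ W₂ H₀ C p :=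
  ⟨h.toPD, h.une, h.chief, h.cU, h.prime, h.idx ▸ dvd_pow_self p (card_ne _), h.memC⟩

theorem P9.h95 (h : P9 M U W₁ W₂ H₀ C p) : H95 M U W₁ W₂ H₀ C p := by
  obtain ⟨q, a, b⟩ := h.chief.abelem (MF_nil M).sol
  obtain rfl : p = q := b.pig a p h.prime (card_quo h.chief.nUV ▸ h.dvd)
  exact ⟨h.toPD, h.une, h.chief, h.cent0, h.prime,
    fun x i => (quo_ker H₀).le (((abelem_im_iff h.chief.nUV).1 b).2 x i), h.memC⟩

omit [Finite G] hG in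
theorem galois_iff : Galois M U H₀ ↔ PGal M U H₀ :=
  ⟨fun h X a b c => or_iff_not_imp_right.2 fun i => h X a (lt_of_le_of_ne b i) c,
    fun h X a b c => (h X a b.le c).resolve_right b.ne⟩

/-- (9.4) -/
theorem _root_.Cfsg.Agent.BG.PD.exists_p9 (h : PD M U W₁ W₂) (h2 : U ≠ ⊥) :
    ∃ H₀ C p, P9 M U W₁ W₂ H₀ C p := by
  obtain ⟨H₀, C, p, a⟩ := h.exists_h95 h2
  exact ⟨H₀, C, p, a.p9⟩

namespace P9

theorem q_prime (h : P9 M U W₁ W₂ H₀ C p) : (#W₁).Prime := (h.prime_ti h.une).1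
theorem C_le (h : P9 M U W₁ W₂ H₀ C p) : C ≤ U := fun x hx => ((h.memC x).1 hx).1
/-- `H/H₀` is elementary abelian -/
theorem der_le0 (h : P9 M U W₁ W₂ H₀ C p) : ⁅MF[M], MF[M]⁆ ≤ H₀ :=
  h.h95.der_le0
theorem pow_mem (h : P9 M U W₁ W₂ H₀ C p) : ∀ x ∈ MF[M], x ^ p ∈ H₀ :=
  h.h95.pow
/-- (9.6) -/
theorem idx (h : P9 M U W₁ W₂ H₀ C p) : H₀.relIndex MF[M] = p ^ #W₁ :=
  h.h95.idx
/-- (9.6) -/
theorem idxW (h : P9 M U W₁ W₂ H₀ C p) : H₀.relIndex W₂ = p :=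
  h.h95.idx2
/-- (9.6): `C_{H/H₀}(U) = 1` -/
theorem mem0_of_comm (h : P9 M U W₁ W₂ H₀ C p) {y : G} (hy : y ∈ MF[M])
    (e : ∀ x ∈ U, x * y * x⁻¹ * y⁻¹ ∈ H₀) : y ∈ H₀ := by
  have n := h.chief.nUV hy
  refine (quo_ker H₀).le (PHom.mem_ker.2 ⟨n, h.h95.centU_quo.le ⟨PHom.app_mem_im hy n, mem_C.2 fun _ l => ?_⟩⟩)
  obtain ⟨x, i, o, rfl⟩ := PHom.mem_im.1 l
  rw [← PHom.app_mul o n, ← PHom.app_mul n o, eq_comm, PHom.app_eq_iff (mul_mem n o) (mul_mem o n), quo_ker]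
  simpa [mul_assoc] using conj_mem' (mul_mem n o) (e x i)
theorem p_eq (h : P9 M U W₁ W₂ H₀ C p) (hp : (#W₂).Prime) : p = #W₂ :=
  h.h95.p_eq hp
theorem not_le (h : P9 M U W₁ W₂ H₀ C p) : ¬ U ≤ C :=
  fun i => h.h95.C_ne (h.C_le.antisymm i)
theorem der_le_C (h : P9 M U W₁ W₂ H₀ C p) : ⁅U, U⁆ ≤ C :=
  h.h95.der_le_C
theorem normC (h : P9 M U W₁ W₂ H₀ C p) : U ⊔ W₁ ≤ N[C] :=
  h.h95.nC
theorem normH0C (h : P9 M U W₁ W₂ H₀ C p) : M ≤ N[H₀ ⊔ C] :=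
  h.h95.n0C
theorem normH0C' (h : P9 M U W₁ W₂ H₀ C p) : M ≤ N[H₀ ⊔ ⁅C, C⁆] :=
  h.h95.n0C'
theorem normH0U' (h : P9 M U W₁ W₂ H₀ C p) : M ≤ N[H₀ ⊔ ⁅U, U⁆] :=
  h.h95.n0U'
theorem normHC (h : P9 M U W₁ W₂ H₀ C p) : M ≤ N[MF[M] ⊔ C] :=
  h.h95.nHC
/-- `W₁` acts fixed point freely on `U/C` -/
theorem u_mod (h : P9 M U W₁ W₂ H₀ C p) : C.relIndex U ≡ 1 [MOD #W₁] :=
  ((Nat.modEq_iff_dvd' h.h95.one_lt_u.le).2 h.h95.q_dvd).symm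
/-- types III, IV: `H₀ = C_H(U)` and `C = C_U(H)` -/
theorem type34 (h : P9 M U W₁ W₂ H₀ C p) (h1 : TypeP1 M) :
    p = #W₂ ∧ H₀ = MF[M] ⊓ C[U] ∧ C = U ⊓ C[MF[M]] := by
  have a := h.h95.p_eq34 h1
  have b : H₀ = MF[M] ⊓ C[U] := (eq_of_card_le h.cent0 (le_of_eq (by
    have := (h.core34 h1 h.une).2
    rw [← card_mul_relIndex h.chief.lt.le, h.idx, ← a, mul_comm] at this
    exact Nat.eq_of_mul_eq_mul_left (pow_pos h.prime.pos _) this))).symm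
  refine ⟨a, b, le_antisymm (le_inf h.C_le (cent_symm (cop_stable (L := H₀) (coprimeS h.copF (h.C_le.trans le_sup_left)
    h.chief.lt.le) ((commutator_comm _ _).le.trans h.h95.commC) (b.le.trans (inf_le_right.trans (centS h.C_le))))))
    h.h95.cent_le_C⟩

theorem _root_.Cfsg.Agent.BG.NGal.mem_ker_iff {f : G → W₁ → ZMod p} {χ : PHom G (ZMod p)ˣ}
    (e : NGal M U W₁ H₀ p f χ) (h : H95 M U W₁ W₂ H₀ C p) (b : H₁ ≤ MF[M])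
    (i : ∀ x ∈ MF[M], x ∈ H₁ ↔ ∀ v, v ≠ 1 → f x v = 0) (u : G) :
    u ∈ χ.ker ↔ u ∈ U ∧ ∀ y ∈ H₁, u * y * u⁻¹ * y⁻¹ ∈ H₀ := by
  classical
  rw [PHom.mem_ker, e.dom]
  refine and_congr_right fun j => ⟨fun k y l => (e.eq_iff (conj_mem (MF_norm M (h.leU j)) (b l)) (b l)).1
    (funext fun v => ?_), fun k => Units.ext ?_⟩
  · rw [e.actU u j y (b l)]
    by_cases t : v = 1
    · simp [t, k]
    · rw [(i y (b l)).1 l v t, mul_zero]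
  · obtain ⟨x, l, o⟩ := e.surj (Pi.single 1 1)
    have := e.actU u j x l 1
    rw [(e.eq_iff (conj_mem (MF_norm M (h.leU j)) l) l).2 (k x ((i x l).2 fun v t => by simp [o, t])), o] at this
    simpa using this.symm
/-- coordinates for case (9.7.a) -/
theorem exists_ngal (h : P9 M U W₁ W₂ H₀ C p) (hn : NonGal M U W₁ H₀ H₁ U₁ p a) :
    ∃ f χ, NGal M U W₁ H₀ p f χ ∧ χ.ker = U₁ ∧ ∀ x ∈ MF[M], x ∈ H₁ ↔ ∀ v, v ≠ 1 → f x v = 0 := by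
  obtain ⟨f, χ, e, i⟩ := h.h95.exists_ngal_of hn.le0 hn.le hn.norm hn.idx
  exact ⟨f, χ, e, Subgroup.ext fun u => (e.mem_ker_iff h.h95 hn.le i u).trans (hn.memU u).symm, i⟩
/-- (9.7.a) -/
theorem exists_nonGal (h : P9 M U W₁ W₂ H₀ C p) (hn : ¬ Galois M U H₀) :
    ∃ H₁ U₁ a, NonGal M U W₁ H₀ H₁ U₁ p a := by
  classical
  have g := h.h95
  obtain ⟨X, a, b, c, d⟩ := g.exists_idx (mt galois_iff.2 hn)
  obtain ⟨f, χ, e, i⟩ := g.exists_ngal_of a b c d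
  have j : ∀ w : W₁, ∀ x ∈ MF[M], x ∈ cj (w : G) X ↔ ∀ v, v ≠ w → f x v = 0 := fun w x k => by
    have l := conj_mem' (MF_norm M (h.le1 w.2)) k
    rw [mem_cj, i _ l]
    refine (Equiv.mulLeft w).forall_congr fun v => ?_
    rw [← e.actW w _ l v]; simp [mul_assoc]
  have k : ∀ w ∈ W₁, cj w X ≤ MF[M] := fun w l => cj_le_of_mem b (MF_norm M (h.le1 l))
  refine ⟨X, χ.ker, _, a, b, d, c, (g.irr (a.trans (le_iSup₂_of_le 1 (one_mem _) (cj_one X).ge)) (iSup₂_le k)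
    (norm_iSup fun w => norm_iSup fun l => cj_of_mem_N (h.norm l) ▸ norm_cj.2 c) fun w l => mem_N_of_cj_le ?_).resolve_left
      fun l => h.prime.one_lt.ne' (d.symm.trans (relIndex_eq_one.2 ((le_iSup₂_of_le 1 (one_mem _) (cj_one X).ge).trans l.le))),
    fun w l => le_antisymm (fun x o => (e.ker x (k w l o.1)).1 (funext fun v => ?_))
      (le_inf (le_cj_iff.2 ((cj_of_mem_N (g.n0 (h.le1 (inv_mem l)))).le.trans a)) le_sup_left), e.mem_ker_iff g b i, rfl⟩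
  · exact cj_le_iff.2 (iSup₂_le fun v o => cj_le_iff.1 (le_iSup₂_of_le (w * v) (mul_mem l o) (cj_mul ..).ge))
  · by_cases t : v = ⟨w, l⟩
    · exact (show _ ≤ e.sub (Pi.evalAddMonoidHom (fun _ => ZMod p) v).ker from sup_le (e.le_sub _) (iSup₂_le fun s s1 =>
        iSup_le fun s2 y s3 => ⟨k s s1 s3, (j ⟨s, s1⟩ y (k s s1 s3)).1 s3 v fun r =>
          s2 (congrArg Subtype.val (r.symm.trans t))⟩)) o.2 |>.2
    · exact (j ⟨w, l⟩ x (k w l o.1)).1 o.1 v t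
/-- (9.7.a): `a > 1`, `a ∣ p - 1`, `U/U₁` is cyclic, and `U/C` embeds in the product of `q - 1`
cyclic groups of order `a`. -/
theorem nonGal_facts (h : P9 M U W₁ W₂ H₀ C p) (hn : NonGal M U W₁ H₀ H₁ U₁ p a) :
    1 < a ∧ a ∣ p - 1 ∧ C ≤ U₁ ∧ U ≤ N[U₁] ∧ Cyc (U ÷ U₁) ∧ (⨅ w ∈ W₁, cj w U₁) = C ∧
      ∃ f : U →* (Fin (#W₁ - 1) → Multiplicative (ZMod a)), f.ker = C ⇂ U := by
  obtain ⟨f, χ, e, rfl, -⟩ := h.exists_ngal hn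
  obtain rfl := hn.idxU
  have g := h.h95
  refine ⟨e.one_lt g, e.dvd g, e.C_le g, e.n_ker, e.cyc g, Subgroup.ext fun u => ?_, e.exists_hom g⟩
  simp only [e.memC g, mem_iInf, mem_cj]
  exact ⟨fun i => ⟨e.ker_le (by simpa using i 1 (one_mem _)), i⟩, And.right⟩
theorem nonGal_dvd (h : P9 M U W₁ W₂ H₀ C p) (hn : NonGal M U W₁ H₀ H₁ U₁ p a) :
    C.relIndex U ∣ a ^ (#W₁ - 1) := by
  obtain ⟨f, χ, e, rfl, -⟩ := h.exists_ngal hn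
  exact hn.idxU ▸ e.u_dvd h.h95
/-- (9.7.b): `U/C` is cyclic, acts fixed point freely on `H/H₀`, `u` is prime to `p - 1` and
divides `(p ^ q - 1) / (p - 1)`. -/
theorem galois_facts (h : P9 M U W₁ W₂ H₀ C p) (hg : Galois M U H₀) :
    Cyc (U ÷ C) ∧ (∀ x ∈ U, ∀ y ∈ MF[M], x * y * x⁻¹ * y⁻¹ ∈ H₀ → x ∈ C ∨ y ∈ H₀) ∧
      (C.relIndex U).Coprime (p - 1) ∧ C.relIndex U * (p - 1) ∣ p ^ #W₁ - 1 := by
  obtain ⟨F, _, _, f, ψ, η, e⟩ := h.h95.exists_gal (galois_iff.1 hg)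
  exact ⟨e.cyc, fun x i y j => e.reg h.h95 i j, e.cop h.h95,
    (Nat.dvd_div_iff_mul_dvd (Nat.sub_one_dvd_pow_sub_one p _)).1 (e.dvd h.h95) |> (mul_comm (p - 1) _ ▸ ·)⟩
/-- (9.7.b), the field structure, for `H₀ = 1` -/
theorem galois_field (h : P9 M U W₁ W₂ ⊥ C p) (hg : Galois M U ⊥) :
    ∃ (F : Type) (_ : Field F) (_ : Fintype F) (f ψ : G → F), Fintype.card F = p ^ #W₁ ∧
      Set.BijOn f (MF[M] : Set G) Set.univ ∧ (∀ x ∈ MF[M], ∀ z ∈ MF[M], f (x * z) = f x + f z) ∧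
      (∀ u ∈ U, ψ u ≠ 0 ∧ ∀ x ∈ MF[M], f (u * x * u⁻¹) = ψ u * f x) ∧
      (∀ u ∈ U, ∀ v ∈ U, ψ (u * v) = ψ u * ψ v) ∧ (∀ u ∈ U, ψ u = 1 ↔ u ∈ C) ∧
      ∀ x ∈ MF[M], x ∈ W₂ ↔ f x ^ p = f x := by
  obtain ⟨F, _, _, f, ψ, η, e⟩ := h.h95.exists_gal (galois_iff.1 hg)
  refine ⟨F, inferInstance, inferInstance, f, fun u => ψ.app u, e.card, ⟨fun _ _ => trivial,
    fun x i y j k => mul_inv_eq_one.1 ((e.eq_iff i j).1 k), fun v _ => e.surj v⟩, e.add,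
    fun u i => ⟨Units.ne_zero _, e.actU u i⟩, fun u i v j => ?_, fun u i => ?_, fun x i => ?_⟩
  · exact congrArg Units.val (PHom.app_mul (e.dom.ge i) (e.dom.ge j))
  · rw [← e.kerC, PHom.mem_ker, Units.val_eq_one, and_iff_right (e.dom.ge i)]
  · rw [← e.mem2 x i, sup_bot_eq]
/-- (13.2.c) -/
theorem u_le (h : P9 M U W₁ W₂ H₀ C p) : C.relIndex U * (p - 1) ≤ p ^ #W₁ - 1 := by
  have a := h.prime.two_le
  have b : 0 < #W₁ := card_pos _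
  by_cases hg : Galois M U H₀
  · exact Nat.le_of_dvd (Nat.sub_pos_of_lt (one_lt_pow₀ a b.ne')) (h.galois_facts hg).2.2.2
  obtain ⟨H₁, U₁, c, e⟩ := h.exists_nonGal hg
  have d := Nat.le_of_dvd (Nat.sub_pos_of_lt a) (h.nonGal_facts e).2.1
  calc _ ≤ (p - 1) ^ (#W₁ - 1) * (p - 1) := Nat.mul_le_mul_right _
        ((Nat.le_of_dvd (pow_pos (by have := (h.nonGal_facts e).1; omega) _) (h.nonGal_dvd e)).trans
          (Nat.pow_le_pow_left d _))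
    _ ≤ _ := by
      rw [← pow_succ, Nat.sub_add_cancel b]
      exact Nat.le_sub_one_of_lt (Nat.pow_lt_pow_left (by omega) b.ne')

end P9

end Cfsg.Agent.PF
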