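import Cfsg.Agent.PF.Base
import Cfsg.Agent.Char.Cliff3

/-! Peterfalvi (9.8) - (9.11) for an abstract group `L = (H ⋊ U) ⋊ W`. -/

set_option autoImplicit false
set_option linter.unusedSectionVars false

namespace Cfsg.Agent.PF

open Cfsg Cfsg.Agent.Char Cfsg.Agent.BG Subgroup
open scoped ComplexConjugate

variable {L : Type*} [Group L]

structure Hyp9 (K H H₀ U C W : Subgroup L) (p : ℕ) : Prop where
  sdK : Sdprod K W ⊤
  sdH : Sdprod H U K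
  nU : W ≤ N[U]
  le0 : H₀ ≤ H
  der : ⁅H, H⁆ ≤ H₀
  prime : p.Prime
  qprime : (#W).Prime
  odd : Odd (Nat.card L)
  idx : H₀.relIndex H = p ^ #W
  memC : ∀ x, x ∈ C ↔ x ∈ U ∧ ∀ y ∈ H, x * y * x⁻¹ * y⁻¹ ∈ H₀
  derU : ⁅U, U⁆ ≤ C
  chief : ∀ X, H₀ ≤ X → X < H → U ⊔ W ≤ N[X] → X = H₀

structure NG9 (H H₀ U W H₁ H₂ U₁ : Subgroup L) (p a : ℕ) : Prop where
  le0 : H₀ ≤ H₁
  idx : H₀.relIndex H₁ = p
  nU1 : U ≤ N[H₁]
  nU2 : U ≤ N[H₂]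
  sup : H₁ ⊔ H₂ = H
  inf : H₁ ⊓ H₂ = H₀
  cj2 : ∀ w ∈ W, w ≠ 1 → cj w H₁ ≤ H₂
  gen : ∀ X, (∀ w ∈ W, cj w H₁ ≤ X) → H ≤ X
  memU : ∀ x, x ∈ U₁ ↔ x ∈ U ∧ ∀ y ∈ H₁, x * y * x⁻¹ * y⁻¹ ∈ H₀
  idxU : U₁.relIndex U = a
  dvd : a ∣ p - 1

variable {K H H₀ U C W H₁ H₂ U₁ N T V X : Subgroup L} {p a : ℕ} {x y g u w : L}

/-- the kernel of a linear character of `H` -/
def kr (l : H →* ℂˣ) : Subgroup L := l.ker.map H.subtype
/-- the inertia group of a linear character of `H` -/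
abbrev stb [H.Normal] (l : H →* ℂˣ) : Subgroup L := inertia fun n : H => (l n : ℂ)

theorem mem_kr {l : H →* ℂˣ} (hx : x ∈ H) : x ∈ kr l ↔ l ⟨x, hx⟩ = 1 :=
  ⟨fun ⟨_, a, b⟩ => by obtain rfl := b; exact a, fun a => ⟨⟨x, hx⟩, a, rfl⟩⟩
theorem kr_le (l : H →* ℂˣ) : kr l ≤ H := map_subtype_le _
theorem not_le_kr {l : H →* ℂˣ} : ¬ H ≤ kr l ↔ l ≠ 1 :=
  not_congr ⟨fun h => MonoidHom.ext fun x => (mem_kr x.2).1 (h x.2),
    fun h x hx => (mem_kr hx).2 (by rw [h]; rfl)⟩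
theorem mem_of_sq [Finite L] (ho : Odd (Nat.card L)) (h : x ^ 2 ∈ X) : x ∈ X := by
  obtain ⟨k, hk⟩ := ho
  have := pow_mem h (k + 1)
  rwa [← pow_mul, show 2 * (k + 1) = Nat.card L + 1 by omega, pow_succ, pow_card_eq_one',
    one_mul] at this

variable [H.Normal]

theorem mem_stb {l : H →* ℂˣ} : g ∈ stb l ↔ ∀ y ∈ H, g * y * g⁻¹ * y⁻¹ ∈ kr l := by
  have (y : H) : l ⟨g * y * g⁻¹, Normal.conj_mem inferInstance _ y.2 g⟩ = l y ↔
      g * y * g⁻¹ * (y : L)⁻¹ ∈ kr l := by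
    rw [mem_kr (mul_mem (Normal.conj_mem inferInstance _ y.2 g) (inv_mem y.2)),
      ← mul_inv_eq_one, ← map_inv, ← map_mul]
    rfl
  simp only [mem_inertia', Units.val_inj, this, Subtype.forall]
theorem le_stb (l : H →* ℂˣ) : H ≤ stb l := le_inertia (isCharacter_hom l).isClassFunction
theorem le_stb_iff {l : H →* ℂˣ} : V ≤ stb l ↔ ⁅V, H⁆ ≤ kr l :=
  ⟨fun h => comm_le_iff.2 fun _ a => mem_stb.1 (h a), fun h _ a => mem_stb.2 (comm_le_iff.1 h _ a)⟩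

/-- a product of powers of conjugates of `l` -/
def lc [Fintype W] (l : H →* ℂˣ) (c : W → ℤ) : H →* ℂˣ :=
  MonoidHom.mk' (fun y => ∏ v : W, l (MulAut.conjNormal (v : L)⁻¹ y) ^ c v) fun _ _ => by
    simp only [map_mul, mul_zpow, Finset.prod_mul_distrib]

variable [Fintype L] [K.Normal] [H₀.Normal]

theorem inner_eq_zero_of_ker {γ φ : L → ℂ} (hγ : IsCharacter L γ) (h : ∀ x ∈ H, γ x = γ 1)
    (hφ : φ ∈ indD K H N) : classInner γ φ = 0 := by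
  obtain ⟨θ, a, -, ⟨x, b, c⟩, rfl⟩ := hφ
  rw [classInner_indFun_right _ _ hγ.isClassFunction]
  by_contra i
  exact c ((hγ.restrict K).apply_eq_of_constituent a i (h x b))

namespace Hyp9

theorem HK (h : Hyp9 K H H₀ U C W p) : H ≤ K := h.sdH.left
theorem UK (h : Hyp9 K H H₀ U C W p) : U ≤ K := h.sdH.right
theorem C_le (h : Hyp9 K H H₀ U C W p) : C ≤ U := fun x i => ((h.memC x).1 i).1
theorem commC (h : Hyp9 K H H₀ U C W p) : ⁅C, H⁆ ≤ H₀ := comm_le_iff.2 fun x i => ((h.memC x).1 i).2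
theorem le_C (h : Hyp9 K H H₀ U C W p) (h1 : V ≤ U) (h2 : ⁅V, H⁆ ≤ H₀) : V ≤ C :=
  fun x i => (h.memC x).2 ⟨h1 i, comm_le_iff.1 h2 x i⟩
theorem nUW (h : Hyp9 K H H₀ U C W p) : U ⊔ W ≤ N[U] := sup_le (normG U) h.nU
theorem nC (h : Hyp9 K H H₀ U C W p) : U ⊔ W ≤ N[C] := fun g i => mem_N_of_cj_le <|
  h.le_C (cj_le_of_mem h.C_le (h.nUW i)) (by
    rw [← cj_of_mem_N (norm_of_normal (A := H) ⊤ (mem_top g)), ← cj_comm]
    exact cj_le_of_mem h.commC (norm_of_normal ⊤ (mem_top g)))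
theorem top_eq (h : Hyp9 K H H₀ U C W p) : H ⊔ (U ⊔ W) = ⊤ := by
  rw [← sup_assoc, h.sdH.sup, h.sdK.sup]
theorem normal0 (h : Hyp9 K H H₀ U C W p) (h1 : V ≤ C) (h2 : U ⊔ W ≤ N[V]) : (H₀ ⊔ V).Normal :=
  normal_iff.2 (h.top_eq.ge.trans (sup_le (norm_of_comm_le (A := H₀ ⊔ V) (comm_sup_le
    ((commL (norm_of_normal H)).trans le_sup_left) (((commS h1 le_rfl).trans h.commC).trans
      le_sup_left) (normsG le_sup_left) (normsG le_sup_right)) le_rfl)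
    (normY (norm_of_normal _) h2)))
theorem n0C (h : Hyp9 K H H₀ U C W p) : (H₀ ⊔ C).Normal := h.normal0 le_rfl h.nC
theorem n0C' (h : Hyp9 K H H₀ U C W p) : (H₀ ⊔ ⁅C, C⁆).Normal := h.normal0 (der_le C) (normD h.nC)
theorem leK (h : Hyp9 K H H₀ U C W p) (h1 : X ≤ H) (h2 : V ≤ U) : X ⊔ V ≤ K :=
  sup_le (h1.trans h.HK) (h2.trans h.UK)
theorem index_K (h : Hyp9 K H H₀ U C W p) : K.index = #W := by
  rw [← relIndex_top_right, h.sdK.relIndex_l]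
theorem card_sup (h : Hyp9 K H H₀ U C W p) (h1 : X ≤ H) (h2 : V ≤ U) (h3 : V ≤ N[X]) :
    #X * #V = #(X ⊔ V) :=
  (sdprod_sup (eq_bot_iff.2 (h.sdH.inf ▸ inf_le_inf h1 h2)) h3).card
theorem relIndex_sup (h : Hyp9 K H H₀ U C W p) (h1 : X ≤ H) (h2 : V ≤ U) (h3 : V ≤ N[X]) :
    (X ⊔ V).relIndex K = X.relIndex H * V.relIndex U := by
  refine Nat.eq_of_mul_eq_mul_left (card_pos (X ⊔ V)) ?_
  rw [card_mul_relIndex (h.leK h1 h2), ← h.sdH.card, ← card_mul_relIndex h1,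
    ← card_mul_relIndex h2, ← h.card_sup h1 h2 h3]
  ring
theorem relIndex_supH (h : Hyp9 K H H₀ U C W p) (h2 : V ≤ U) :
    (H ⊔ V).relIndex K = V.relIndex U := by
  rw [h.relIndex_sup le_rfl h2 (norm_of_normal _), relIndex_self, one_mul]
theorem index_supH (h : Hyp9 K H H₀ U C W p) (h2 : V ≤ U) :
    (H ⊔ V).index = #W * V.relIndex U := by
  rw [← relIndex_mul_index (h.leK le_rfl h2), h.relIndex_supH h2, h.index_K, mul_comm]
theorem exists_mul (h : Hyp9 K H H₀ U C W p) (g : L) :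
    ∃ x ∈ H, ∃ u ∈ U, ∃ w ∈ W, g = x * (u * w) := by
  obtain ⟨k, a, w, b, rfl⟩ := h.sdK.prod.ex g (mem_top g)
  obtain ⟨x, c, u, d, rfl⟩ := h.sdH.prod.ex k a
  exact ⟨x, c, u, d, w, b, mul_assoc _ _ _⟩
theorem three_le_p (h : Hyp9 K H H₀ U C W p) : Odd p ∧ 3 ≤ p := by
  have a : Odd p := h.odd.of_dvd_nat (((dvd_pow_self p h.qprime.ne_zero).trans
    (h.idx ▸ relIndex_dvd _ _)).trans (card_subgroup_dvd_card H))
  have := h.prime.two_le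
  obtain ⟨k, rfl⟩ := a
  exact ⟨⟨k, rfl⟩, by omega⟩
theorem three_le_q (h : Hyp9 K H H₀ U C W p) : 3 ≤ #W := by
  have := h.qprime.two_le
  obtain ⟨k, e⟩ := h.odd.of_dvd_nat (card_subgroup_dvd_card W)
  omega

variable {l : H →* ℂˣ}

theorem inf_stb (h : Hyp9 K H H₀ U C W p) : K ⊓ stb l = H ⊔ (U ⊓ stb l) := by
  rw [← modl_l h.sdH.norm (le_stb l), h.sdH.sup]
theorem C_le_stb (h : Hyp9 K H H₀ U C W p) (h0 : H₀ ≤ kr l) : C ≤ U ⊓ stb l :=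
  le_inf h.C_le (le_stb_iff.2 (h.commC.trans h0))
theorem nstb (h : Hyp9 K H H₀ U C W p) (h0 : H₀ ≤ kr l) : U ≤ N[U ⊓ stb l] :=
  norm_of_der_le (h.derU.trans (h.C_le_stb h0)) inf_le_left
theorem stb_eq (h : Hyp9 K H H₀ U C W p) (h0 : H₀ ≤ kr l) (h1 : l ≠ 1)
    (h2 : ∀ X, H₀ ≤ X → X < H → V ≤ N[X] → X = H₀) (h3 : V ≤ N[U ⊓ stb l]) : U ⊓ stb l = C := by
  have a : H₀ ⊔ ⁅U ⊓ stb l, H⁆ ≤ kr l := sup_le h0 (le_stb_iff.1 inf_le_right)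
  exact le_antisymm (h.le_C inf_le_left (le_sup_right.trans (h2 _ le_sup_left
    (a.trans_lt (lt_of_le_not_ge (kr_le l) (not_le_kr.2 h1)))
    (normY (norm_of_normal _) (normR h3 (norm_of_normal _)))).le)) (h.C_le_stb h0)
theorem exists_stb (h : Hyp9 K H H₀ U C W p) (h2 : ¬ stb l ≤ K) :
    ∃ u ∈ U, ∃ w ∈ W, w ≠ 1 ∧ u * w ∈ stb l := by
  obtain ⟨g, a, b⟩ := SetLike.not_le_iff_exists.1 h2
  obtain ⟨x, c, u, d, w, e, rfl⟩ := h.exists_mul g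
  exact ⟨u, d, w, e, fun i => b (by simpa [i] using mul_mem (h.HK c) (h.UK d)),
    ((stb l).mul_mem_cancel_left (le_stb l c)).1 a⟩
theorem stb_eq_of_not_le (h : Hyp9 K H H₀ U C W p) (h0 : H₀ ≤ kr l) (h1 : l ≠ 1)
    (h2 : ¬ stb l ≤ K) : U ⊓ stb l = C := by
  obtain ⟨u, a, w, b, c, d⟩ := h.exists_stb h2
  refine h.stb_eq h0 h1 h.chief (sup_le (h.nstb h0) ?_)
  have e : u * w ∈ N[U ⊓ stb l] := normI (X := zpowers (u * w))
    (zpowers_le.2 (h.nUW (mul_mem_sup a b))) (normsG (zpowers_le.2 d)) (mem_zpowers _)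
  exact (eq_zpowers_of_prime h.qprime b c).ge.trans
    (zpowers_le.2 ((mul_mem_cancel_left (h.nstb h0 a)).1 e))

/-- Clifford theory for `H ≤ K` -/
theorem exists_lin (h : Hyp9 K H H₀ U C W p) {θ : K → ℂ} (hθ : IsIrrCharacter K θ)
    (h0 : ∀ a : K, (a : L) ∈ H₀ → θ a = θ 1) (h1 : ∃ a : K, (a : L) ∈ H ∧ θ a ≠ θ 1) :
    ∃ l : H →* ℂˣ, l ≠ 1 ∧ (∀ a : K, (a : L) ∈ H → θ a = θ 1 → (a : L) ∈ kr l) ∧
      ∀ T (_ : T = H ⊔ (U ⊓ stb l)) (hTK : T ≤ K), ∃ ξ : T → ℂ, IsIrrCharacter T ξ ∧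
        θ = indS hTK ξ ∧ (stb l ≤ K → IsIrrCharacter L (indFun K θ)) := by
  have a := hθ.isCharacter.comp (inclusion h.HK)
  obtain ⟨ψ, b, c⟩ := a.exists_irr_constituent fun i => hθ.one_ne_zero (by simpa using congrFun i 1)
  have d : ∀ x : H, θ (inclusion h.HK x) = θ 1 → ψ x = ψ 1 := fun x i =>
    a.apply_eq_of_constituent b c (by simpa using i)
  obtain ⟨l, rfl⟩ := b.isCharacter.exists_hom (b.one_eq_one_of_commutator fun x y =>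
    d _ (h0 _ (h.der (comm_mem x.2 y.2))))
  refine ⟨l, ?_, fun x i j => (mem_kr i).2 (by simpa using d ⟨x, i⟩ j), fun T hT hTK => ?_⟩
  · rintro rfl
    obtain ⟨x, i, j⟩ := h1
    refine j (hθ.apply_eq_of_classInner_one (H ⇂ K) ?_ i)
    rwa [← classInner_comp_equiv (subgroupOfEquivOfLe h.HK).toEquiv] at c
  have e : H ≤ T := hT ▸ le_sup_left
  obtain ⟨ξ, i, j, k⟩ := exists_indS e hTK b (hT.trans h.inf_stb.symm) hθ c
  refine ⟨ξ, i, k, fun o => ?_⟩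
  rw [k, indFun_indS]
  exact b.indFun_inertia (hT.trans (h.inf_stb.symm.trans (inf_eq_right.2 o))) e i j

theorem exists_deg (h : Hyp9 K H H₀ U C W p) (hN : H₀ ≤ N) {φ : L → ℂ} (hφ : φ ∈ indD K H N) :
    ∃ l : H →* ℂˣ, l ≠ 1 ∧ H₀ ≤ kr l ∧ ∃ n : ℕ, φ 1 = n * (#W * (U ⊓ stb l).relIndex U : ℕ) := by
  obtain ⟨θ, a, b, c, rfl⟩ := hφ
  obtain ⟨l, d, e, f⟩ := h.exists_lin a (fun x i => b x (hN i)) c
  obtain ⟨ξ, i, rfl, -⟩ := f _ rfl (h.leK le_rfl inf_le_left)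
  obtain ⟨n, -, j⟩ := i.exists_nat
  exact ⟨l, d, fun x k => e ⟨x, h.HK (h.le0 k)⟩ (h.le0 k) (b _ (hN k)), n, by
    rw [indFun_indS, indFun_one, h.index_supH inf_le_left, j, mul_comm]⟩

theorem der_HC (h : Hyp9 K H H₀ U C W p) : ⁅H ⊔ C, H ⊔ C⁆ ≤ H₀ ⊔ ⁅C, C⁆ :=
  haveI := h.n0C'
  der_sup_le (h.der.trans le_sup_left) le_sup_right
    (((BG.commC _ _).le.trans h.commC).trans le_sup_left) (norm_of_normal _) (norm_of_normal _)

/-- (9.8.b), (9.9.a) -/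
theorem exists_ind (h : Hyp9 K H H₀ U C W p) (hN : H₀ ⊔ ⁅C, C⁆ ≤ N) {φ : L → ℂ}
    (hφ : φ ∈ indD K H N) (h1 : ¬ IsIrrCharacter L φ ∨ ∀ X, H₀ ≤ X → X < H → U ≤ N[X] → X = H₀) :
    φ 1 = (#W * C.relIndex U : ℕ) ∧
      ∃ ξ : ↥(H ⊔ C) →* ℂˣ, φ = indFun (H ⊔ C) fun x => (ξ x : ℂ) := by
  obtain ⟨θ, a, b, c, rfl⟩ := hφ
  have hN0 := le_sup_left.trans hN
  obtain ⟨l, d, e, f⟩ := h.exists_lin a (fun x i => b x (hN0 i)) c
  have h0 : H₀ ≤ kr l := fun x k => e ⟨x, h.HK (h.le0 k)⟩ (h.le0 k) (b _ (hN0 k))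
  have k : U ⊓ stb l = C := h1.elim (fun i => h.stb_eq_of_not_le h0 d fun j =>
    i (let ⟨_, _, _, o⟩ := f _ rfl (h.leK le_rfl inf_le_left); o j)) fun i =>
    h.stb_eq h0 d i (h.nstb h0)
  obtain ⟨ξ, i, rfl, -⟩ := f (H ⊔ C) (by rw [k]) (h.leK le_rfl h.C_le)
  obtain ⟨ξ, rfl⟩ := i.isCharacter.exists_hom (i.one_eq_one_of_commutator fun x y =>
    apply_eq_of_indS _ i (b _ (hN (h.der_HC (comm_mem x.2 y.2)))))
  rw [indFun_indS]
  exact ⟨by rw [indFun_one, h.index_supH h.C_le]; simp, ξ, rfl⟩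

theorem exists_mem (h : Hyp9 K H H₀ U C W p) (h0 : H₀ ≤ kr l) (h1 : l ≠ 1) (hV : U ⊓ stb l = V) :
    ∃ φ ∈ indD K H (H₀ ⊔ C), φ 1 = (#W * V.relIndex U : ℕ) ∧ (stb l ≤ K → IsIrrCharacter L φ) ∧
      ∃ ξ : ↥(H ⊔ V) →* ℂˣ, φ = indFun (H ⊔ V) fun x => (ξ x : ℂ) := by
  have := h.n0C
  have a : V ≤ U := hV ▸ inf_le_left
  have hC : C ≤ V := hV ▸ h.C_le_stb h0
  obtain ⟨ξ, b, c⟩ := exists_hom_extend (T := H ⊔ V) rfl
    (eq_bot_iff.2 (h.sdH.inf ▸ inf_le_inf_left H a)) l (hV ▸ inf_le_right)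
  have d : classInner (fun n : H => (ξ (inclusion le_sup_left n) : ℂ)) (fun n => l n) ≠ 0 := by
    rw [show (fun n : H => (ξ (inclusion le_sup_left n) : ℂ)) = fun n => (l n : ℂ) from
      funext fun n => congrArg _ (b n _), (isIrrCharacter_hom l).classInner_self]
    exact one_ne_zero
  have e : H ⊔ V = K ⊓ stb l := by rw [h.inf_stb, hV]
  have f := isIrr_indS le_sup_left (h.leK le_rfl a) (isIrrCharacter_hom l) e
    (isIrrCharacter_hom ξ) d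
  refine ⟨_, ?_, by rw [indFun_one, h.index_supH a]; simp, fun o => (isIrrCharacter_hom l).indFun_inertia
    (e.trans (inf_eq_right.2 o)) le_sup_left (isIrrCharacter_hom ξ) d, ξ, rfl⟩
  rw [← indFun_indS (h.leK le_rfl a)]
  refine mem_indD_of h.HK f ?_ ?_ <;> rw [indFun_indS]
  · refine fun n => indFun_apply_eq_of_ker (sup_le_sup h.le0 hC) fun x i => ?_
    have : H₀ ⊔ C ≤ kr ξ := sup_le (fun y j => (mem_kr (mem_sup_left (h.le0 j))).2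
      ((b ⟨y, h.le0 j⟩ _).trans ((mem_kr _).1 (h0 j)))) fun y j =>
        (mem_kr (mem_sup_right (hC j))).2 (c _ (hC j))
    simpa using (mem_kr x.2).1 (this i)
  · by_contra! i
    refine h1 (MonoidHom.ext fun x => ?_)
    simpa [b] using (isIrrCharacter_hom ξ).apply_eq_of_indFun (a := ⟨x, mem_sup_left x.2⟩) (i x x.2)

theorem deg_le (h : Hyp9 K H H₀ U C W p) {φ : L → ℂ} (hφ : φ ∈ indD K H (H₀ ⊔ ⁅C, C⁆)) :
    (φ 1).re ≤ #W * C.relIndex U := by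
  obtain ⟨θ, a, b, -, rfl⟩ := hφ
  have := a.degree_sq_le_of_central (B := (H₀ ⊔ ⁅C, C⁆) ⇂ K) (C := (H ⊔ C) ⇂ K) le_rfl
    (fun x i y j => h.der_HC (comm_mem i j)) b
  rw [mul_le_mul_iff_left₀ (by exact_mod_cast card_pos _), a.isCharacter.norm_one, index_sub,
    h.relIndex_supH h.C_le] at this
  rw [indFun_one, h.index_K]
  simpa using mul_le_mul_of_nonneg_left (le_of_sq_le_sq this (by positivity))
    (Nat.cast_nonneg (α := ℝ) #W)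

theorem sum_sq (h : Hyp9 K H H₀ U C W p) (h1 : V ≤ C) (h2 : U ⊔ W ≤ N[V]) :
    ∑ φ ∈ seqD K H (H₀ ⊔ V), (φ 1).re ^ 2 / nrm φ = #W * V.relIndex U * ((p : ℝ) ^ #W - 1) := by
  have := h.normal0 h1 h2
  have a := h1.trans h.C_le
  rw [sum_seqD_sq h.HK (h.leK h.le0 a), ← sup_assoc, sup_eq_left.2 h.le0, h.relIndex_supH a,
    h.relIndex_sup h.le0 a (norm_of_normal _), h.idx, h.index_K]
  push_cast
  ring

theorem red_bound (h : Hyp9 K H H₀ U C W p) {F S : Finset (L → ℂ)} (hF : F.card ≤ p - 1)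
    (hF' : ∀ φ ∈ indD K H H₀, ¬ IsIrrCharacter L φ → φ ∈ F ∧ nrm φ = #W)
    (hS : ∀ φ ∈ S, φ ∈ indD K H (H₀ ⊔ ⁅C, C⁆) ∧ ¬ IsIrrCharacter L φ) :
    ∑ φ ∈ S, (φ 1).re ^ 2 / nrm φ ≤ ((p : ℝ) - 1) * #W * C.relIndex U ^ 2 := by
  have a : ∀ φ ∈ S, φ ∈ F ∧ nrm φ = #W := fun φ i =>
    hF' φ (indD_mono le_rfl le_sup_left (hS φ i).1) (hS φ i).2
  have b : (0 : ℝ) < #W := by exact_mod_cast card_pos W
  rw [Finset.sum_congr rfl (g := fun _ => (#W : ℝ) * C.relIndex U ^ 2) fun φ i => by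
    rw [(a φ i).2, (h.exists_ind le_rfl (hS φ i).1 (Or.inl (hS φ i).2)).1, Complex.natCast_re]
    push_cast; field_simp, Finset.sum_const, nsmul_eq_mul, mul_assoc]
  gcongr
  have := (Finset.card_le_card fun φ i => (a φ i).1).trans hF
  rw [← Nat.cast_pred h.prime.pos]
  exact_mod_cast this

/-- (9.9.c) -/
theorem le_of_red (h : Hyp9 K H H₀ U C W p) {F : Finset (L → ℂ)} (hF : F.card ≤ p - 1)
    (hF' : ∀ φ ∈ indD K H H₀, ¬ IsIrrCharacter L φ → φ ∈ F ∧ nrm φ = #W)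
    (hS : ∀ φ ∈ indD K H (H₀ ⊔ ⁅C, C⁆), ¬ IsIrrCharacter L φ) :
    ⁅C, C⁆.relIndex C * (p ^ #W - 1) ≤ C.relIndex U * (p - 1) := by
  have a := h.red_bound hF hF' (S := seqD K H (H₀ ⊔ ⁅C, C⁆)) fun φ i =>
    ⟨mem_seqD.1 i, hS φ (mem_seqD.1 i)⟩
  rw [h.sum_sq (der_le C) (normD h.nC), ← relIndex_mul_relIndex _ _ _ (der_le C) h.C_le] at a
  have b : (0 : ℝ) < #W * C.relIndex U := by
    exact_mod_cast Nat.mul_pos (card_pos W) (relIndex_pos _ _)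
  rify
  rw [Nat.cast_pred h.prime.pos, Nat.cast_pred (pow_pos h.prime.pos _)]
  push_cast at a ⊢
  exact le_of_mul_le_mul_left (by linarith) b

end Hyp9

namespace NG9

variable {l : H →* ℂˣ}

theorem le1 (e : NG9 H H₀ U W H₁ H₂ U₁ p a) : H₁ ≤ H := e.sup ▸ le_sup_left
theorem le2 (e : NG9 H H₀ U W H₁ H₂ U₁ p a) : H₂ ≤ H := e.sup ▸ le_sup_right
theorem le02 (e : NG9 H H₀ U W H₁ H₂ U₁ p a) : H₀ ≤ H₂ := e.inf ▸ inf_le_right
theorem leU (e : NG9 H H₀ U W H₁ H₂ U₁ p a) : U₁ ≤ U := fun x i => ((e.memU x).1 i).1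
theorem comm1 (e : NG9 H H₀ U W H₁ H₂ U₁ p a) : ⁅U₁, H₁⁆ ≤ H₀ :=
  comm_le_iff.2 fun x i => ((e.memU x).1 i).2
theorem a_pos (e : NG9 H H₀ U W H₁ H₂ U₁ p a) : 0 < a := e.idxU ▸ relIndex_pos _ _

variable (h : Hyp9 K H H₀ U C W p) (e : NG9 H H₀ U W H₁ H₂ U₁ p a)
include h e

theorem C_le : C ≤ U₁ := fun x i =>
  (e.memU x).2 ⟨h.C_le i, fun y j => ((h.memC x).1 i).2 y (e.le1 j)⟩
theorem n2 : H ≤ N[H₂] := norm_of_der_le (h.der.trans e.le02) e.le2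
theorem idx2 : H₂.relIndex H = p := by
  rw [← e.sup, sup_comm, relIndex_sup_l (e.le1.trans (e.n2 h)), ← inf_relIndex_right, inf_comm,
    e.inf, e.idx]
theorem two_mul_le : 2 * a + 1 ≤ p := by
  obtain ⟨k, a1⟩ := h.odd.of_dvd_nat ((e.idxU ▸ relIndex_dvd U₁ U).trans (card_subgroup_dvd_card U))
  obtain ⟨⟨j, a2⟩, a3⟩ := h.three_le_p
  obtain ⟨c, a4⟩ := e.dvd
  rcases c with _ | _ | c
  · omega
  · omega
  · have : a * (c + 1 + 1) = a * c + 2 * a := by ring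
    omega
theorem cj_le (hw : w ∈ W) : cj w U₁ ≤ U := cj_le_of_mem e.leU (h.nU hw)
theorem idx_cj (hw : w ∈ W) : (cj w U₁).relIndex U = a := by
  rw [← e.idxU, ← relIndex_cj w U₁, cj_of_mem_N (h.nU hw)]
theorem C_le_cj (hw : w ∈ W) : C ≤ cj w U₁ :=
  (cj_of_mem_N (h.nC (mem_sup_right hw))).ge.trans (cj_mono w (e.C_le h))
theorem le_C (h1 : ∀ w ∈ W, V ≤ cj w U₁) : V ≤ C := by
  have a : V ≤ U := (h1 1 (one_mem _)).trans (e.cj_le h (one_mem _))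
  refine h.le_C a ?_
  let X : Subgroup L := ⟨⟨⟨{y | ∀ x ∈ V, x * y * x⁻¹ * y⁻¹ ∈ H₀}, fun {y z} i j x k => by
    simpa [mul_assoc] using mul_mem (i x k) (Normal.conj_mem inferInstance _ (j x k) y)⟩,
    by simp⟩, fun {y} i x k => by
    simpa [mul_assoc] using inv_mem (Normal.conj_mem' inferInstance _ (i x k) y)⟩
  refine comm_le_iff.2 fun x i y j => e.gen X (fun w k => ?_) j x i
  refine fun y j x o => comm_le_iff.1 (?_ : ⁅V, cj w H₁⁆ ≤ H₀) x o y j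
  exact (commS (h1 w k) le_rfl).trans ((cj_comm w _ _).ge.trans
    (cj_le_of_mem e.comm1 (norm_of_normal ⊤ (mem_top w))))
theorem inf_kr (h0 : H₀ ≤ X) (h1 : ¬ H₁ ≤ X) : H₁ ⊓ X = H₀ :=
  (eq_or_eq_of_relIndex_prime (e.idx ▸ h.prime) (le_inf e.le0 h0) inf_le_left).resolve_right
    fun i => h1 (inf_eq_left.1 i)
theorem stb_le (hw : w ∈ W) (h0 : H₀ ≤ kr l) (h1 : ¬ cj w H₁ ≤ kr l) : U ⊓ stb l ≤ cj w U₁ := by
  intro u ⟨a, b⟩
  have c := conj_mem' (h.nU hw) a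
  refine mem_cj.2 ((e.memU _).2 ⟨c, fun y i => (e.inf_kr h (X := cj w⁻¹ (kr l))
    (le_cj_iff.2 ((cj_le_of_mem le_rfl (norm_of_normal ⊤ (mem_top _))).trans h0))
    fun j => h1 (cj_le_iff.2 j)).le (mem_inf.2
      ⟨mul_mem (conj_mem (e.nU1 c) i) (inv_mem i), mem_cj_inv.2 ?_⟩)⟩)
  simpa [mul_assoc] using mem_stb.1 b _ (Normal.conj_mem inferInstance _ (e.le1 i) w)
theorem not_le (h0 : H₂ ≤ kr l) (h1 : l ≠ 1) : ¬ H₁ ≤ kr l := fun i =>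
  not_le_kr.2 h1 (e.sup.ge.trans (sup_le i h0))
theorem stb_eq (h0 : H₂ ≤ kr l) (h1 : l ≠ 1) : U ⊓ stb l = U₁ :=
  le_antisymm (cj_one U₁ ▸ e.stb_le h (one_mem _) (e.le02.trans h0) (by
    rw [cj_one]; exact e.not_le h h0 h1)) (le_inf e.leU (le_stb_iff.2 ((commS le_rfl e.sup.ge).trans
      ((comm_sup_le' (e.comm1.trans e.le02) (commR (e.leU.trans e.nU2)) (e.le1.trans (e.n2 h))
        (normG _)).trans h0))))
theorem exists_l : ∃ l : H →* ℂˣ, l ≠ 1 ∧ H₂ ≤ kr l := by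
  have a : (H₂ ⇂ H).Normal := sub_normal (e.n2 h)
  obtain ⟨l, b, c⟩ := exists_hom_ne_one_of_not_le (K := (⊤ : Subgroup H)) (A := H₂ ⇂ H) fun i =>
    h.prime.one_lt.ne' ((e.idx2 h).symm.trans (relIndex_eq_one.2 fun x j => (sup_le (comm_le_iff.2
      fun y _ z _ => e.le02 (h.der (comm_mem y.2 z.2))) le_rfl : _ ≤ H₂ ⇂ H) (i (mem_top ⟨x, j⟩))))
  exact ⟨l.comp (topEquiv (G := H)).symm.toMonoidHom, fun i => b (MonoidHom.ext fun x =>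
    DFunLike.congr_fun i x.1), fun x i => (mem_kr (e.le2 i)).2 (c ⟨⟨x, e.le2 i⟩, trivial⟩ i)⟩

/-- (9.8.a) -/
theorem dvd_deg (hN : H₀ ≤ N) {φ : L → ℂ} (hφ : φ ∈ indD K H N) :
    ∃ n : ℕ, φ 1 = n * (#W * a : ℕ) := by
  obtain ⟨l, a1, b, n, c⟩ := h.exists_deg hN hφ
  obtain ⟨w, i, j⟩ : ∃ w ∈ W, ¬ cj w H₁ ≤ kr l := by
    by_contra! i; exact not_le_kr.2 a1 (e.gen _ i)
  obtain ⟨m, k⟩ := e.idx_cj h i ▸ relIndex_dvd_left (e.stb_le h i b j) U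
  exact ⟨n * m, by rw [c, k]; push_cast; ring⟩

/-- (9.8.d) -/
theorem exists_S1 : ∃ S : Finset (L → ℂ), (∀ φ ∈ S, φ ∈ indD K H (H₀ ⊔ ⁅U, U⁆) ∧
    IsIrrCharacter L φ ∧ φ 1 = (#W * a : ℕ)) ∧ S.card * a ^ 2 = (p - 1) * ⁅U, U⁆.relIndex U := by
  classical
  have nD : ∀ X ≤ H, H₀ ≤ X → U ≤ N[X] → ((X ⊔ ⁅U, U⁆) ⇂ K).Normal := fun X i j k =>
    sub_normal (h.sdH.sup.ge.trans (sup_le (norm_of_comm_le (A := X ⊔ ⁅U, U⁆) (comm_sup_le
      (((commS i le_rfl).trans (h.der.trans j)).trans le_sup_left)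
      (((commS h.derU le_rfl).trans (h.commC.trans j)).trans le_sup_left)
      (normsG le_sup_left) (normsG le_sup_right)) le_rfl) (normY k (der_norm U))))
  have n1 := nD H₂ e.le2 e.le02 e.nU2
  have n2 := nD H le_rfl h.le0 (norm_of_normal _)
  set X := irrSet K (fun θ => ∀ n ∈ (H₂ ⊔ ⁅U, U⁆) ⇂ K, θ n = θ 1) \
    irrSet K (fun θ => ∀ n ∈ (H ⊔ ⁅U, U⁆) ⇂ K, θ n = θ 1) with hX
  have a1 : ∑ θ ∈ X, (θ 1).re ^ 2 = ((p : ℝ) - 1) * ⁅U, U⁆.relIndex U := by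
    rw [hX, Finset.sum_sdiff_eq_sub fun θ i => by
      rw [mem_irrSet] at i ⊢
      exact ⟨i.1, fun n j => i.2 n (sup_le_sup_right e.le2 _ j)⟩, sum_irrSet_ker_sq, sum_irrSet_ker_sq,
      index_sub, index_sub, h.relIndex_supH (der_le U),
      h.relIndex_sup e.le2 (der_le U) ((der_le U).trans e.nU2), e.idx2 h]
    push_cast; ring
  have a2 : ∀ θ ∈ X, IsIrrCharacter K θ ∧ (∀ n : K, (n : L) ∈ H₂ ⊔ ⁅U, U⁆ → θ n = θ 1) ∧
      ∃ x : K, (x : L) ∈ H₁ ∧ θ x ≠ θ 1 := fun θ i => by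
    rw [hX, Finset.mem_sdiff, mem_irrSet, mem_irrSet] at i
    refine ⟨i.1.1, i.1.2, ?_⟩
    by_contra! j
    refine i.2 ⟨i.1.1, fun n k => i.1.1.isCharacter.mem_charKer.1 ?_⟩
    rw [← e.sup, sup_assoc, sub_sup (e.le1.trans h.HK) (h.leK e.le2 (der_le U))] at k
    exact (sup_le (fun x o => i.1.1.isCharacter.mem_charKer.2 (j x o)) fun x o =>
      i.1.1.isCharacter.mem_charKer.2 (i.1.2 x o) : _ ≤ charKer θ) k
  have a3 : ∀ θ ∈ X, θ 1 = a := fun θ i => by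
    obtain ⟨b, c, x, d, f⟩ := a2 θ i
    obtain ⟨l, j, k, o⟩ := h.exists_lin b (fun y m => c y (mem_sup_left (e.le02 m))) ⟨x, e.le1 d, f⟩
    have m : H₂ ≤ kr l := fun y n => k ⟨y, h.HK (e.le2 n)⟩ (e.le2 n) (c _ (mem_sup_left n))
    obtain ⟨ξ, r, rfl, -⟩ := o (H ⊔ U₁) (by rw [e.stb_eq h m j]) (h.leK le_rfl e.leU)
    have s : ⁅H ⊔ U₁, H ⊔ U₁⁆ ≤ H₂ ⊔ ⁅U, U⁆ :=
      have t := le_normalizer_of_normal_subgroupOf (h.leK e.le2 (der_le U))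
      der_sup_le ((h.der.trans e.le02).trans le_sup_left) ((derS e.leU).trans le_sup_right)
        ((e.sup ▸ comm_sup_le ((commC _ _).le.trans (e.comm1.trans e.le02))
          (commL (e.leU.trans e.nU2)) (e.le1.trans (e.n2 h)) (normG _)).trans le_sup_left)
        (h.HK.trans t) ((e.leU.trans h.UK).trans t)
    rw [indS_one, h.relIndex_supH e.leU, e.idxU, r.one_eq_one_of_commutator fun x y =>
      apply_eq_of_indS _ r (c _ (s (comm_mem x.2 y.2))), mul_one]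
  have a4 : ∀ θ ∈ X, ∀ g, conjBy θ g ∈ X → g ∈ K := fun θ i g j => by
    obtain ⟨k, b, w, c, rfl⟩ := h.sdK.prod.ex g (mem_top g)
    obtain ⟨d, f, -⟩ := a2 θ i
    obtain ⟨-, -, x, m, o⟩ := a2 _ j
    by_cases n : w = 1
    · simpa [n] using b
    rw [conjBy_mul, conjBy_of_mem d.isClassFunction b] at o
    exact absurd ((f _ (mem_sup_left (e.cj2 w c n (mem_cj_conj.2 m)))).trans
      (conjBy_apply_one θ w).symm) o
  refine ⟨X.image (indFun K), fun φ i => ?_, ?_⟩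
  · obtain ⟨θ, j, rfl⟩ := Finset.mem_image.1 i
    obtain ⟨b, c, x, d, f⟩ := a2 θ j
    exact ⟨⟨θ, b, fun n k => c n (sup_le_sup_right e.le02 _ k), ⟨x, e.le1 d, f⟩, rfl⟩,
      b.indFun_of_inertia_le fun g k => a4 θ j g (by rwa [mem_inertia.1 k]),
      by rw [indFun_one, a3 θ j, h.index_K, Nat.cast_mul]⟩
  · rw [Finset.card_image_of_injOn fun θ i θ' j k => by
      obtain ⟨g, rfl⟩ := (indFun_eq_iff (a2 θ i).1 (a2 θ' j).1).1 k
      exact (conjBy_of_mem (a2 θ i).1.isClassFunction (a4 θ i g j)).symm]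
    rw [Finset.sum_congr rfl fun θ i => by rw [a3 θ i, Complex.natCast_re], Finset.sum_const,
      nsmul_eq_mul, ← Nat.cast_pred h.prime.pos] at a1
    exact_mod_cast a1

theorem lc_apply (h0 : H₂ ≤ kr l) (c : W → ℤ) (v : W) (hy : y ∈ H₁) {z : H}
    (hz : (z : L) = v * y * (v : L)⁻¹) : lc l c z = l ⟨y, e.le1 hy⟩ ^ c v := by
  refine (Finset.prod_eq_single v (fun v' _ i => ?_) (by simp)).trans ?_
  · have := e.cj2 _ (v'⁻¹ * v).2 (fun j => i (inv_mul_eq_one.1 (Subtype.ext j))) (mem_cj_conj.2 hy)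
    rw [show MulAut.conjNormal (v' : L)⁻¹ z = ⟨_, e.le2 this⟩ from
      Subtype.ext (by simp [hz, mul_assoc]), (mem_kr _).1 (h0 this), one_zpow]
  · rw [show MulAut.conjNormal (v : L)⁻¹ z = ⟨y, e.le1 hy⟩ from
      Subtype.ext (by simp [hz, mul_assoc])]
theorem le_kr_lc (h0 : H₂ ≤ kr l) (c : W → ℤ) : H₀ ≤ kr (lc l c) := fun x i =>
  (mem_kr (h.le0 i)).2 (Finset.prod_eq_one fun v _ => by
    rw [(mem_kr (MulAut.conjNormal (v : L)⁻¹ (⟨x, h.le0 i⟩ : H)).2).1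
      (h0 (e.le02 (Normal.conj_mem inferInstance x i (v : L)⁻¹))), one_zpow])
theorem not_le_lc (h0 : H₂ ≤ kr l) (h1 : l ≠ 1) {c : W → ℤ} {v : W} (hv : c v = 1 ∨ c v = -1) :
    ¬ cj (v : L) H₁ ≤ kr (lc l c) := fun i => e.not_le h h0 h1 fun y j => (mem_kr (e.le1 j)).2 <| by
  have := (e.lc_apply h h0 c v j rfl).symm.trans
    ((mem_kr (Normal.conj_mem inferInstance y (e.le1 j) v)).1 (i (mem_cj_conj.2 j)))
  rcases hv with k | k <;> simpa [k] using this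
theorem lc_ne (h0 : H₂ ≤ kr l) (h1 : l ≠ 1) {c : W → ℤ} {v : W} (hv : c v = 1 ∨ c v = -1) :
    lc l c ≠ 1 := not_le_kr.1 fun i => e.not_le_lc h h0 h1 hv
      ((cj_le_of_mem e.le1 (norm_of_normal ⊤ (mem_top _))).trans i)

/-- (9.8.c) -/
theorem exists_irr : ∃ φ ∈ indD K H (H₀ ⊔ C), φ 1 = (#W * C.relIndex U : ℕ) ∧
    IsIrrCharacter L φ ∧ ∃ ξ : ↥(H ⊔ C) →* ℂˣ, φ = indFun (H ⊔ C) fun x => (ξ x : ℂ) := by
  classical
  obtain ⟨l, h1, h0⟩ := e.exists_l h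
  set c : W → ℤ := fun v => if v = 1 then -1 else 1 with hc
  have a1 : ∀ v, c v = 1 ∨ c v = -1 := fun v => by rw [hc]; dsimp only; split_ifs <;> simp
  have a2 := e.le_kr_lc h h0 c
  obtain ⟨φ, b1, b2, b3, b4⟩ := h.exists_mem a2 (e.lc_ne h h0 h1 (a1 1)) (le_antisymm
    (e.le_C h fun w i => e.stb_le h i a2 (e.not_le_lc h h0 h1 (a1 ⟨w, i⟩))) (h.C_le_stb a2))
  refine ⟨φ, b1, b2, b3 (by_contra fun i => ?_), b4⟩
  obtain ⟨u, d, w, f, j, k⟩ := h.exists_stb i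
  have o := conj_mem' (h.nU f) d
  set u' := w⁻¹ * u * w with hu
  have a3 : ∀ y (m : y ∈ H₁), l ⟨_, e.le1 (conj_mem (e.nU1 o) m)⟩ = (l ⟨y, e.le1 m⟩)⁻¹ := by
    intro y m
    have := Units.val_inj.1 (mem_inertia'.1 k ⟨y, e.le1 m⟩)
    rwa [e.lc_apply h h0 c ⟨w, f⟩ (conj_mem (e.nU1 o) m) (by simp [hu, mul_assoc]),
      e.lc_apply h h0 c 1 m (by simp), show c ⟨w, f⟩ = 1 from
        if_neg fun i => j (congrArg Subtype.val i), show c 1 = -1 from if_pos rfl, zpow_one,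
      zpow_neg_one] at this
  have a4 : u' ∈ U₁ := mem_of_sq h.odd ((e.memU _).2 ⟨pow_mem o 2, fun y m => by
    have n := conj_mem (e.nU1 o) (conj_mem (e.nU1 o) m)
    have r : u' ^ 2 * y * (u' ^ 2)⁻¹ * y⁻¹ = u' * (u' * y * u'⁻¹) * u'⁻¹ * y⁻¹ := by
      simp [sq, mul_assoc]
    rw [r]
    refine (e.inf_kr h (e.le02.trans h0) (e.not_le h h0 h1)).le
      (mem_inf.2 ⟨mul_mem n (inv_mem m), (mem_kr (e.le1 (mul_mem n (inv_mem m)))).2 ?_⟩)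
    have := a3 _ (conj_mem (e.nU1 o) m)
    rwa [a3 y m, inv_inv, ← mul_inv_eq_one, ← map_inv, ← map_mul] at this⟩)
  refine e.not_le h h0 h1 fun y m => mem_of_sq h.odd ((mem_kr (pow_mem (e.le1 m) 2)).2 ?_)
  have := (Units.val_inj.1 (mem_inertia'.1 ((e.stb_eq h h0 h1).ge a4).2 ⟨y, e.le1 m⟩)).symm.trans
    (a3 y m)
  rwa [eq_inv_iff_mul_eq_one, ← sq, ← map_pow] at this

/-- the character of (9.11.2) -/
theorem exists_two (hw : w ∈ W) : ∃ φ ∈ indD K H (H₀ ⊔ C),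
    φ 1 = (#W * (U₁ ⊓ cj w U₁).relIndex U : ℕ) := by
  classical
  obtain ⟨l, h1, h0⟩ := e.exists_l h
  set c : W → ℤ := fun v => if v = 1 ∨ v = ⟨w, hw⟩ then 1 else 0 with hc
  have a2 := e.le_kr_lc h h0 c
  have a1 : c 1 = 1 ∨ c 1 = -1 := by simp [hc]
  suffices U₁ ⊓ cj w U₁ ≤ stb (lc l c) by
    obtain ⟨φ, b1, b2, -⟩ := h.exists_mem a2 (e.lc_ne h h0 h1 a1) (V := U₁ ⊓ cj w U₁) (le_antisymm
      (le_inf ((e.stb_le h (one_mem _) a2 (e.not_le_lc h h0 h1 a1)).trans (cj_one _).le)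
        (e.stb_le h hw a2 (e.not_le_lc h h0 h1 (v := ⟨w, hw⟩) (by simp [hc]))))
      (le_inf (inf_le_left.trans e.leU) this))
    exact ⟨φ, b1, b2⟩
  refine fun u i => mem_inertia'.2 fun y => Units.val_inj.2 (Finset.prod_congr rfl fun v _ => ?_)
  rw [hc]
  dsimp only
  split_ifs with j
  · have k : (v : L)⁻¹ * u * v ∈ U₁ := by
      rcases j with rfl | rfl
      exacts [by simpa using i.1, mem_cj.1 i.2]
    rw [← Units.val_inj.1 (mem_inertia'.1 ((e.stb_eq h h0 h1).ge k).2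
      (MulAut.conjNormal (v : L)⁻¹ y))]
    congr 2
    exact Subtype.ext (by simp [mul_assoc])
  · simp

theorem exists_comm (hx : x ∈ H ⊔ U₁) : ∃ y ∈ H, y ≠ 1 ∧ y * x = x * y := by
  by_contra! i
  obtain ⟨y, a1, a2⟩ : ∃ y ∈ H₁, y ∉ H₀ := SetLike.not_le_iff_exists.1 fun j =>
    h.prime.one_lt.ne' (e.idx.symm.trans (relIndex_eq_one.2 j))
  have b := comm_sup_le' ((commS e.le1 le_rfl).trans h.der) ((commC _ _).le.trans e.comm1)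
    (norm_of_normal _) (norm_of_normal _) (comm_mem a1 hx)
  obtain ⟨k, c, d⟩ := exists_conj_of_centralizer_trivial H₀ (g := x)
    (fun z j => Normal.conj_mem inferInstance z j x)
    (fun z j o => by_contra fun m => i z (h.le0 j) m o) b
  refine i (k⁻¹ * y) (mul_mem (inv_mem (h.le0 c)) (e.le1 a1))
    (fun j => a2 (inv_mul_eq_one.1 j ▸ c)) ?_
  rw [inv_mul_cancel_right] at d
  calc k⁻¹ * y * x = k⁻¹ * (y * x * y⁻¹) * y := by group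
    _ = x * (k⁻¹ * y) := by rw [← d]; group

theorem nrm_le (h1 : ∀ w ∈ W, w ≠ 1 → U₁ ⊓ cj w U₁ = C) {n : ℕ} (hn : C.relIndex U = n * a) :
    n * nrm (indFun (H ⊔ U₁) fun _ => 1) ≤ n * a + (#W - 1) * a := by
  classical
  have a1 : ∀ x, x ∉ K → (H ⊔ U₁) ⊓ cj x (H ⊔ U₁) ≤ H ⊔ C := fun x i => by
    obtain ⟨k, b, w, c, rfl⟩ := h.sdK.prod.ex x (mem_top x)
    have d : K ≤ N[H ⊔ cj w U₁] := h.sdH.sup.ge.trans (sup_le (normsG le_sup_left) (normY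
      (norm_of_normal _) (norm_of_der_le (h.derU.trans (e.C_le_cj h c)) (e.cj_le h c))))
    rw [cj_mul, cj_sup, cj_of_mem_N (norm_of_normal ⊤ (mem_top w)), cj_of_mem_N (d b),
      modl_l (norm_of_normal _) le_sup_left, ← h1 w c fun j => i (by simpa [j] using b)]
    refine sup_le_sup_left (le_inf inf_le_left ((inf_le_inf_right _ e.leU).trans ?_)) _
    rw [inf_comm, modr_l (norm_of_normal _) (e.cj_le h c), h.sdH.inf, bot_sup_eq]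
  have a2 := nrm_indFun_one (H ⊔ U₁)
  have b1 := card_mul_relIndex (h.leK le_rfl e.leU)
  have b2 := card_mul_relIndex (h.leK le_rfl h.C_le)
  rw [h.relIndex_supH e.leU, e.idxU] at b1
  rw [h.relIndex_supH h.C_le, hn, ← b1, ← mul_assoc, Nat.mul_left_inj e.a_pos.ne'] at b2
  have b3 := K.card_mul_index
  have a3 : ∑ x : L, (#((H ⊔ U₁) ⊓ cj x (H ⊔ U₁)) : ℝ) ≤
      ∑ x : L, if x ∈ K then (#(H ⊔ U₁) : ℝ) else #(H ⊔ C) := Finset.sum_le_sum fun x _ => by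
    split_ifs with i
    exacts [Nat.cast_le.2 (card_le inf_le_left), Nat.cast_le.2 (card_le (a1 x i))]
  rw [Finset.sum_ite, Finset.sum_const, Finset.sum_const, Finset.filter_not, Finset.card_sdiff_of_subset
    (Finset.subset_univ _), ← Fintype.card_subtype, Finset.card_univ, Fintype.card_eq_nat_card,
    Fintype.card_eq_nat_card, nsmul_eq_mul, nsmul_eq_mul, ← b3, h.index_K,
    Nat.cast_sub (Nat.le_mul_of_pos_right _ (card_pos W))] at a3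
  replace a3 := a2.le.trans a3
  have b4 : (0 : ℝ) < #(H ⊔ U₁) := by exact_mod_cast card_pos _
  have b5 : (0 : ℝ) < #(H ⊔ C) := by exact_mod_cast card_pos _
  rw [← b1, ← b2] at a3
  rw [← b2] at b4
  push_cast at a3 b4
  refine le_of_mul_le_mul_left (?_) (mul_pos b4 b5)
  linarith

end NG9

theorem binom_le {x : ℝ} (hx : 0 ≤ x) (m : ℕ) :
    1 + m * x + m * (m - 1) / 2 * x ^ 2 + m * (m - 1) * (m - 2) / 6 * x ^ 3 ≤ (1 + x) ^ m := by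
  induction m with
  | zero => simp
  | succ m ih =>
    have : 0 ≤ (m : ℝ) * (m - 1) * (m - 2) := by
      rcases m with _ | _ | m
      · simp
      · simp
      · push_cast
        have : (0 : ℝ) ≤ m := m.cast_nonneg
        exact mul_nonneg (by nlinarith) (by linarith)
    rw [pow_succ (1 + x)]
    push_cast
    nlinarith [mul_le_mul_of_nonneg_right ih (by linarith : 0 ≤ 1 + x),
      mul_nonneg this (pow_nonneg hx 4)]

theorem num911 {a n q s : ℝ} {m : ℕ} (hq : q = m) (h3 : 3 ≤ q) (ha : 1 ≤ a)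
    (hna : n ≤ a) (h1 : n * s ≤ n * (a + 1) + (q - 1) * a)
    (h2 : (1 + 2 * a) ^ m - 1 ≤ 2 * a * q + 2 * a * (n * a) + s * q * (n * a)) : False := by
  have b := binom_le (x := 2 * a) (by linarith) m
  rw [← hq] at b
  have c : s * q * (n * a) ≤ q * a * (a * (a + 1) + (q - 1) * a) := by
    have : n * s ≤ a * (a + 1) + (q - 1) * a := by nlinarith
    nlinarith [mul_le_mul_of_nonneg_left this (by positivity : 0 ≤ q * a)]
  have d : n * a * a ≤ a * a * a := by gcongr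
  have e1 : 0 < a ^ 2 * (q * (q - 2)) := by
    have : 0 < q - 2 := by linarith
    positivity
  have e2 : 0 ≤ a ^ 3 * (4 / 3 * (q * (q - 1) * (q - 2)) - (q + 2)) :=
    mul_nonneg (by positivity) (by nlinarith [mul_nonneg (sub_nonneg.2 h3) (sq_nonneg q)])
  nlinarith

section Main

variable {G W₁ W₂ : Type*} [Group G] [Fintype G] [Group W₁] [Group W₂] [Fintype W₁] [Fintype W₂]
  {A : Set G} {M : Subgroup G} {R : G → Subgroup G} {K H H₀ U C W H₁ H₂ U₁ : Subgroup M}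
  [K.Normal] [H.Normal] [H₀.Normal] {ι : W₁ × W₂ →* M}
  {η : (W₁ →* ℂˣ) → (W₂ →* ℂˣ) → G → ℂ} {μ : (W₁ →* ℂˣ) → (W₂ →* ℂˣ) → M → ℂ}
  {δ : (W₂ →* ℂˣ) → ℤ}

/-- (9.11) in case (9.7.a) -/
theorem NG9.coh (h : Hyp9 K H H₀ U C W p) (e : NG9 H H₀ U W H₁ H₂ U₁ p a)
    (d : PrimeDade A M R K H ι η μ δ) {F : Finset (M → ℂ)} (hF : F.card ≤ p - 1)
    (hF' : ∀ φ ∈ indD K H H₀, ¬ IsIrrCharacter M φ → φ ∈ F ∧ nrm φ = #W) :
    Coh (indD K H (H₀ ⊔ ⁅C, C⁆)) (dade A M R) := by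
  classical
  obtain ⟨R', hR, -⟩ := d.exists_subCoh h.odd
  replace hR := hR.mono (indD_subset_bot (M := H₀ ⊔ ⁅C, C⁆)) fun _ => conjFun_mem_indD
  set S₁ := (seqD K H (H₀ ⊔ ⁅C, C⁆)).filter fun φ : M → ℂ => φ 1 = (#W * a : ℕ) with hS₁
  have m1 : ∀ φ, φ ∈ S₁ ↔ φ ∈ indD K H (H₀ ⊔ ⁅C, C⁆) ∧ φ 1 = (#W * a : ℕ) := fun φ => by
    rw [hS₁, Finset.mem_filter, mem_seqD]
  have h1 : (S₁ : Set (M → ℂ)) ⊆ indD K H (H₀ ⊔ ⁅C, C⁆) := fun φ i => ((m1 φ).1 i).1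
  have hc : ∀ φ ∈ S₁, conjFun φ ∈ S₁ := fun φ i => (m1 _).2 ⟨conjFun_mem_indD (h1 i), by
    rw [(hR.char _ (h1 i)).conjFun_one, ((m1 φ).1 i).2]⟩
  obtain ⟨ν, hν⟩ := (hR.mono h1 hc).coh_of_degree_eq fun φ i ψ j => by
    rw [((m1 φ).1 i).2, ((m1 ψ).1 j).2]
  obtain ⟨S', s1, s2⟩ := e.exists_S1 h
  have sub : S' ⊆ S₁ := fun φ i => (m1 φ).2
    ⟨indD_mono le_rfl (sup_le_sup_left (derS h.C_le) _) (s1 φ i).1, (s1 φ i).2.2⟩
  have p3 := h.three_le_p.2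
  have q3 := h.three_le_q
  have a0 := e.a_pos
  have pa := e.two_mul_le h
  have u0 := relIndex_pos C U
  have uU := relIndex_mul_relIndex _ _ _ h.derU h.C_le
  have c0 := relIndex_pos ⁅U, U⁆ C
  set q := #W with hq
  set u := C.relIndex U with hu
  set c := ⁅U, U⁆.relIndex C with hc'
  obtain ⟨φ₁, hφ₁⟩ : S'.Nonempty := Finset.card_pos.1 (Nat.pos_of_ne_zero fun i => by
    rw [i, zero_mul, ← uU] at s2
    exact (Nat.mul_pos (by omega) (Nat.mul_pos c0 u0)).ne s2)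
  have s3 : ∑ φ ∈ S', (φ 1).re ^ 2 / nrm φ = (q ^ 2 * ((p - 1) * (c * u)) : ℕ) := by
    rw [Finset.sum_congr rfl fun φ i => by
      rw [(s1 φ i).2.2, (s1 φ i).2.1.nrm_eq, div_one, Complex.natCast_re], Finset.sum_const,
      nsmul_eq_mul, uU, ← s2]
    push_cast; ring
  have nn : ∀ φ : M → ℂ, 0 ≤ (φ 1).re ^ 2 / nrm φ := fun φ =>
    div_nonneg (sq_nonneg _) (nrm_nonneg _)
  have s4 := Finset.sum_le_sum_of_subset_of_nonneg sub fun φ _ _ => nn φ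
  have n1 : 2 * (q * u) * (q * a) ≤ q ^ 2 * ((p - 1) * (c * u)) := by
    calc 2 * (q * u) * (q * a) = q ^ 2 * ((2 * a) * (1 * u)) := by ring
      _ ≤ _ := by gcongr; exacts [by omega, c0]
  have d1 : (φ₁ 1).re = (q * a : ℕ) := by rw [(s1 _ hφ₁).2.2, Complex.natCast_re]
  have qa : (0 : ℝ) < (q * a : ℕ) := by positivity
  have s5 : ∀ χ ∈ indD K H (H₀ ⊔ ⁅C, C⁆),
      2 * (χ 1).re * (φ₁ 1).re ≤ (2 * (q * u) * (q * a) : ℕ) := fun χ i => by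
    rw [d1, Nat.cast_mul (2 * (q * u))]
    push_cast
    gcongr
    exact h.deg_le i
  have s6 : ((2 * (q * u) * (q * a) : ℕ) : ℝ) ≤ ∑ φ ∈ S', (φ 1).re ^ 2 / nrm φ := by
    rw [s3]; exact_mod_cast n1
  have dv : ∀ χ ∈ indD K H (H₀ ⊔ ⁅C, C⁆), ∃ n : ℕ, χ 1 = n * φ₁ 1 := fun χ i => by
    rw [(s1 _ hφ₁).2.2]; exact e.dvd_deg h le_sup_left i
  by_cases hS : indD K H (H₀ ⊔ ⁅C, C⁆) ⊆ S₁
  · exact ⟨ν, hν.mono hS⟩
  suffices ∃ χ ∈ indD K H (H₀ ⊔ ⁅C, C⁆), χ ∉ S₁ ∧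
      CohWith (↑S₁ ∪ {χ, conjFun χ}) (dade A M R) ν by
    obtain ⟨χ, i, j, k⟩ := this
    exact hR.coh_of_step h1 hc (sub hφ₁) (fun χ o => ⟨dv χ o, ((s5 χ o).trans s6).trans s4⟩) i j k
  by_cases hx : ∃ χ ∈ indD K H (H₀ ⊔ ⁅C, C⁆), χ ∉ S₁ ∧
      2 * (χ 1).re * (φ₁ 1).re < ∑ φ ∈ S₁, (φ 1).re ^ 2 / nrm φ
  · obtain ⟨χ, i, j, k⟩ := hx
    exact ⟨χ, i, j, hR.extend h1 hc hν i j (sub hφ₁) (dv χ i).choose_spec k⟩
  push Not at hx
  obtain ⟨χ₀, x1, x2⟩ := Set.not_subset.1 hS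
  -- (9.11.1)
  have e1 : ∀ χ ∈ indD K H (H₀ ⊔ ⁅C, C⁆), χ ∉ S₁ → χ 1 = (q * u : ℕ) := fun χ i j => by
    have := (s5 χ i).antisymm ((s6.trans s4).trans (hx χ i j))
    rw [d1, Nat.cast_mul (2 * (q * u)), mul_left_inj' qa.ne', Nat.cast_mul 2, Nat.cast_two,
      mul_right_inj' two_ne_zero] at this
    rw [← (hR.char _ i).ofReal_re_one, this, Complex.ofReal_natCast]
  have e2 : S' = S₁ := by
    by_contra i
    obtain ⟨φ, j, k⟩ := Finset.exists_of_ssubset (sub.ssubset_of_ne i)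
    refine (Finset.sum_lt_sum_of_subset sub j k ?_ fun φ _ _ => nn φ).not_ge
      ((hx χ₀ x1 x2).trans ((s5 χ₀ x1).trans s6))
    rw [((m1 φ).1 j).2, Complex.natCast_re]
    exact div_pos (pow_pos qa 2) (hR.nrm_pos (h1 j))
  have e3 : q ^ 2 * ((p - 1) * (c * u)) ≤ 2 * (q * u) * (q * a) := by
    have := (s3.ge.trans s4).trans ((hx χ₀ x1 x2).trans (s5 χ₀ x1))
    exact_mod_cast this
  have e4 : (p - 1) * c ≤ 2 * a := Nat.le_of_mul_le_mul_left (c := q ^ 2 * u)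
    (by linarith) (by positivity)
  obtain ⟨e5, e6⟩ : c = 1 ∧ p = 2 * a + 1 := by
    have : p - 1 ≤ (p - 1) * c := Nat.le_mul_of_pos_right _ c0
    have e6 : p = 2 * a + 1 := by omega
    exact ⟨by rw [e6, Nat.add_sub_cancel] at e4; nlinarith, e6⟩
  have e7 : ⁅U, U⁆ = C := le_antisymm h.derU (relIndex_eq_one.1 e5)
  obtain ⟨n, hn⟩ : ∃ n, u = n * a :=
    ⟨_, by rw [hu, ← e.idxU, relIndex_mul_relIndex _ _ _ (e.C_le h) e.leU]⟩
  have n0 : 0 < n := Nat.pos_of_mul_pos_right (hn ▸ u0)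
  have e8 : S₁.card = 2 * n := by
    rw [← uU, e5, e2, e6, hn] at s2
    exact Nat.eq_of_mul_eq_mul_right (pow_pos a0 2) (by rw [s2, Nat.add_sub_cancel]; ring)
  have cC : indD K H (H₀ ⊔ C) ⊆ indD K H (H₀ ⊔ ⁅C, C⁆) :=
    indD_mono le_rfl (sup_le_sup_left (der_le C) _)
  -- (9.11.2)
  have e9 : ∀ w ∈ W, w ≠ 1 → U₁ ⊓ cj w U₁ = C := fun w i j => by
    obtain ⟨φ, b1, b2⟩ := e.exists_two h i
    have b3 : C ≤ U₁ ⊓ cj w U₁ := le_inf (e.C_le h) (e.C_le_cj h i)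
    have b4 := card_mul_relIndex (inf_le_left.trans e.leU : U₁ ⊓ cj w U₁ ≤ U)
    by_cases k : φ ∈ S₁
    · rw [((m1 φ).1 k).2, Nat.cast_inj, Nat.mul_right_inj (card_ne W)] at b2
      rw [← b2, ← card_mul_relIndex e.leU, e.idxU, Nat.mul_left_inj a0.ne'] at b4
      have b5 : W ≤ N[U₁] := (eq_zpowers_of_prime h.qprime i j).ge.trans (zpowers_le.2
        (mem_N_iff_cj.2 (eq_of_card_le (inf_eq_left.1 (eq_of_card_le inf_le_left b4.ge))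
          (card_cj _ _).le).symm))
      exact le_antisymm (e.le_C h fun v o => inf_le_left.trans (cj_of_mem_N (b5 o)).ge) b3
    · rw [e1 φ (cC b1) k, Nat.cast_inj, Nat.mul_right_inj (card_ne W)] at b2
      rw [← b2, ← card_mul_relIndex h.C_le, Nat.mul_left_inj u0.ne'] at b4
      exact (eq_of_card_le b3 b4.le).symm
  have e10 : n ≤ a := by
    obtain ⟨w, i, j⟩ := exists_mem_ne_one (ne_bot_of_prime h.qprime)
    have := relIndex_inf_le (H := U₁) (K := cj w U₁) (L := U)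
    rw [e9 w i j, e.idxU, e.idx_cj h i, ← hu, hn] at this
    exact Nat.le_of_mul_le_mul_right this a0
  -- (9.11.4)
  set γ := indFun (H ⊔ U₁) fun _ => 1 with hγ
  have g1 : IsCharacter M γ := isCharacter_one.indFun
  have g2 : ∀ φ ∈ indD K H (H₀ ⊔ ⁅C, C⁆), classInner γ φ = 0 := fun φ i =>
    inner_eq_zero_of_ker g1 (fun x => indFun_apply_eq_of_ker le_sup_left fun _ _ => rfl) i
  have g3 := h1 (sub hφ₁)
  have g4 := (s1 _ hφ₁).2.1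
  have g5 : ∀ x : M, (x : G) ∉ A → (γ - φ₁) x = 0 := fun x i => by
    by_cases j : x = 1
    · rw [j, Pi.sub_apply, hγ, indFun_one, h.index_supH e.leU, e.idxU, (s1 _ hφ₁).2.2]; simp [hq]
    rw [Pi.sub_apply, d.supp_indD g3 x j i, sub_zero]
    refine indFun_eq_zero_of_not_conj _ _ fun g k => i ?_
    obtain ⟨y, b1, b2, b3⟩ := e.exists_comm h k
    refine d.cent (g * y * g⁻¹) (Normal.conj_mem inferInstance y b1 g) (by simpa using b2) x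
      (by simpa [mul_assoc] using Normal.conj_mem inferInstance _ (h.leK le_rfl e.leU k) g) j ?_
    calc g * y * g⁻¹ * x = g * (y * (g⁻¹ * x * g)) * g⁻¹ := by group
      _ = _ := by rw [b3]; group
  have g6 := g1.isGen.sub g4.isGen
  set S₄ := (seqD K H (H₀ ⊔ C)).filter fun φ => φ ∉ S₁ ∧ IsIrrCharacter M φ with hS₄
  have m4 : ∀ φ ∈ S₄, φ ∈ indD K H (H₀ ⊔ C) ∧ φ ∉ S₁ ∧ IsIrrCharacter M φ := fun φ i => by
    rwa [hS₄, Finset.mem_filter, mem_seqD] at i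
  refine hR.exists_step (S₄ := S₄) h1 hc (sub hφ₁) (fun φ i => (s1 φ (e2 ▸ i)).2.1)
    (fun φ i => by rw [((m1 φ).1 i).2, (s1 _ hφ₁).2.2]) (n := n)
    (fun i => x2 ((m1 _).2 ⟨x1, by rw [e1 _ x1 x2, hn, i, one_mul]⟩)) e8
    (fun φ i j => by rw [e1 φ i j, (s1 _ hφ₁).2.2, hn]; push_cast; ring)
    (fun φ i => ⟨cC (m4 φ i).1, (m4 φ i).2.1⟩) (fun φ i => (m4 φ i).2.2) (α := γ - φ₁)
    (d.hyp.isGen_dade g6 g5) (fun β i => d.hyp.classInner_dade g6.isClassFunction i g5)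
    (by rw [classInner_sub_left, g2 _ g3, g4.classInner_self, zero_sub])
    (fun φ i j => by rw [classInner_sub_left, g2 _ i, hR.orth _ g3 _ i j.symm, sub_zero]) ?_ hν
  -- (9.11.3), (9.11.5)
  rw [d.hyp.nrm_dade g6.isClassFunction g5, nrm_sub_of_orth (g2 _ g3), g4.nrm_eq]
  by_contra! hlt
  have t1 := e.nrm_le h e9 hn
  have t2 := h.sum_sq le_rfl h.nC
  have t3 := h.red_bound hF hF' (S := (seqD K H (H₀ ⊔ C)).filter fun φ => ¬ IsIrrCharacter M φ)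
    fun φ i => ⟨cC (mem_seqD.1 (Finset.mem_filter.1 i).1), (Finset.mem_filter.1 i).2⟩
  have t4 : ∑ φ ∈ S₄, (φ 1).re ^ 2 / nrm φ = S₄.card * ((q : ℝ) * u) ^ 2 := by
    rw [Finset.sum_congr rfl fun φ i => by
      rw [e1 φ (cC (m4 φ i).1) (m4 φ i).2.1, (m4 φ i).2.2.nrm_eq, div_one, Complex.natCast_re],
      Finset.sum_const, nsmul_eq_mul, Nat.cast_mul]
  have t5 : seqD K H (H₀ ⊔ C) ⊆ S₁ ∪ (S₄ ∪
      (seqD K H (H₀ ⊔ C)).filter fun φ => ¬ IsIrrCharacter M φ) := fun φ i => by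
    simp only [hS₄, Finset.mem_union, Finset.mem_filter, i, true_and]
    tauto
  have t6 : ∀ s t : Finset (M → ℂ), ∑ φ ∈ s ∪ t, (φ 1).re ^ 2 / nrm φ ≤
      ∑ φ ∈ s, (φ 1).re ^ 2 / nrm φ + ∑ φ ∈ t, (φ 1).re ^ 2 / nrm φ := fun s t => by
    rw [← Finset.sum_union_inter]
    exact le_add_of_nonneg_right (Finset.sum_nonneg fun φ _ => nn φ)
  have t7 := (Finset.sum_le_sum_of_subset_of_nonneg t5 fun φ _ _ => nn φ).trans
    ((t6 _ _).trans (add_le_add_right (t6 _ _) _))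
  rw [t2, t4, ← e2, s3, e5, e6, Nat.add_sub_cancel] at t7
  rw [e6] at t3
  rw [← hq, ← hu, hn] at t3 t7
  push_cast at t3 t7
  have n0' : (0 : ℝ) < n := by exact_mod_cast n0
  have a0' : (1 : ℝ) ≤ a := by exact_mod_cast a0
  have q0 : (3 : ℝ) ≤ q := by exact_mod_cast q3
  refine num911 (s := S₄.card) (n := n) (m := q) rfl q0 a0' (by exact_mod_cast e10) (by nlinarith)
    (le_of_mul_le_mul_left (a := (q : ℝ) * (n * a)) ?_ (by positivity))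
  rw [add_comm 1]
  linarith

end Main

end Cfsg.Agent.PF
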