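import Cfsg.Agent.PF.S09a
import Cfsg.Agent.PF.S09x

/-! Peterfalvi, section 9, characters (9.8 - 9.10). -/

set_option autoImplicit false
set_option linter.unusedSectionVars false

namespace Cfsg.Agent.PF

open Cfsg Cfsg.Agent.Char Cfsg.Agent.BG Subgroup
open scoped ComplexConjugate

variable {G : Type*} [Group G] [Fintype G]

/-- `𝒮(N)` of section 9: `Ind_{M'}^M θ` with `N ≤ ker θ` and `M_F ≰ ker θ` -/
abbrev S9 (M N : Subgroup G) : Set (M → ℂ) := indD (⁅M, M⁆ ⇂ M) (MF[M] ⇂ M) (N ⇂ M)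
/-- `𝒮(1)` of section 9, the set `𝒮` of section 13 -/
abbrev S0 (M : Subgroup G) : Set (M → ℂ) := indD (⁅M, M⁆ ⇂ M) (MF[M] ⇂ M) ⊥
/-- `𝒮(N)` of section 11: `Ind_{M'}^M θ` with `N ≤ ker θ` and `θ ≠ 1` -/
abbrev SD (M N : Subgroup G) : Set (M → ℂ) := inducedIrrAbove (⁅M, M⁆ ⇂ M) (N ⇂ M)
/-- the set `𝒮` of section 10 -/
abbrev SD0 (M : Subgroup G) : Set (M → ℂ) := inducedIrrAbove (⁅M, M⁆ ⇂ M) ⊥
/-- `ζ` is induced from a linear character of `X` -/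
def IndLin (M X : Subgroup G) (ζ : M → ℂ) : Prop :=
  ∃ l : ↥(X ⇂ M) →* ℂˣ, ζ = indFun (X ⇂ M) fun x => (l x : ℂ)

theorem S9_bot (M : Subgroup G) : S9 M ⊥ = S0 M := by rw [S9, bot_subgroupOf]
theorem SD_bot (M : Subgroup G) : SD M ⊥ = SD0 M := by rw [SD, bot_subgroupOf]

/-- `ζ ∈ 𝒮(H₀C)` has degree `qu` and is induced from a linear character of `HC` -/
structure IndHC (M U W₁ H₀ C : Subgroup G) (ζ : M → ℂ) : Prop where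
  deg : ζ 1 = (#W₁ * C.relIndex U : ℕ)
  mem : ζ ∈ S9 M (H₀ ⊔ C)
  ind : IndLin M (MF[M] ⊔ C) ζ

section Transfer

variable {M A B D X : Subgroup G}

theorem sub_norm (h : X ≤ N[A]) : X ⇂ M ≤ N[A ⇂ M] :=
  le_N_iff.2 fun _ i _ j => conj_mem (A := A) (h i) j
theorem sub_sdprod (h : Sdprod A B D) (hD : D ≤ M) : Sdprod (A ⇂ M) (B ⇂ M) (D ⇂ M) :=
  ⟨by rw [← sub_sup (h.left.trans hD) (h.right.trans hD), h.sup],
    by rw [← sub_inf, h.inf, bot_subgroupOf], sub_norm h.norm⟩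
theorem map_norm {Y : Subgroup M} (h : X ≤ M) (h1 : X ⇂ M ≤ N[Y]) : X ≤ N[Y.map M.subtype] :=
  le_N_iff.2 fun g i _ ⟨y, j, k⟩ => ⟨⟨g, h i⟩ * y * ⟨g, h i⟩⁻¹, conj_mem (h1 i) j, k ▸ rfl⟩
theorem sub_cj (w : M) : cj (w : G) A ⇂ M = cj w (A ⇂ M) :=
  Subgroup.ext fun _ => by rw [mem_sub, mem_cj, mem_cj]; rfl
theorem sub_max (hA : A ≤ M) (hB : B ≤ A) (hX : X ≤ M)
    (h : ∀ Y, B ≤ Y → Y < A → X ≤ N[Y] → Y = B) (Y : Subgroup M) (h1 : B ⇂ M ≤ Y)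
    (h2 : Y < A ⇂ M) (h3 : X ⇂ M ≤ N[Y]) : Y = B ⇂ M := by
  rw [← h (Y.map M.subtype) ((map_sub (hB.trans hA)).ge.trans (map_mono h1))
    (((map_subtype_lt_map_subtype).2 h2).trans_eq (map_sub hA)) (map_norm hX h3), sub_map]

end Transfer

variable [hG : MSO G] {M U W₁ W₂ H₀ C H₁ U₁ : Subgroup G} {p a : ℕ}

namespace P9

theorem n0 (h : P9 M U W₁ W₂ H₀ C p) : (H₀ ⇂ M).Normal := sub_normal h.chief.nV
theorem le0 (h : P9 M U W₁ W₂ H₀ C p) : H₀ ≤ M := h.chief.lt.le.trans (MF_le M)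
theorem leC (h : P9 M U W₁ W₂ H₀ C p) : C ≤ M := h.C_le.trans h.leU

theorem hyp9 (h : P9 M U W₁ W₂ H₀ C p) :
    Hyp9 (⁅M, M⁆ ⇂ M) (MF[M] ⇂ M) (H₀ ⇂ M) (U ⇂ M) (C ⇂ M) (W₁ ⇂ M) p where
  sdK := subgroupOf_self M ▸ sub_sdprod h.der le_rfl
  sdH := sub_sdprod h.sd (der_le M)
  nU := sub_norm h.norm
  le0 := sub_mono h.chief.lt.le
  der := (sub_comm (MF_le M) (MF_le M)).ge.trans (sub_mono h.der_le0)
  prime := h.prime
  qprime := card_sub h.le1 ▸ h.q_prime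
  odd := mso_odd M
  idx := by rw [relIndex_sub (MF_le M), card_sub h.le1, h.idx]
  memC x := (h.memC x).trans (and_congr_right fun _ =>
    ⟨fun i y j => i y j, fun i y j => i ⟨y, MF_le M j⟩ j⟩)
  derU := (sub_comm h.leU h.leU).ge.trans (sub_mono h.der_le_C)
  chief Y a b c := sub_max (MF_le M) h.chief.lt.le h.sdF.right (fun Y i j k => h.chief.max Y i j
    (h.sdF.sup.ge.trans (sup_le (norm_of_der_le (h.der_le0.trans i) j.le) k))) Y a b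
    (sub_sup h.leU h.le1 ▸ c)

theorem ng9 (h : P9 M U W₁ W₂ H₀ C p) (e : NonGal M U W₁ H₀ H₁ U₁ p a) :
    NG9 (MF[M] ⇂ M) (H₀ ⇂ M) (U ⇂ M) (W₁ ⇂ M) (H₁ ⇂ M)
      ((H₀ ⊔ ⨆ v ∈ W₁, ⨆ _ : v ≠ 1, cj v H₁) ⇂ M) (U₁ ⇂ M) p a := by
  have a1 : ∀ v ∈ W₁, cj v H₁ ≤ MF[M] := fun v i => e.sup ▸ le_iSup₂_of_le v i le_rfl
  have a2 : (H₀ ⊔ ⨆ v ∈ W₁, ⨆ _ : v ≠ 1, cj v H₁) ≤ MF[M] :=
    sup_le h.chief.lt.le (iSup₂_le fun v i => iSup_le fun _ => a1 v i)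
  have a3 : ∀ v ∈ W₁, v ≠ 1 → cj v H₁ ≤ H₀ ⊔ ⨆ v ∈ W₁, ⨆ _ : v ≠ 1, cj v H₁ := fun v i j =>
    le_sup_of_le_right (le_iSup₂_of_le v i (le_iSup_of_le j le_rfl))
  have b := e.le.trans (MF_le M)
  refine ⟨sub_mono e.le0, by rw [relIndex_sub b, e.idx], sub_norm e.norm, sub_norm (normY
    (h.leU.trans h.chief.nV) (norm_iSup fun v => norm_iSup fun i => norm_iSup fun _ =>
      cj_of_mem_N (h.norm i) ▸ norm_cj.2 e.norm)), ?_, ?_, fun w i j => sub_cj w ▸ sub_mono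
    (a3 w i fun k => j (Subtype.ext k)), fun X i y j => ?_, fun x => (e.memU x).trans
    (and_congr_right fun _ => ⟨fun i y j => i y j, fun i y j => i ⟨y, b j⟩ j⟩),
    by rw [relIndex_sub h.leU, e.idxU], (h.nonGal_facts e).2.1⟩
  · rw [← sub_sup b (a2.trans (MF_le M)), le_antisymm (sup_le e.le a2)
      (e.sup.ge.trans (iSup₂_le fun v i => ?_))]
    by_cases j : v = 1
    exacts [by rw [j, cj_one]; exact le_sup_left, (a3 v i j).trans le_sup_right]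
  · have := e.indep 1 (one_mem _)
    rw [cj_one] at this
    rw [← sub_inf, this]
  · rw [← sub_map X]
    refine (e.sup.ge.trans (iSup₂_le fun v k => ?_) : _ ≤ X.map M.subtype) j
    rw [← map_sub ((a1 v k).trans (MF_le M))]
    exact map_mono ((sub_cj (⟨v, h.le1 k⟩ : M)).le.trans (i _ k))

theorem muR_mem_iff' (h : P9 M U W₁ W₂ H₀ C p) {j} {N : Subgroup G} (h1 : N ≤ ⁅M, M⁆)
    (h2 : M ≤ N[N]) : h.μR j ∈ S9 M N ↔ j ≠ 1 ∧ ∀ b : W₂, (b : G) ∈ N → j b = 1 := by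
  have := sub_normal h2
  have a := h.primeFam.muR_mem_iff (N := N ⇂ M) (sub_mono h1) (j := j)
  simp only [mem_sub, PD.ι_coe, OneMemClass.coe_one, one_mul] at a
  refine ⟨fun i => a.1 (indD_subset i), fun i => mem_indD_of_ker (h.pdF.muR_mem i.1) ?_⟩
  obtain ⟨θ, -, -, b, c⟩ := a.2 i
  intro n k
  rw [PD.μR, c]
  exact indFun_apply_eq_of_ker (sub_mono h1) b k

/-- the reducible members of `𝒮(H₀)` -/
theorem muR_mem_iff (h : P9 M U W₁ W₂ H₀ C p) {j} :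
    h.μR j ∈ S9 M H₀ ↔ j ≠ 1 ∧ ∀ b : W₂, (b : G) ∈ H₀ → j b = 1 :=
  h.muR_mem_iff' (h.chief.lt.le.trans h.sd.left) h.chief.nV

theorem card_J (h : P9 M U W₁ W₂ H₀ C p) :
    (Finset.univ.filter fun j => h.μR j ∈ seqD (⁅M, M⁆ ⇂ M) (MF[M] ⇂ M) (H₀ ⇂ M)).card = p - 1 := by
  classical
  have a := card_hom_ker (W := W₂) (fun a b => Subtype.ext (mem_C_comm h.cyc2.abel a.2 b.2))
    (H₀ ⇂ W₂)
  rw [index_sub, h.idxW, Nat.card_eq_fintype_card, Fintype.card_subtype] at a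
  refine Eq.trans ?_ ((Finset.card_erase_of_mem (a := 1) (by simp)).trans (congrArg (· - 1) a))
  congr 1
  ext j
  simp only [Finset.mem_filter, Finset.mem_univ, true_and, mem_seqD, Finset.mem_erase]
  exact h.muR_mem_iff

theorem exists_muR (h : P9 M U W₁ W₂ H₀ C p) : ∃ j, h.μR j ∈ S9 M H₀ := by
  obtain ⟨j, a⟩ := Finset.card_pos.1 (h.card_J ▸ Nat.sub_pos_of_lt h.prime.one_lt)
  exact ⟨j, mem_seqD.1 (Finset.mem_filter.1 a).2⟩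

theorem exists_red (h : P9 M U W₁ W₂ H₀ C p) : ∃ F : Finset (M → ℂ), F.card ≤ p - 1 ∧
    ∀ φ ∈ S9 M H₀, ¬ IsIrrCharacter M φ → φ ∈ F ∧ nrm φ = #(W₁ ⇂ M) := by
  classical
  refine ⟨_, (Finset.card_image_le (f := h.μR)).trans h.card_J.le, fun φ i j => ?_⟩
  obtain ⟨k, -, rfl⟩ := (h.pdF.cases_indD i).resolve_right fun o => j o.1
  exact ⟨Finset.mem_image_of_mem _ (Finset.mem_filter.2 ⟨Finset.mem_univ _, mem_seqD.2 i⟩),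
    by rw [h.primeFam.nrm_muR, card_sub h.le1]⟩

theorem sub_C' (h : P9 M U W₁ W₂ H₀ C p) : (H₀ ⊔ ⁅C, C⁆) ⇂ M = H₀ ⇂ M ⊔ ⁅C ⇂ M, C ⇂ M⁆ := by
  rw [sub_sup h.le0 ((der_le C).trans h.leC), sub_comm h.leC h.leC]

theorem indLin_iff (h : P9 M U W₁ W₂ H₀ C p) {φ : M → ℂ} : IndLin M (MF[M] ⊔ C) φ ↔
    ∃ ξ : ↥(MF[M] ⇂ M ⊔ C ⇂ M) →* ℂˣ, φ = indFun (MF[M] ⇂ M ⊔ C ⇂ M) fun x => (ξ x : ℂ) := by
  rw [IndLin, sub_sup (MF_le M) h.leC]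

/-- (9.8.b), (9.9.a), (9.9.b) -/
theorem indLin_of (h : P9 M U W₁ W₂ H₀ C p) {φ : M → ℂ} (hφ : φ ∈ S9 M (H₀ ⊔ ⁅C, C⁆))
    (h1 : ¬ IsIrrCharacter M φ ∨ Galois M U H₀) :
    φ 1 = (#W₁ * C.relIndex U : ℕ) ∧ IndLin M (MF[M] ⊔ C) φ := by
  have := h.n0
  have a := h.hyp9.exists_ind h.sub_C'.ge hφ
    (h1.imp_right fun i => sub_max (MF_le M) h.chief.lt.le h.leU i)
  rwa [card_sub h.le1, relIndex_sub h.leU, ← h.indLin_iff] at a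

/-- (9.8.b), (9.9.b) -/
theorem indHC_muR (h : P9 M U W₁ W₂ H₀ C p) {j} (hj : h.μR j ∈ S9 M H₀) :
    IndHC M U W₁ H₀ C (h.μR j) := by
  have a : h.μR j ∈ S9 M (H₀ ⊔ C) := by
    rw [h.muR_mem_iff] at hj
    refine (h.muR_mem_iff' (sup_le (h.chief.lt.le.trans h.sd.left) (h.C_le.trans h.sd.right))
      h.normH0C).2 ⟨hj.1, fun b i => hj.2 b ?_⟩
    have := (modl_l (h.leC.trans h.chief.nV) h.chief.lt.le).le (mem_inf.2 ⟨i, h.le2 b.2⟩)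
    rwa [eq_bot_iff.2 ((inf_le_inf_right _ h.C_le).trans ((inf_comm _ _).trans h.sd.inf).le),
      sup_bot_eq] at this
  have b := h.indLin_of (indD_mono le_rfl (sub_mono (sup_le_sup_left (der_le C) _)) a)
    (Or.inl (h.primeFam.not_irr_muR j))
  exact ⟨b.1, a, b.2⟩

/-- a consequence of (9.8.d) -/
theorem nonGal_exists (h : P9 M U W₁ W₂ H₀ C p) (hn : NonGal M U W₁ H₀ H₁ U₁ p a) :
    ∃ ζ ∈ S9 M (H₀ ⊔ ⁅U, U⁆), IsIrrCharacter M ζ ∧ ζ 1 = (#W₁ * a : ℕ) := by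
  have := h.n0
  obtain ⟨S, b, c⟩ := (h.ng9 hn).exists_S1 h.hyp9
  obtain ⟨ζ, d⟩ : S.Nonempty := Finset.card_pos.1 (Nat.pos_of_ne_zero fun i => by
    rw [i, zero_mul] at c
    exact (Nat.mul_pos (Nat.sub_pos_of_lt h.prime.one_lt) (relIndex_pos _ _)).ne c)
  refine ⟨ζ, ?_, (b ζ d).2.1, card_sub h.le1 ▸ (b ζ d).2.2⟩
  rw [S9, sub_sup h.le0 ((der_le U).trans h.leU), sub_comm h.leU h.leU]
  exact (b ζ d).1

/-- (9.8.c) -/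
theorem nonGal_irr (h : P9 M U W₁ W₂ H₀ C p) (hn : ¬ Galois M U H₀) :
    ∃ ζ, IsIrrCharacter M ζ ∧ IndHC M U W₁ H₀ C ζ := by
  have := h.n0
  obtain ⟨H₁, U₁, a, e⟩ := h.exists_nonGal hn
  obtain ⟨ζ, b, c, d, f⟩ := (h.ng9 e).exists_irr h.hyp9
  rw [card_sub h.le1, relIndex_sub h.leU] at c
  exact ⟨ζ, d, c, by rwa [S9, sub_sup h.le0 h.leC], h.indLin_iff.2 f⟩

/-- (9.10) -/
theorem cases (h : P9 M U W₁ W₂ H₀ C p) :
    (∃ ζ ∈ S9 M (H₀ ⊔ ⁅C, C⁆), IsIrrCharacter M ζ ∧ ζ 1 = (#W₁ * C.relIndex U : ℕ) ∧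
      IndLin M (MF[M] ⊔ C) ζ) ∨
      Galois M U H₀ ∧ C = ⊥ ∧ Cyc U ∧ #U * (p - 1) = p ^ #W₁ - 1 ∧
        (TypeP2 M → Frob MF[M] U ⁅M, M⁆) := by
  have := h.n0
  by_cases hg : Galois M U H₀
  swap
  · obtain ⟨ζ, a, b⟩ := h.nonGal_irr hg
    exact Or.inl ⟨ζ, indD_mono le_rfl (sub_mono (sup_le_sup_left (der_le C) _)) b.mem, a,
      b.deg, b.ind⟩
  refine or_iff_not_imp_left.2 fun i => ?_
  obtain ⟨F, a, b⟩ := h.exists_red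
  have c := h.hyp9.le_of_red a b fun φ j k => by
    rw [← h.sub_C'] at j
    exact i ⟨φ, j, k, h.indLin_of j (Or.inr hg)⟩
  rw [← sub_comm h.leC h.leC, relIndex_sub h.leC, relIndex_sub h.leU, card_sub h.le1] at c
  have d := h.u_le
  have e : 0 < p ^ #W₁ - 1 := Nat.sub_pos_of_lt (Nat.one_lt_pow (card_ne _) h.prime.one_lt)
  have f : ⁅C, C⁆.relIndex C = 1 := le_antisymm
    (Nat.le_of_mul_le_mul_right (by rw [one_mul]; exact c.trans d) e) (relIndex_pos _ _)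
  obtain rfl : C = ⊥ := by_contra fun j =>
    ((h.nil.of_le h.C_le).sol.der_lt j).not_ge (relIndex_eq_one.1 f)
  rw [f, one_mul, relIndex_bot_left] at c
  rw [relIndex_bot_left] at d
  have k : Cyc U := cyc_of_im_inj (norm_bot U) (by rw [quo_ker, inf_bot_eq])
    (h.galois_facts hg).1
  exact ⟨hg, rfl, k, d.antisymm c, fun j => (h.ofF j).1 ▸ (h.ofF j).2.frob_of_zg (mso_odd _) k.zg⟩

end P9

end Cfsg.Agent.PF
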