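import Cfsg.Agent.PF.S09b

/-! Peterfalvi (9.11). -/

set_option autoImplicit false
set_option linter.unusedSectionVars false

namespace Cfsg.Agent.PF

open Cfsg Cfsg.Agent.Char Cfsg.Agent.BG Subgroup
open scoped ComplexConjugate

variable {G : Type*} [Group G] [Fintype G] [hG : MSO G] {M U W₁ W₂ H₀ C : Subgroup G} {p : ℕ}

/-- (9.11) -/
theorem P9.coh (h : P9 M U W₁ W₂ H₀ C p) : Coh (S9 M (H₀ ⊔ ⁅C, C⁆)) (tau M) := by
  have := h.n0
  by_cases hg : Galois M U H₀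
  · obtain ⟨R, a, -⟩ := h.pdF.exists_subCoh (mso_odd M)
    exact (a.mono indD_subset_bot fun _ => conjFun_mem_indD).coh_of_degree_eq fun φ i ψ j => by
      rw [(h.indLin_of i (Or.inr hg)).1, (h.indLin_of j (Or.inr hg)).1]
  obtain ⟨H₁, U₁, a, e⟩ := h.exists_nonGal hg
  obtain ⟨F, b, c⟩ := h.exists_red
  rw [S9, h.sub_C']
  exact (h.ng9 e).coh h.hyp9 h.pdF b c

end Cfsg.Agent.PF
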