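import Cfsg.Agent.PF.S09c

/-! Peterfalvi, section 10 (10.1 - 10.8): types III, IV, V. -/

set_option autoImplicit false
set_option linter.unusedSectionVars false

namespace Cfsg.Agent.PF

open Cfsg Cfsg.Agent.Char Cfsg.Agent.BG Subgroup
open scoped ComplexConjugate

/-- the nonprincipal characters of a group of prime order are Galois conjugate -/
theorem exists_homMap_eq {W : Type*} [Group W] [Finite W] (hp : (Nat.card W).Prime) {j k : W →* ℂˣ}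
    (hj : j ≠ 1) (hk : k ≠ 1) : ∃ u : ℂ →+* ℂ, homMap u j = k := by
  have := Fact.mk hp
  have hc : Nat.card (W →* ℂˣ) = Nat.card W := by
    rw [Nat.card_eq_fintype_card, card_hom_of_isCyclic (isCyclic_of_prime_card rfl)]
  obtain ⟨m, rfl⟩ := mem_powers_of_prime_card hc hj (g' := k)
  have hm : m.Coprime (Nat.card W) := ((Nat.Prime.coprime_iff_not_dvd hp).2 fun ⟨c, e⟩ => hk (by
    simp only [e, pow_mul]; rw [← hc, pow_card_eq_one', one_pow])).symm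
  obtain ⟨σ, hσ⟩ := exists_ringEquiv_pow hp.ne_zero hm
  refine ⟨σ.toRingHom, MonoidHom.ext fun w => Units.ext ?_⟩
  rw [homMap_apply]
  exact (hσ _ (hom_pow_card j w)).trans (by simp)

variable {G : Type*} [Group G] [Fintype G] [hG : MSO G] {M U W₁ W₂ : Subgroup G}

theorem _root_.Cfsg.Agent.BG.PD.der_not_le (h : PD M U W₁ W₂) :
    ¬ ⁅M, M⁆ ⇂ M ≤ ⁅⁅M, M⁆ ⇂ M, ⁅M, M⁆ ⇂ M⁆ ⊔ ⁅⁅M, M⁆, ⁅M, M⁆⁆ ⇂ M := by
  rw [← sub_comm (der_le M) (der_le M), sup_idem, sub_le_iff (der_le M)]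
  exact (((mso_sol h.max.1).of_le (der_le M)).der_lt fun e => h.ne2 (eq_bot_iff.2 (e ▸ h.le2'))).not_ge

theorem _root_.Cfsg.Agent.BG.PD.irr_of_der2 (h : PD M U W₁ W₂) {ζ : M → ℂ}
    (hζ : ζ ∈ SD M ⁅⁅M, M⁆, ⁅M, M⁆⁆) : IsIrrCharacter M ζ :=
  h.primeFam.isIrr_of_mem (sub_mono (der_le _)) (fun b => h.le2'' (by simp)) hζ

/-- (10.2) -/
theorem _root_.Cfsg.Agent.BG.PD.exists_ref (h : PD M U W₁ W₂) :
    ∃ ζ ∈ SD0 M, IsIrrCharacter M ζ ∧ ζ 1 = (#W₁ : ℕ) := by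
  obtain ⟨ζ, a, b⟩ := exists_mem_inducedIrrAbove_of_not_le h.der_not_le
  exact ⟨ζ, inducedIrrAbove_anti bot_le a, h.irr_of_der2 a, by rw [b, h.index_der]⟩

theorem _root_.Cfsg.Agent.BG.PD.partner (h : PD M U W₁ W₂) (h1 : TypeP1 M) :
    ∃ S V, PPair M S U V W₁ W₂ ∧ TypeP2 S :=
  let ⟨S, V, e⟩ := h.pair; ⟨S, V, e, e.p2.resolve_left fun c => c.pi h1.pi⟩

/-- (10.3) -/
theorem _root_.Cfsg.Agent.BG.PD.prime2_of_p1 (h : PD M U W₁ W₂) (h1 : TypeP1 M) :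
    (#W₂).Prime := by
  obtain ⟨S, V, e, c⟩ := h.partner h1
  exact (e.hT.prime_ti (e.hT.p2_iff.1 c).1).1

theorem _root_.Cfsg.Agent.BG.PD.exists_ne_one₂ (h : PD M U W₁ W₂) : ∃ j : W₂ →* ℂˣ, j ≠ 1 := by
  have : 1 < Fintype.card (W₂ →* ℂˣ) := by rw [h.cycTI.card_hom₂]; have := h.three_le₂; omega
  exact Fintype.exists_ne_of_one_lt_card this 1

theorem _root_.Cfsg.Agent.BG.PD.exists_ne_one₁ (h : PD M U W₁ W₂) : ∃ i : W₁ →* ℂˣ, i ≠ 1 := by
  have : 1 < Fintype.card (W₁ →* ℂˣ) := by rw [h.cycTI.card_hom₁]; have := h.three_le₁; omega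
  exact Fintype.exists_ne_of_one_lt_card this 1

/-- the characters `μ_ij`, `j ≠ 1`, are not linear -/
theorem _root_.Cfsg.Agent.BG.PD.mu_one_ne (h : PD M U W₁ W₂) (i) {j} (hj : j ≠ 1) : h.μ i j 1 ≠ 1 := fun e => by
  obtain ⟨l, hl⟩ := (h.primeFam.irr i j).isCharacter.exists_hom e
  obtain ⟨k, hk⟩ := h.primeFam.exists_of_ker (h.primeFam.irr i j) fun k hk => by
    have : ⁅M, M⁆ ⇂ M ≤ l.ker := by
      rw [sub_comm le_rfl le_rfl, commutator_le]
      intro a _ b _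
      simp [commutatorElement_def, MonoidHom.mem_ker]
    rw [hl]; simp [MonoidHom.mem_ker.1 (this hk)]
  exact hj (h.primeFam.eq_iff.1 hk).2

/-- Hypothesis (10.1) with the constants `d, δ, n` of (10.3) and `ζ` as in (10.2). -/
structure C345 (h : PD M U W₁ W₂) (d n : ℕ) (δ : ℤ) (ζ : M → ℂ) : Prop where
  p1 : TypeP1 M
  deg : ∀ i j, j ≠ 1 → h.μ i j 1 = d
  sgn : ∀ j, j ≠ 1 → h.δ j = δ
  lt : 1 < d
  eq : (d : ℤ) = δ + n * #W₁
  mem : ζ ∈ SD0 M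
  irr : IsIrrCharacter M ζ
  one : ζ 1 = (#W₁ : ℕ)

/-- (10.3) -/
theorem _root_.Cfsg.Agent.BG.PD.exists_c345 (h : PD M U W₁ W₂) (h1 : TypeP1 M) :
    ∃ d n δ, ∀ ζ ∈ SD0 M, IsIrrCharacter M ζ → ζ 1 = (#W₁ : ℕ) → C345 h d n δ ζ := by
  obtain ⟨j, hj⟩ := h.exists_ne_one₂
  obtain ⟨d, d0, hd⟩ := (h.primeFam.irr 1 j).exists_nat
  obtain ⟨n, hn⟩ := h.primeFam.degree_mod 1 j
  have d1 : 1 < d := lt_of_le_of_ne d0 fun e => h.mu_one_ne 1 hj (by rw [hd, ← e, Nat.cast_one])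
  have e : (d : ℤ) = h.δ j + n * #W₁ := by exact_mod_cast hd.symm.trans hn
  have n0 : 0 ≤ n := by
    have := h.three_le₁
    rcases h.primeFam.sign j with a | a <;> nlinarith
  lift n to ℕ using n0
  refine ⟨d, n, h.δ j, fun ζ a b c => ⟨h1, fun i k hk => ?_, fun k hk => ?_, d1, e, a, b, c⟩⟩ <;>
    obtain ⟨u, rfl⟩ := exists_homMap_eq (h.prime2_of_p1 h1) hj hk
  · rw [h.primeFam.degree_map u 1, hd]
  · exact h.primeFam.sign_map u j

/-- `α_ij` of (10.5) -/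
noncomputable def alpha (h : PD M U W₁ W₂) (n : ℕ) (δ : ℤ) (ζ : M → ℂ) (i : W₁ →* ℂˣ)
    (j : W₂ →* ℂˣ) : M → ℂ := h.μ i j - (δ : ℂ) • h.μ i 1 - (n : ℂ) • ζ

variable {h : PD M U W₁ W₂} {d n : ℕ} {δ : ℤ} {ζ : M → ℂ} {i : W₁ →* ℂˣ} {j : W₂ →* ℂˣ}

theorem indD_eq (M : Subgroup G) : indD (⁅M, M⁆ ⇂ M) (⁅M, M⁆ ⇂ M) ⊥ = SD0 M := indD_self le_rfl

theorem _root_.Cfsg.Agent.BG.PD.muR_mem0 (h : PD M U W₁ W₂) (hj : j ≠ 1) : h.μR j ∈ SD0 M :=
  indD_subset (h.pdF.muR_mem hj)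

theorem _root_.Cfsg.Agent.BG.PD.ne_mu (h : PD M U W₁ W₂) (hζ : ζ ∈ SD0 M) (hi : IsIrrCharacter M ζ) (i j) :
    ζ ≠ h.μ i j := by
  obtain ⟨θ, a, -, -, rfl⟩ := mem_inducedIrrAbove.1 hζ
  rcases h.primeFam.indFun_cases a with ⟨k, e⟩ | e
  · exact absurd (e ▸ hi) (h.primeFam.not_irr_muR k)
  · exact e.2 i j

theorem _root_.Cfsg.Agent.BG.PD.inner_mu (h : PD M U W₁ W₂) (hζ : ζ ∈ SD0 M) (hi : IsIrrCharacter M ζ) (i j) :
    classInner (h.μ i j) ζ = 0 :=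
  (h.primeFam.irr i j).classInner_of_ne hi (h.ne_mu hζ hi i j).symm

theorem _root_.Cfsg.Agent.BG.PD.inner_muR (h : PD M U W₁ W₂) (hζ : ζ ∈ SD0 M) (hi : IsIrrCharacter M ζ) (j) :
    classInner (h.μR j) ζ = 0 := by
  rw [PD.μR, muR, classInner_sum_left]
  exact Finset.sum_eq_zero fun i _ => h.inner_mu hζ hi i j

theorem SD0_ι (h : PD M U W₁ W₂) (hζ : ζ ∈ SD0 M) {w : W₁ × W₂} (hw : w.1 ≠ 1) : ζ (h.ι w) = 0 :=
  apply_eq_zero_of_mem_inducedIrrAbove hζ (mt (h.primeTI.mem_iff w).1 hw)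

theorem conj_ne (hζ : ζ ∈ SD0 M) : conjFun ζ ≠ ζ := conjFun_ne_of_mem_inducedIrrAbove (mso_odd M) hζ

theorem degIso0 (h : PD M U W₁ W₂) (h1 : TypeP1 M) : DegIso (SD0 M) (tau M) :=
  indD_eq M ▸ (h.pdD h1).degIso

namespace C345

theorem sign (c : C345 h d n δ ζ) : δ = 1 ∨ δ = -1 :=
  let ⟨j, hj⟩ := h.exists_ne_one₂; c.sgn j hj ▸ h.primeFam.sign j
theorem sign' (c : C345 h d n δ ζ) : (δ : ℂ) = 1 ∨ (δ : ℂ) = -1 :=
  c.sign.imp (fun e => by simp [e]) fun e => by simp [e]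
theorem sign_mul (c : C345 h d n δ ζ) : (δ : ℂ) * δ = 1 := by rcases c.sign' with e | e <;> simp [e]
theorem eq' (c : C345 h d n δ ζ) : (d : ℂ) = δ + n * (#W₁ : ℕ) := by exact_mod_cast c.eq
theorem conjF (c : C345 h d n δ ζ) : C345 h d n δ (conjFun ζ) :=
  ⟨c.p1, c.deg, c.sgn, c.lt, c.eq, conjFun_mem_inducedIrrAbove c.mem, c.irr.conjF,
    c.irr.isCharacter.conjFun_one.trans c.one⟩
theorem muR_one (c : C345 h d n δ ζ) (hj : j ≠ 1) : h.μR j 1 = d * ζ 1 := by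
  rw [PD.μR, h.primeFam.muR_one 1, c.deg 1 j hj, c.one, mul_comm]
theorem two_le (c : C345 h d n δ ζ) : 2 ≤ n := by
  obtain ⟨j, hj⟩ := h.exists_ne_one₂
  obtain ⟨a, ha⟩ := (mso_odd M).of_dvd_nat ((h.primeFam.irr 1 j).degree_dvd_card (c.deg 1 j hj))
  obtain ⟨b, hb⟩ := mso_odd W₁
  have e := c.eq
  have := c.lt
  rw [ha, hb] at e
  by_contra hn
  have : n = 0 ∨ n = 1 := by omega
  rcases c.sign with s | s <;> rcases this with t | t <;> subst s t <;> omega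

theorem isGen (h : PD M U W₁ W₂) (hζ : IsGeneralizedCharacter M ζ) :
    IsGeneralizedCharacter M (alpha h n δ ζ i j) :=
  ((h.primeFam.irr i j).isGen.sub ((h.primeFam.irr i 1).isGen.intCast_smul δ)).sub (hζ.natCast_smul n)

theorem cf (c : C345 h d n δ ζ) : IsClassFunction M (alpha h n δ ζ i j) := (isGen h c.irr.isGen).isClassFunction

theorem alpha_ι (c : C345 h d n δ ζ) (hj : j ≠ 1) {w : W₁ × W₂} (hw : w.1 ≠ 1) :
    alpha h n δ ζ i j (h.ι w) = δ * (om i j w - om i 1 w) := by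
  simp only [alpha, Pi.sub_apply, Pi.smul_apply, smul_eq_mul, h.primeFam.apply_ι _ _ hw, SD0_ι h c.mem hw,
    c.sgn j hj, h.primeFam.sign_one]
  push_cast; ring

theorem supp_alpha (c : C345 h d n δ ζ) (hj : j ≠ 1) (x : M) (hx : (x : G) ∉ A0 M) :
    alpha h n δ ζ i j x = 0 := by
  refine (h.pdD c.p1).supp_of c.cf (fun y a b => ?_) (fun a ha => ?_) x hx
  · obtain rfl : y = 1 := by_contra fun e =>
      b (AA_sub M (A1_sub M (((dade1 h.max).mem y).2 ⟨by rwa [h.p1_der c.p1], e⟩)))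
    simp only [alpha, Pi.sub_apply, Pi.smul_apply, smul_eq_mul, c.deg i j hj, c.one, c.eq', h.primeFam.eq_lam,
      PrimeTI.lam_apply_one]
    ring
  · rw [c.alpha_ι hj ha]; simp [om_apply]

theorem isGen_alpha (c : C345 h d n δ ζ) (hj : j ≠ 1) :
    IsGeneralizedCharacter G (tau M (alpha h n δ ζ i j)) := by
  exact (dade_A0 h.max).isGen_dade (isGen h c.irr.isGen) (c.supp_alpha hj)

theorem inner_tau (c : C345 h d n δ ζ) (hj : j ≠ 1) {β : M → ℂ} (hβ : IsClassFunction M β) :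
    classInner (tau M (alpha h n δ ζ i j)) (tau M β) = classInner (alpha h n δ ζ i j) β :=
  (dade_A0 h.max).classInner_dade c.cf hβ (c.supp_alpha hj)

theorem inner_irr (c : C345 h d n δ ζ) {φ : M → ℂ} (hφ : φ ∈ SD0 M) (hi : IsIrrCharacter M φ) :
    classInner (alpha h n δ ζ i j) φ = if ζ = φ then -(n : ℂ) else 0 := by
  simp only [alpha, classInner_sub_left, classInner_smul_left, h.inner_mu hφ hi, c.irr.classInner_eq hi]
  split_ifs <;> simp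

theorem inner_muR (c : C345 h d n δ ζ) (k) : classInner (alpha h n δ ζ i j) (h.μR k) =
    (if j = k then 1 else 0) - if 1 = k then (δ : ℂ) else 0 := by
  simp only [alpha, classInner_sub_left, classInner_smul_left, h.primeFam.inner_mu_muR,
    classInner_eq_zero_comm.1 (h.inner_muR c.mem c.irr k)]
  split_ifs <;> simp

theorem nrm_alpha (c : C345 h d n δ ζ) (hj : j ≠ 1) :
    nrm (tau M (alpha h n δ ζ i j)) = 2 + n ^ 2 := by
  rw [(dade_A0 h.max).nrm_dade c.cf (c.supp_alpha hj), alpha, nrm_sub_of_orth, nrm_sub_of_orth, nrm_intCast_smul,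
    nrm_natCast_smul, (h.primeFam.irr _ _).nrm_eq, (h.primeFam.irr _ _).nrm_eq, c.irr.nrm_eq]
  · rcases c.sign with e | e <;> subst e <;> norm_num
  · simp [classInner_smul_right, h.primeFam.inner, hj]
  · simp [classInner_smul_right, classInner_sub_left, classInner_smul_left, h.inner_mu c.mem c.irr]

theorem orth_eta (h : PD M U W₁ W₂) (h0 : TypeP1 M) {S₁ : Set (M → ℂ)} (h1 : S₁ ⊆ SD0 M) {ν : CMap M G}
    (hν : CohWith S₁ (tau M) ν) {φ : M → ℂ} (h2 : φ ∈ S₁) (h3 : conjFun φ ∈ S₁) (h4 : IsIrrCharacter M φ) (i j) :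
    classInner (ν φ) (h.η i j) = 0 :=
  (h.pdD h0).orth_of_cohWith (indD_eq M ▸ h1) hν h2 h3 h4 h4.conjF (conj_ne (h1 h2)).symm
    h4.isCharacter.conjFun_one.symm i j

/-- the end of the proof of (10.5), reused in (10.10.3) and (11.8.2) -/
theorem bridge (c : C345 h d n δ ζ) (hj : j ≠ 1) {S₁ : Set (M → ℂ)} (h1 : S₁ ⊆ SD0 M)
    (h2 : ∀ φ ∈ S₁, conjFun φ ∈ S₁) (h3 : ∀ φ ∈ S₁, IsIrrCharacter M φ) {ν : CMap M G}
    (hν : CohWith S₁ (tau M) ν) {X Y : G → ℂ} (e : tau M (alpha h n δ ζ i j) = X + Y)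
    (hY : Y ∈ Submodule.span ℤ (ν '' S₁)) (hX : ∀ φ ∈ S₁, classInner X (ν φ) = 0)
    (hn : nrm Y = n ^ 2) : X = (δ : ℂ) • (h.η i j - h.η i 1) := by
  have gY : IsGeneralizedCharacter G Y := mem_span_isGen (by rintro _ ⟨φ, a, rfl⟩; exact hν.gen φ a) hY
  have eX : X = tau M (alpha h n δ ζ i j) - Y := by rw [e, add_sub_cancel_right]
  have o : ∀ γ : G → ℂ, (∀ φ ∈ S₁, classInner (ν φ) γ = 0) → classInner Y γ = 0 := fun γ a =>
    orth_span_of (by rintro _ ⟨φ, b, rfl⟩; exact a φ b) (mem_span_complex_of_int hY)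
  refine h.cycFam.eq_signed_sub (eX ▸ (c.isGen_alpha hj).sub gY) ?_ c.sign' hj fun w a b => ?_
  · have := c.nrm_alpha (i := i) hj
    rw [e, nrm_add_of_orth (classInner_eq_zero_comm.1 (o X fun φ a => classInner_eq_zero_comm.1 (hX φ a))),
      hn] at this
    linarith
  · rw [eX, Pi.sub_apply, h.cycFam.vanish gY.isClassFunction
      (fun k l => o _ fun φ a => orth_eta h c.p1 h1 hν a (h2 φ a) (h3 φ a) k l) a b, sub_zero, ← c.alpha_ι hj a]
    exact (h.pdD c.p1).dade_apply_V c.cf a b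

variable {S₁ : Set (M → ℂ)} {ν : CMap M G}

theorem inner_nu (c : C345 h d n δ ζ) (hj : j ≠ 1) (hν : Agree (tau M) ν) {φ : M → ℂ} (hφ : φ ∈ SD0 M)
    (hi : IsIrrCharacter M φ) (h1 : ζ 1 = φ 1) (hne : ζ ≠ φ) :
    classInner (tau M (alpha h n δ ζ i j)) (ν φ) = classInner (tau M (alpha h n δ ζ i j)) (ν ζ) + n := by
  have := c.inner_tau (i := i) hj (c.irr.isClassFunction.sub hi.isClassFunction)
  rw [hν.sub h1, classInner_sub_right, classInner_sub_right, c.inner_irr c.mem c.irr, c.inner_irr hφ hi,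
    if_pos rfl, if_neg hne] at this
  linear_combination -this

theorem tau_alpha_of (c : C345 h d n δ ζ) (hj : j ≠ 1) (hν : CohWith S₁ (tau M) ν) (h1 : ζ ∈ S₁)
    (h2 : conjFun ζ ∈ S₁) (h3 : classInner (tau M (alpha h n δ ζ i j)) (ν (conjFun ζ)) = 0) :
    tau M (alpha h n δ ζ i j) = (δ : ℂ) • (h.η i j - h.η i 1) - (n : ℂ) • ν ζ := by
  have a := c.inner_nu (i := i) hj hν.agree c.conjF.mem c.conjF.irr (c.one.trans c.conjF.one.symm)
    (conj_ne c.mem).symm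
  rw [eq_sub_iff_add_eq]
  refine c.bridge hj (S₁ := {ζ, conjFun ζ}) (Set.pair_subset c.mem c.conjF.mem) ?_ ?_
    (hν.mono (Set.pair_subset h1 h2)) (Y := -((n : ℂ) • ν ζ)) (by abel)
    (neg_mem (natCast_smul_mem_span (Submodule.subset_span (Set.mem_image_of_mem _ (by simp))) n)) ?_ ?_
  · rintro _ (rfl | rfl) <;> simp [conjFun_conjFun]
  · rintro _ (rfl | rfl); exacts [c.irr, c.irr.conjF]
  · rintro _ (rfl | rfl)
    · rw [classInner_add_left, classInner_smul_left, hν.inner _ h1 _ h1, c.irr.classInner_self, mul_one, ← a, h3]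
    · rw [classInner_add_left, classInner_smul_left, hν.inner _ h1 _ h2, h3,
        c.irr.classInner_of_ne c.irr.conjF (conj_ne c.mem).symm, mul_zero, add_zero]
  · rw [nrm_neg, nrm_natCast_smul, hν.nrm_eq h1, c.irr.nrm_eq, mul_one]

/-- (10.5) -/
theorem tau_alpha (c : C345 h d n δ ζ) (hj : j ≠ 1) (hν : CohWith (SD0 M) (tau M) ν) :
    tau M (alpha h n δ ζ i j) = (δ : ℂ) • (h.η i j - h.η i 1) - (n : ℂ) • ν ζ := by
  refine c.tau_alpha_of hj hν c.mem c.conjF.mem ?_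
  obtain ⟨a, ha⟩ := (c.isGen_alpha (i := i) hj).classInner_int (hν.gen _ c.conjF.mem)
  have hk : j⁻¹ ≠ 1 := mt hom_inv_eq_one.1 hj
  have e := c.inner_tau (i := i) hj ((h.primeFam.isCharacter_muR j⁻¹).isClassFunction.sub
    (c.conjF.irr.isClassFunction.smul d))
  rw [hν.agree.sub_smul (c.conjF.muR_one hk), classInner_sub_right, classInner_sub_right, classInner_smul_right,
    classInner_smul_right, ha, c.inner_irr c.conjF.mem c.conjF.irr, c.inner_muR, if_neg (conj_ne c.mem).symm,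
    if_neg (hom_inv_ne_self (mso_odd W₂) hj).symm, if_neg hk.symm, map_natCast, mul_zero, sub_zero, sub_zero,
    sub_eq_zero] at e
  have b := norm_classInner_sq_le (tau M (alpha h n δ ζ i j)) (ν (h.μR j⁻¹))
  rw [e, c.nrm_alpha hj, hν.nrm_eq (h.muR_mem0 hk), h.primeFam.nrm_muR, norm_mul, Complex.norm_natCast,
    Complex.norm_intCast, mul_pow, sq_abs] at b
  have b' : (d : ℤ) ^ 2 * a ^ 2 ≤ (2 + n ^ 2) * #W₁ := by exact_mod_cast b
  rw [ha, Int.cast_eq_zero]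
  by_contra a0
  have a1 : 1 ≤ a ^ 2 := by have := sq_pos_of_ne_zero a0; omega
  have n2 : (2 : ℤ) ≤ n := by exact_mod_cast c.two_le
  have w3 : (3 : ℤ) ≤ #W₁ := by exact_mod_cast h.three_le₁
  have e1 := c.eq
  have d1 : n * (#W₁ : ℤ) - 1 ≤ d := by rcases c.sign with s | s <;> omega
  generalize (#W₁ : ℤ) = w at *
  have : (n * w - 1) ^ 2 ≤ (d : ℤ) ^ 2 := pow_le_pow_left₀ (by nlinarith) d1 2
  have : (d : ℤ) ^ 2 ≤ d ^ 2 * a ^ 2 := le_mul_of_one_le_right (sq_nonneg _) a1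
  have : 0 ≤ w * ((n : ℤ) * (n * (w - 3))) := by positivity
  have : 0 ≤ w * ((n : ℤ) * (n - 2)) := by positivity
  have : 0 ≤ w * ((n : ℤ) - 2) := by positivity
  nlinarith

theorem sum_alpha (c : C345 h d n δ ζ) :
    ∑ i, alpha h n δ ζ i j = (h.μR j - (d : ℂ) • ζ) - (δ : ℂ) • (h.μR 1 - ζ) := by
  simp only [alpha, Finset.sum_sub_distrib, ← Finset.smul_sum, Finset.sum_const, Finset.card_univ,
    h.cycTI.card_hom₁, c.eq', PD.μR, muR]
  module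

/-- (10.6.a) -/
theorem nu_muR (c : C345 h d n δ ζ) (hj : j ≠ 1) (hν : CohWith (SD0 M) (tau M) ν) :
    ν (h.μR j) = (δ : ℂ) • ∑ i, h.η i j := by
  have hk : j⁻¹ ≠ 1 := mt hom_inv_eq_one.1 hj
  have hk' := hom_inv_ne_self (mso_odd W₂) hj
  rcases (h.pdD c.p1).cohWith_muR (mso_odd M) (indD_eq M).ge (fun _ => conjFun_mem_inducedIrrAbove) hν c.mem c.irr
    (h.muR_mem0 hj) with e | ⟨e, -⟩
  · rwa [c.sgn j hj] at e
  have a := c.inner_tau (i := 1) hj ((h.primeFam.isCharacter_muR j).isClassFunction.sub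
    (c.conjF.irr.isClassFunction.smul d))
  have o := fun i j => classInner_eq_zero_comm.1 (orth_eta h c.p1 subset_rfl hν c.conjF.mem
    (conjFun_mem_inducedIrrAbove c.conjF.mem) c.conjF.irr i j)
  rw [hν.agree.sub_smul (c.conjF.muR_one hj), c.tau_alpha hj hν] at a
  simp only [classInner_sub_left, classInner_sub_right, classInner_smul_left, classInner_smul_right, o,
    hν.inner _ c.mem _ (h.muR_mem0 hj), hν.inner _ c.mem _ c.conjF.mem, c.inner_muR,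
    c.inner_irr c.conjF.mem c.conjF.irr, c.irr.classInner_of_ne c.irr.conjF (conj_ne c.mem).symm,
    classInner_eq_zero_comm.1 (h.inner_muR c.mem c.irr j)] at a
  simp [e, classInner_neg_right, classInner_smul_right, classInner_sum_right, h.cycFam.inner, hk.symm, hk'.symm,
    hj.symm, (conj_ne c.mem).symm] at a

theorem tau_sum (c : C345 h d n δ ζ) (hj : j ≠ 1) (hν : Agree (tau M) ν)
    (e : ∀ i, tau M (alpha h n δ ζ i j) = (δ : ℂ) • (h.η i j - h.η i 1) - (n : ℂ) • ν ζ) :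
    ν (h.μR j) - (δ : ℂ) • ∑ i, h.η i j = (δ : ℂ) • (tau M (h.μR 1 - ζ) - (∑ i, h.η i 1 - ν ζ)) := by
  have a := congrArg (tau M) (c.sum_alpha (j := j))
  rw [map_sum, _root_.map_sub, hν.sub_smul (c.muR_one hj), map_smul] at a
  simp only [e, Finset.sum_sub_distrib, smul_sub, ← Finset.smul_sum, Finset.sum_const, Finset.card_univ,
    h.cycTI.card_hom₁, c.eq'] at a
  linear_combination (norm := module) -a

/-- (10.6.a) -/
theorem tau_mu0 (c : C345 h d n δ ζ) (hν : CohWith (SD0 M) (tau M) ν) :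
    tau M (h.μR 1 - ζ) = ∑ i, h.η i 1 - ν ζ := by
  obtain ⟨j, hj⟩ := h.exists_ne_one₂
  have a := c.tau_sum hj hν.agree fun _ => c.tau_alpha hj hν
  rw [c.nu_muR hj hν, sub_self, eq_comm, smul_eq_zero, sub_eq_zero] at a
  exact a.resolve_left (by rcases c.sign' with e | e <;> simp [e])

theorem supp_A1 (h : PD M U W₁ W₂) (h0 : TypeP1 M) {α : M → ℂ} (h1 : α 1 = 0)
    (h2 : ∀ x, x ∉ ⁅M, M⁆ ⇂ M → α x = 0) (x : M) (hx : (x : G) ∉ A1 M) : α x = 0 :=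
  (dade1 h.max).supp h1 (h.p1_der h0 ▸ h2) x hx

theorem supp_mu0 (c : C345 h d n δ ζ) (x : M) (hx : (x : G) ∉ A1 M) : (h.μR 1 - ζ) x = 0 := by
  refine supp_A1 h c.p1 ?_ (fun x a => ?_) x hx
  · rw [Pi.sub_apply, PD.μR, h.primeFam.muR_one 1, h.primeFam.one_one, c.one, mul_one, sub_self]
  · rw [Pi.sub_apply, PD.μR, h.primeFam.muR_of_notMem _ a, apply_eq_zero_of_mem_inducedIrrAbove c.mem a, sub_self]

theorem cf_mu0 (c : C345 h d n δ ζ) : IsClassFunction M (h.μR 1 - ζ) :=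
  (h.primeFam.isCharacter_muR 1).isClassFunction.sub c.irr.isClassFunction

/-- (10.6.b) -/
theorem one_le (c : C345 h d n δ ζ) (hν : CohWith (SD0 M) (tau M) ν) {g : G} (h1 : g ∉ Td M (A1 M))
    (h2 : (orderOf g).Coprime #W₁) : 1 ≤ ‖ν ζ g‖ := by
  have a := tau_of_notMem h.max c.cf_mu0 c.supp_mu0 h1
  choose m hm using fun i => h.cycFam.exists_int i 1 (n := #W₁)
    (MonoidHom.ext fun w => Units.ext (by simpa using hom_pow_card i w)) (MonoidHom.ext fun w => by simp) h2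
  rw [c.tau_mu0 hν, Pi.sub_apply, Finset.sum_apply, sub_eq_zero] at a
  simp only [hm] at a
  have m1 : m 1 = 1 := by have := hm 1; simp only [h.cycFam.one] at this; exact_mod_cast this.symm
  have mi : ∀ i, m i⁻¹ = m i := fun i => by
    have := congrFun (h.cycFam.conjFun_eta i 1) g
    rw [conjFun_apply, hom_inv_one, hm, hm, map_intCast] at this
    exact_mod_cast this.symm
  have b : ((∑ i, m i : ℤ) : ZMod 2) = 1 := by
    rw [← Finset.add_sum_erase _ _ (Finset.mem_univ 1), m1, Int.cast_add, Int.cast_sum, Finset.sum_involution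
      (fun i _ => i⁻¹) (fun i _ => by rw [mi, CharTwo.add_self_eq_zero])
      (fun i a _ => hom_inv_ne_self (mso_odd W₁) (Finset.ne_of_mem_erase a))
      (fun i a => by simpa using mt hom_inv_eq_one.1 (Finset.ne_of_mem_erase a)) fun i _ => hom_inv_inv i]
    simp
  rw [← a, ← Int.cast_sum, Complex.norm_intCast]
  exact_mod_cast Int.one_le_abs fun e => by simp [e] at b

end C345

theorem supp_AA (h : PD M U W₁ W₂) {φ ψ : M → ℂ} (h1 : φ ∈ S0 M) (h2 : ψ ∈ S0 M) (e : φ 1 = ψ 1) (x : M)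
    (hx : (x : G) ∉ AA M) : (φ - ψ) x = 0 := by
  have key : ∀ φ ∈ S0 M, x ≠ 1 → φ x = 0 := fun φ a b => by_contra fun c => by
    obtain ⟨c1, y, c2, -, c3, c4⟩ := exists_comm_of_mem_indD a c
    exact hx (h.mem_AA.2 ⟨c1, by simpa using b, y, MF_le_Msigma h.max c2, by simpa using c3,
      by simpa using congrArg Subtype.val c4.symm⟩)
  by_cases a : x = 1
  · rw [a, Pi.sub_apply, e, sub_self]
  · rw [Pi.sub_apply, key φ h1 a, key ψ h2 a, sub_self]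

theorem disjoint_of_typeP {S : Subgroup G} (hM : TypeP M) (hS : TypeP S) (h : ¬ Cjg M S) :
    Disjoint (Td M (A1 M)) (Td S (AA S)) := by
  rw [Set.disjoint_iff_inter_eq_empty, ← Set.not_nonempty_iff_eq_empty, ← sup_cj_iff hM.max hS.max h]
  rintro ⟨g, a⟩
  obtain ⟨x, -, -, b⟩ := a.suppAt hM.max (hS.cj g).max
  exact (b.frob fun c => c.not_typeP (hS.cj g)).1.not_typeP hM

/-- (10.7) -/
theorem C345.frob (c : C345 h d n δ ζ) {ν : CMap M G} (hν : CohWith (SD0 M) (tau M) ν) {S V : Subgroup G}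
    (e : PPair M S U V W₁ W₂) (h2 : TypeP2 S) : Frob MF[S] V ⁅S, S⁆ := by
  obtain ⟨H₀, C, p, k⟩ := e.hT.exists_p9 (e.hT.p2_iff.1 h2).1
  refine (k.cases.resolve_left ?_).2.2.2.2 h2
  rintro ⟨l, l1, l2, l3, -⟩
  obtain ⟨r, r1⟩ := k.exists_muR
  have r2 : e.hT.μR r 1 = l 1 := (k.indHC_muR r1).deg.trans l3.symm
  replace l1 : l ∈ S0 S := indD_subset_bot l1
  replace r1 : e.hT.μR r ∈ S0 S := indD_subset_bot r1
  obtain ⟨R, hR, -⟩ := e.hT.pdF.exists_subCoh (mso_odd S)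
  have cl : ∀ φ ∈ {φ ∈ S0 S | φ 1 = l 1}, conjFun φ ∈ {φ ∈ S0 S | φ 1 = l 1} := fun φ a =>
    ⟨conjFun_mem_indD a.1, (isCharacter_of_mem_indD a.1).conjFun_one.trans a.2⟩
  obtain ⟨ν₂, hν₂⟩ := (hR.mono (Set.sep_subset _ _) cl).coh_of_degree_eq fun φ a ψ b => a.2.trans b.2.symm
  have l4 : l ∈ {φ ∈ S0 S | φ 1 = l 1} := ⟨l1, rfl⟩
  have l5 := (conjFun_ne_of_mem_indD (mso_odd S) l1).symm
  obtain ⟨ε, t, e1, e2⟩ : ∃ (ε : ℂ) (t : W₁ →* ℂˣ), ε ≠ 0 ∧ ν₂ (e.hT.μR r) = ε • ∑ j, h.η t j := by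
    simp only [← h.η_swap e.hT]
    rcases e.hT.pdF.cohWith_muR (mso_odd S) (Set.sep_subset _ _) cl hν₂ l4 l2 ⟨r1, r2⟩ with a | ⟨a, -⟩
    · exact ⟨_, r, e.hT.primeFam.sign_ne_zero r, a⟩
    · exact ⟨_, r⁻¹, neg_ne_zero.2 (e.hT.primeFam.sign_ne_zero r), a.trans (neg_smul _ _).symm⟩
  have dj := disjoint_of_typeP h.typeP e.hT.typeP e.ncj
  have v : ∀ φ ∈ SD0 M, ∀ x, x ∉ ⁅M, M⁆ ⇂ M → φ x = 0 := fun φ a x => apply_eq_zero_of_mem_inducedIrrAbove a
  have o1 : classInner (ν ζ) (ν₂ l) = 0 := by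
    have a := hν.agree.sub (c.one.trans c.conjF.one.symm)
    have b := hν₂.agree.sub l2.isCharacter.conjFun_one.symm
    refine (dirr_orthogonal_of_sub (hν.isDirr c.mem c.irr) (hν.isDirr c.conjF.mem c.irr.conjF) (hν₂.isDirr l4 l2)
      (hν₂.isDirr (cl l l4) l2.conjF) one_ne_zero one_ne_zero (map_one _) (map_one _) ?_ ?_ ?_ ?_ ?_).1
    · rw [hν.inner _ c.mem _ c.conjF.mem, c.irr.classInner_of_ne c.irr.conjF (conj_ne c.mem).symm]
    · rw [hν₂.inner _ l4 _ (cl l l4), l2.classInner_of_ne l2.conjF l5]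
    · rw [one_smul, one_smul, ← a, ← b]
      exact tau_orth_of_disjoint h.max e.hT.max dj (c.irr.isClassFunction.sub c.irr.conjF.isClassFunction)
        (l2.isClassFunction.sub l2.conjF.isClassFunction)
        (C345.supp_A1 h c.p1 (sub_eq_zero.2 (c.one.trans c.conjF.one.symm)) fun x a => by
          rw [Pi.sub_apply, v _ c.mem x a, v _ c.conjF.mem x a, sub_self])
        (supp_AA e.hT l1 (cl l l4).1 l2.isCharacter.conjFun_one.symm)
    · rw [← sub_eq_zero, ← Pi.sub_apply, ← a, (dade_A0 h.max).dade_one]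
    · rw [one_mul, one_mul, ← sub_eq_zero, ← Pi.sub_apply, ← b, (dade_A0 e.hT.max).dade_one]
  obtain ⟨s, hs⟩ := h.exists_ne_one₂
  have o2 : ∀ i j, classInner (h.η i j) (ν₂ l) = 0 := fun i j => classInner_eq_zero_comm.1 <| by
    rw [← h.η_swap e.hT]
    exact e.hT.pdF.orth_of_cohWith (Set.sep_subset _ _) hν₂ l4 (cl l l4) l2 l2.conjF l5
      l2.isCharacter.conjFun_one.symm j i
  have o3 := C345.orth_eta h c.p1 subset_rfl hν c.mem c.conjF.mem c.irr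
  have a := tau_orth_of_disjoint h.max e.hT.max dj
    ((h.primeFam.isCharacter_muR s).isClassFunction.sub (c.irr.isClassFunction.smul d))
    ((e.hT.primeFam.isCharacter_muR r).isClassFunction.sub l2.isClassFunction)
    (C345.supp_A1 h c.p1 (sub_eq_zero.2 (c.muR_one hs)) fun x a => by
      rw [Pi.sub_apply, Pi.smul_apply, v _ c.mem x a, h.primeFam.muR_of_notMem _ a, smul_zero, sub_self])
    (supp_AA e.hT r1 l1 r2)
  rw [hν.agree.sub_smul (c.muR_one hs), hν₂.agree.sub r2, e2, c.nu_muR hs hν] at a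
  simp [classInner_sub_left, classInner_sub_right, classInner_smul_left, classInner_smul_right, classInner_sum_left,
    classInner_sum_right, o1, o2, o3, h.cycFam.inner, e1, ite_and] at a
  rcases c.sign with b | b <;> omega

theorem _root_.Cfsg.Agent.BG.PD.card_zhat (h : PD M U W₁ W₂) :
    (Zhat W₁ W₂).ncard + #W₁ + #W₂ = #W₁ * #W₂ + 1 := by
  have d := h.dp
  have e1 := Set.ncard_union_add_ncard_inter (W₁ : Set G) (W₂ : Set G)
  have e2 := Set.ncard_sdiff_add_ncard_of_subset (s := (W₁ : Set G) ∪ W₂) (t := ↑(W₁ ⊔ W₂))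
    (Set.union_subset d.left d.right)
  rw [← coe_inf, d.inf, coe_bot, Set.ncard_singleton] at e1
  change _ = #W₁ + #W₂ at e1
  change (Zhat W₁ W₂).ncard + _ = #(W₁ ⊔ W₂) at e2
  rw [← d.card] at e2
  omega

theorem _root_.Cfsg.Agent.BG.PD.frob_mod (h : PD M U W₁ W₂) : ∀ k ∈ ⁅M, M⁆ ⇂ M, k ∉ ⁅⁅M, M⁆, ⁅M, M⁆⁆ ⇂ M →
    ∀ x : M, x * k * x⁻¹ * k⁻¹ ∈ ⁅⁅M, M⁆, ⁅M, M⁆⁆ ⇂ M → x ∈ ⁅M, M⁆ ⇂ M :=
  h.primeTI.frob_mod (sub_mono (der_le _)) fun b => h.le2'' (by simp)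

theorem _root_.Cfsg.Agent.BG.PD.le_card_der (h : PD M U W₁ W₂) : (2 * #W₁ + 1) * #W₂ ≤ #⁅M, M⁆ := by
  have a := relIndex_modEq_one_of_frobenius (sub_mono (der_le _)) h.frob_mod le_rfl (sub_mono (der_le _)) le_rfl
  rw [relIndex_sub (der_le M), h.index_der] at a
  have b := le_of_modEq_one_of_odd a (one_lt_relIndex fun c => h.der_not_le ((sub_mono c).trans le_sup_right))
    ((mso_odd _).of_dvd_nat (relIndex_dvd _ _)) (mso_odd _)
  rw [← card_mul_relIndex (der_le ⁅M, M⁆), mul_comm]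
  exact Nat.mul_le_mul (card_le_of_le h.le2'') b

/-- the elements of order not prime to `|W₂|` when `M'` is a Frobenius group -/
theorem mem_clS_of_not_coprime (h : PD M U W₁ W₂) (h2 : TypeP2 M) (f : Frob MF[M] U ⁅M, M⁆) {g : G}
    (hg : ¬ (orderOf g).Coprime #W₂) : g ∈ ClS ((MF[M] : Set G) \ {1}) ∪ ClS (Zhat W₁ W₂) := by
  obtain ⟨p, hp, ⟨k, p1⟩, p2⟩ := Nat.Prime.not_coprime_iff_dvd.1 hg
  have k0 : 0 < k := Nat.pos_of_ne_zero fun e => (orderOf_pos g).ne' (by simp [p1, e])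
  have a1 : g ^ k ≠ 1 := pow_ne_one_of_lt_orderOf k0.ne' (p1 ▸ lt_mul_left k0 hp.one_lt)
  obtain ⟨y, -, hy⟩ := (syl_MF_top h.max (p2.trans (card_dvd_of_le h.le2))).cj_sub hp (U := zpowers (g ^ k)) le_top
    (pig_zpowers.2 (pie_of_pow hp (by rw [← pow_mul, mul_comm, ← p1, pow_orderOf_eq_one])))
  have a2 : y * g ^ k * y⁻¹ ∈ MF[M] := O_le _ _ (hy (mem_cj_conj.2 (mem_zpowers _)))
  have a3 : y * g ^ k * y⁻¹ ≠ 1 := by simpa using a1
  have a4 : y * g * y⁻¹ ∈ C1[y * g ^ k * y⁻¹] := mem_C1.2 (by group)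
  have a5 := h2.cent_A0 (AA_sub M (A1_sub M (mem_A1.2 ⟨MF_le_Msigma h.max a2, a3⟩))) a4
  by_cases b : y * g * y⁻¹ ∈ ⁅M, M⁆
  · exact Or.inl ⟨y⁻¹, _, ⟨f.cent_le a2 a3 ⟨b, a4⟩, by rintro e; simp_all⟩, by group⟩
  obtain ⟨m, w, b1, b2⟩ := h.primeTI.exists_conj (x := ⟨_, a5⟩) b
  have b3 : g = ((m : G) * y)⁻¹ * h.ι w * ((m : G) * y)⁻¹⁻¹ := by rw [← b2]; simp [mul_assoc]
  refine Or.inr ⟨_, _, h.ι_zhat b1 fun e => hg ?_, b3⟩
  rw [b3, PLoc.orderOf_conj', PD.ι_coe, e, coe_one, mul_one, orderOf_coe]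
  exact Nat.Coprime.coprime_dvd_left (orderOf_dvd_natCard _) h.cop12

theorem arith108 {k w v s u : ℝ} (hw : 3 ≤ w) (hv : 3 ≤ v) (hk : (2 * w + 1) * v ≤ k) (hu : 7 ≤ u) (hs : 0 < s) :
    (s - 1) / (s * u * v) + (w * v + 1 - w - v) / (v * w) + (k - 1) / (w * k) < 1 - w / k := by
  have k0 : 0 < k := by nlinarith
  have a1 : (s - 1) / (s * u * v) ≤ 1 / 7 * v⁻¹ := by
    rw [div_le_iff₀ (by positivity)]; field_simp; nlinarith
  have a2 : (w * v + 1 - w - v) / (v * w) ≤ 1 - w⁻¹ - 2 / 3 * v⁻¹ := by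
    rw [div_le_iff₀ (by positivity)]; field_simp; nlinarith
  have a3 : (k - 1) / (w * k) ≤ w⁻¹ := by
    rw [div_le_iff₀ (by positivity)]; field_simp; nlinarith
  have a4 : w / k ≤ 1 / 2 * v⁻¹ := by
    rw [div_le_iff₀ (by positivity)]; field_simp; nlinarith
  have : 0 < v⁻¹ := by positivity
  linarith

/-- (10.8) -/
theorem _root_.Cfsg.Agent.BG.PD.not_coh (h : PD M U W₁ W₂) (h1 : TypeP1 M) :
    ¬ Coh (SD0 M) (tau M) := by
  classical
  rintro ⟨ν, hν⟩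
  obtain ⟨d, n, δ, c⟩ := h.exists_c345 h1
  obtain ⟨ζ, z1, z2, z3⟩ := h.exists_ref
  replace c := c ζ z1 z2 z3
  obtain ⟨S, V, e, h2⟩ := h.partner h1
  have f := c.frob hν e h2
  have I := ind1 h.max (ν := ν) (by rw [h.p1_der h1]; exact hν)
  rw [h.p1_der h1] at I
  have k1 := h.le_card_der
  have w1 := h.three_le₁
  have w2 := h.three_le₂
  have a := I.le_nrm_invDade z1 z2 (by rw [z3, h.index_der]) (by rw [h.index_der, card_sub (der_le M)]; nlinarith)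
  have b := cover_ineq_one (dade_A1 h.max) (hν.gen _ z1).isClassFunction ((hν.nrm_eq z1).trans z2.nrm_eq)
  rw [I.ncard_div] at b
  rw [h.index_der, card_sub (der_le M)] at a b
  set B := ClS ((MF[S] : Set G) \ {1}) ∪ ClS (Zhat W₂ W₁)
  have b1 : ((Finset.univ.filter (fun g => g ∉ Td M (A1 M))).card : ℝ) ≤
      ∑ g ∈ Finset.univ.filter (fun g => g ∉ Td M (A1 M)), ‖ν ζ g‖ ^ 2 + B.ncard := by
    rw [Set.ncard_eq_toFinset_card', Finset.card_eq_sum_ones, Finset.card_eq_sum_ones,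
      ← Set.filter_mem_univ_eq_toFinset, Finset.sum_filter, Finset.sum_filter, Finset.sum_filter]
    push_cast
    rw [← Finset.sum_add_distrib]
    refine Finset.sum_le_sum fun g _ => ?_
    split_ifs with g1 g2 g3
    · norm_num
    · norm_num
    · linarith [sq_nonneg ‖ν ζ g‖]
    · have := c.one_le hν g1 (by_contra fun r => g3 (mem_clS_of_not_coprime e.hT h2 f r))
      nlinarith
  have b2 : B.ncard ≤ (#MF[S] - 1) * S.index + (Zhat W₂ W₁).ncard * (W₂ ⊔ W₁).index := by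
    refine (Set.ncard_union_le _ _).trans (le_of_eq ?_)
    rw [e.hT.nti.card_clS, card_clS_of (L := S) (A := (MF[S] : Set G) \ {1})
      (fun g a x b => ⟨conj_mem (MF_norm S a) b.1, by simpa using b.2⟩)
      fun g x a b => h2.nti_A1.ti g x (mem_A1.2 ⟨MF_le_Msigma h2.max a.1, a.2⟩)
        (mem_A1.2 ⟨MF_le_Msigma h2.max b.1, b.2⟩), Set.ncard_sdiff_singleton_of_mem (one_mem _)]
    rfl
  have u7 : 7 ≤ #V := by
    have := le_of_modEq_one_of_odd ((Nat.modEq_iff_dvd' (card_pos V)).2 (e.hT.frob f.ne_r).card_dvd).symm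
      (one_lt_card f.ne_r) (mso_odd _) (mso_odd _)
    omega
  have z := e.hT.card_zhat
  have g1 := S.card_mul_index
  have g2 := (W₂ ⊔ W₁).card_mul_index
  rw [← e.hT.dp.card] at g2
  rw [← e.hT.der.card, ← e.hT.sd.card] at g1
  have s0 := card_pos MF[S]
  have key := arith108 (k := #⁅M, M⁆) (w := #W₁) (v := #W₂) (s := #MF[S]) (u := #V) (by exact_mod_cast w1)
    (by exact_mod_cast w2) (by exact_mod_cast k1) (by exact_mod_cast u7) (by exact_mod_cast s0)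
  have g0 : (0 : ℝ) < Nat.card G := by exact_mod_cast Nat.card_pos
  have b3 : (Nat.card G : ℝ)⁻¹ * B.ncard ≤ ((#MF[S] : ℝ) - 1) / (#MF[S] * #V * #W₂) +
      (#W₁ * #W₂ + 1 - #W₁ - #W₂) / (#W₂ * #W₁) := by
    have i1 : (S.index : ℝ) = Nat.card G / (#MF[S] * #V * #W₂) := by
      rw [← g1]; push_cast; field_simp
    have i2 : ((W₂ ⊔ W₁).index : ℝ) = Nat.card G / (#W₂ * #W₁) := by
      rw [← g2]; push_cast; field_simp
    have i3 : ((Zhat W₂ W₁).ncard : ℝ) = #W₁ * #W₂ + 1 - #W₁ - #W₂ := by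
      have : ((Zhat W₂ W₁).ncard : ℝ) + #W₂ + #W₁ = #W₂ * #W₁ + 1 := by exact_mod_cast z
      linarith
    have i4 : (B.ncard : ℝ) ≤ ((#MF[S] : ℝ) - 1) * S.index + (Zhat W₂ W₁).ncard * (W₂ ⊔ W₁).index := by
      rw [← Nat.cast_pred s0]; exact_mod_cast b2
    rw [inv_mul_le_iff₀ g0]
    refine i4.trans (le_of_eq ?_)
    rw [i1, i2, i3]; ring
  have b4 := mul_le_mul_of_nonneg_left b1 (inv_pos.2 g0).le
  rw [mul_add] at b4
  rw [mul_sub] at b
  linarith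

end Cfsg.Agent.PF
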