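import Cfsg.Agent.PF.S10a

/-! Peterfalvi, section 10 (10.9 - 10.11): no type V. -/

set_option autoImplicit false
set_option linter.unusedSectionVars false

namespace Cfsg.Agent.PF

open Cfsg Cfsg.Agent.Char Cfsg.Agent.BG Subgroup
open scoped ComplexConjugate

variable {G : Type*} [Group G] [Fintype G] [hG : MSO G] {M U W₁ W₂ : Subgroup G}

section
variable {h : PD M U W₁ W₂} {d n : ℕ} {δ : ℤ} {ζ : M → ℂ} {i : W₁ →* ℂˣ} {j : W₂ →* ℂˣ} {ν : CMap M G}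

theorem C345.supp_mu0' (c : C345 h d n δ ζ) (x : M) (hx : (x : G) ∉ A0 M) : (h.μR 1 - ζ) x = 0 :=
  c.supp_mu0 x fun a => hx (AA_sub M (A1_sub M a))

theorem C345.isGen_mu0 (c : C345 h d n δ ζ) : IsGeneralizedCharacter G (tau M (h.μR 1 - ζ)) :=
  (dade_A0 h.max).isGen_dade ((h.primeFam.isCharacter_muR 1).isGen.sub c.irr.isGen) c.supp_mu0'

theorem C345.nrm_mu0 (c : C345 h d n δ ζ) : nrm (tau M (h.μR 1 - ζ)) = #W₁ + 1 := by
  rw [(dade_A0 h.max).nrm_dade c.cf_mu0 c.supp_mu0', nrm_sub_of_orth (h.inner_muR c.mem c.irr 1),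
    h.primeFam.nrm_muR, c.irr.nrm_eq]

theorem C345.mu0_V (c : C345 h d n δ ζ) (w : W₁ × W₂) (h1 : w.1 ≠ 1) (h2 : w.2 ≠ 1) :
    tau M (h.μR 1 - ζ) (cycι h.comm w) = 0 := by
  refine ((h.pdD c.p1).dade_apply_V c.cf_mu0 h1 h2).trans ?_
  rw [Pi.sub_apply, SD0_ι h c.mem h1, PD.μR, h.primeFam.muR_of_notMem _ (mt (h.primeTI.mem_iff w).1 h1), sub_self]

theorem C345.mu0_one (c : C345 h d n δ ζ) : classInner (tau M (h.μR 1 - ζ)) (h.η 1 1) = 1 := by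
  rw [h.cycFam.one, (dade_A0 h.max).classInner_dade_one c.cf_mu0 c.supp_mu0', classInner_sub_left,
    classInner_one_of_mem_inducedIrrAbove c.mem, ← h.primeFam.one_one, h.primeFam.inner_muR_mu]
  simp

/-- (10.9) -/
theorem C345.inner_mu0 (c : C345 h d n δ ζ) (lt : #W₁ < #W₂) (i j) :
    classInner (tau M (h.μR 1 - ζ)) (h.η i j) = if j = 1 then 1 else 0 := by
  have a := h.cycFam.NC_le_nrm c.isGen_mu0
  have w := h.three_le₁
  rw [c.nrm_mu0] at a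
  norm_cast at a
  rcases h.cycFam.small c.isGen_mu0.isClassFunction c.mu0_V lt (by omega) (c.mu0_one ▸ one_ne_zero) with e | e
  · rw [e, c.mu0_one]
  have b := h.cycFam.bessel (tau M (h.μR 1 - ζ)) ({1} ×ˢ Finset.univ)
  rw [c.nrm_mu0, Finset.sum_product] at b
  rw [c.mu0_one] at e
  simp only [e, Finset.sum_singleton, if_true, norm_one, one_pow, Finset.sum_const, Finset.card_univ,
    h.cycTI.card_hom₂, nsmul_eq_mul, mul_one] at b
  norm_cast at b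
  obtain ⟨x, hx⟩ := mso_odd W₁
  obtain ⟨y, hy⟩ := mso_odd W₂
  omega

/-- the end of (10.10.4) -/
theorem C345.tau_mu0_of (c : C345 h d n δ ζ) (hj : j ≠ 1) (h1 : nrm (ν ζ) = 1)
    (h2 : ∀ i j, classInner (ν ζ) (h.η i j) = 0)
    (h3 : ∀ i j, classInner (tau M (h.μR 1 - ζ)) (h.η i j) = if j = 1 then 1 else 0)
    (e : tau M (alpha h n δ ζ i j) = (δ : ℂ) • (h.η i j - h.η i 1) - (n : ℂ) • ν ζ) :
    tau M (h.μR 1 - ζ) = ∑ i, h.η i 1 - ν ζ := by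
  have a := (dade_A0 h.max).classInner_dade' c.cf_mu0 (c.cf (i := i) (j := j)) (c.supp_alpha hj)
  rw [← conj_classInner (alpha h n δ ζ i j), classInner_sub_right, c.inner_muR, c.inner_irr c.mem c.irr] at a
  have k := c.nrm_mu0
  change classInner (tau M _) (tau M _) = _ at a
  generalize tau M (h.μR 1 - ζ) = ψ at *
  simp only [e, classInner_sub_right, classInner_smul_right, h3, hj, if_true, if_false, map_intCast, map_natCast,
    _root_.map_sub, map_zero, map_neg] at a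
  have n0 : (n : ℂ) ≠ 0 := Nat.cast_ne_zero.2 (by have := c.two_le; omega)
  have b : classInner ψ (ν ζ) = -1 := mul_left_cancel₀ n0 (by linear_combination -a)
  rw [← sub_eq_zero, ← nrm_eq_zero, nrm_sub, k, nrm_sub_of_orth, h1, classInner_sub_right, b, nrm_def,
    (h.pdD c.p1).inner_sum_eta, classInner_sum_right]
  · simp [h3, h.cycTI.card_hom₁]; ring
  · rw [classInner_eq_zero_comm, classInner_sum_right]; simp [h2]

end

theorem preCoh0 (h : PD M U W₁ W₂) (h1 : TypeP1 M) : PreCoh (SD0 M) (tau M) :=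
  let ⟨_, a, _⟩ := (h.pdD h1).exists_subCoh (mso_odd M); indD_eq M ▸ a.preCoh

/-- (10.10.1) -/
theorem typeV_struct (h : PD M ⊥ W₁ W₂) :
    #W₂ + 1 = 2 * #W₁ ∧ #⁅M, M⁆ = #W₂ ^ 3 ∧ ⁅⁅M, M⁆, ⁅M, M⁆⁆.relIndex ⁅M, M⁆ = #W₂ ^ 2 := by
  have h1 := (h.bot_iff.1 rfl).1
  have e : MF[M] = ⁅M, M⁆ := by simpa using h.sd.sup
  have nil : Nil ⁅M, M⁆ := e ▸ MF_nil M
  have e2 := sub_comm (M := M) (der_le M) (der_le M)
  obtain ⟨-, a1, -, p, m, hp, a2, a3⟩ := (preCoh0 h h1).non_coherent_chief (mso_odd M) (M := ⊥) bot_le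
    (Core.isNilpotent_map (nil_sub nil) _) (fun c => h.der_not_le (c.trans (sup_le_sup_left bot_le _)))
    (by rw [sup_bot_eq, ← e2]; exact h.frob_mod) (h.not_coh h1)
  rw [sup_bot_eq, ← e2, relIndex_sub (der_le M), h.index_der] at a1
  rw [relIndex_bot_left, card_sub (der_le M)] at a2
  rw [h.index_der] at a3
  rcases h.cases5 with c | ⟨q, hq, c1, -, c⟩
  · refine absurd ((h.pdD h1).sibley (mso_odd M) (fun g g1 x x1 y y1 g2 => by_contra fun x2 => g1 ?_) (nil_sub nil)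
      (h.prime2_of_p1 h1) fun b => e2 ▸ h.le2'' (by simp)) (h.not_coh h1)
    have x3 : (x : G) ≠ 1 := by simpa using x2
    exact c.ti g x ⟨e ▸ x1, x3⟩ ⟨by rw [g2, e]; exact y1, by simpa using x3⟩
  obtain rfl : q = p := (Nat.prime_dvd_prime_iff_eq hq hp).1 (hq.dvd_of_dvd_pow (by rwa [e, a2] at c1))
  obtain ⟨c1, c2, k, c3⟩ := c.resolve_left a3
  rw [e, O_eq_self (pig_of_card_pow hq a2)] at c1 c2
  have c4 := (p3_der hq c1 c2).1
  have c5 : #W₂ = q := ((Nat.dvd_prime hq).1 (c4 ▸ card_dvd_of_le h.le2'')).resolve_left (one_lt_card h.ne2).ne'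
  have c6 : ⁅⁅M, M⁆, ⁅M, M⁆⁆.relIndex ⁅M, M⁆ = q ^ 2 := Nat.eq_of_mul_eq_mul_left hq.pos <| by
    rw [← c4, card_mul_relIndex (der_le _), c1, c4]; ring
  refine ⟨?_, c5 ▸ c1, c5 ▸ c6⟩
  rw [c6] at a1
  have w3 := h.three_le₁
  obtain ⟨y, hy⟩ := mso_odd W₂
  have k1 : Even k := by
    have : Even (#W₁ * k) := c3 ▸ ⟨y + 1, by omega⟩
    exact (Nat.even_mul.1 this).resolve_left (Nat.not_even_iff_odd.2 (mso_odd W₁))
  obtain ⟨l, rfl⟩ := k1
  rw [c5, c3]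
  generalize #W₁ = w at *
  obtain rfl | rfl | l2 : l = 0 ∨ l = 1 ∨ 2 ≤ l := by omega
  · omega
  · ring
  · have : 3 * w ≤ q := by nlinarith
    nlinarith

/-- (10.10) -/
theorem _root_.Cfsg.Agent.BG.PD.U_ne_bot (h : PD M U W₁ W₂) : U ≠ ⊥ := by
  classical
  rintro rfl
  have h1 := (h.bot_iff.1 rfl).1
  obtain ⟨s1, s2, s3⟩ := typeV_struct h
  obtain ⟨ζ, z1, z2⟩ := exists_mem_inducedIrrAbove_of_not_le h.der_not_le
  obtain ⟨d, n, δ, c⟩ := h.exists_c345 h1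
  have sub : SD M ⁅⁅M, M⁆, ⁅M, M⁆⁆ ⊆ SD0 M := inducedIrrAbove_anti bot_le
  replace c := c ζ (sub z1) (h.irr_of_der2 z1) (by rw [z2, h.index_der])
  have e2 := (sub_comm (M := M) (der_le M) (der_le M)).ge
  obtain ⟨ν, hν⟩ := (preCoh0 h h1).coh_of_commutator_le e2
  have w3 := h.three_le₁
  have dg : ∀ φ ∈ SD M ⁅⁅M, M⁆, ⁅M, M⁆⁆, φ 1 = (#W₁ : ℕ) := fun φ a => by
    rw [degree_eq_of_commutator_le e2 a, h.index_der]
  set T₁ := seqInd (⁅M, M⁆ ⇂ M) (⁅⁅M, M⁆, ⁅M, M⁆⁆ ⇂ M)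
  set T₂ := (Finset.univ.erase 1).image h.μR
  have t1 := sum_seqInd_sq (K := ⁅M, M⁆ ⇂ M) (⁅⁅M, M⁆, ⁅M, M⁆⁆ ⇂ M)
  have t0 := sum_seqInd_sq (K := ⁅M, M⁆ ⇂ M) ⊥
  rw [relIndex_sub (der_le M), s3, h.index_der] at t1
  rw [relIndex_bot_left, card_sub (der_le M), s2, h.index_der] at t0
  have p0 : (0 : ℝ) < #W₁ := by exact_mod_cast card_pos W₁
  have p1 : (1 : ℝ) < #W₂ := by exact_mod_cast one_lt_card h.ne2
  have t2 : ∑ φ ∈ T₂, (φ 1).re ^ 2 / nrm φ = (#W₂ - 1) * (#W₁ * d ^ 2) := by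
    rw [Finset.sum_image fun _ _ _ _ e => h.primeFam.muR_injective e, Finset.sum_congr rfl
      (g := fun _ => (#W₁ * d ^ 2 : ℝ)) fun j a => ?_, Finset.sum_const, Finset.card_erase_of_mem (Finset.mem_univ _),
      Finset.card_univ, h.cycTI.card_hom₂, nsmul_eq_mul, Nat.cast_pred (card_pos _)]
    rw [h.primeFam.nrm_muR, show muR h.μ j 1 = _ from c.muR_one (Finset.ne_of_mem_erase a), c.one, ← Nat.cast_mul,
      Complex.natCast_re]
    push_cast; field_simp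
  have dj : Disjoint T₁ T₂ := Finset.disjoint_right.2 fun φ a b => by
    obtain ⟨j, -, rfl⟩ := Finset.mem_image.1 a
    exact h.primeFam.not_irr_muR j (h.irr_of_der2 (mem_seqInd.1 b))
  have ss : T₁ ∪ T₂ ⊆ seqInd (⁅M, M⁆ ⇂ M) ⊥ := Finset.union_subset (fun φ a => mem_seqInd.2 (sub (mem_seqInd.1 a)))
    fun φ a => by
      obtain ⟨j, b, rfl⟩ := Finset.mem_image.1 a
      exact mem_seqInd.2 (h.muR_mem0 (Finset.ne_of_mem_erase b))
  have pos : ∀ φ ∈ seqInd (⁅M, M⁆ ⇂ M) ⊥, 0 < (φ 1).re ^ 2 / nrm φ := fun φ a => by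
    obtain ⟨k, k0, e⟩ := (degIso0 h h1).exists_deg (mem_seqInd.1 a)
    have := (degIso0 h h1).nrm_pos (mem_seqInd.1 a)
    rw [e, Complex.natCast_re]; positivity
  have d1 : #W₂ ≤ d ∧ (d ≤ #W₂ → n = 2) := by
    have := c.eq
    have := c.two_le
    have : 2 * (#W₁ : ℤ) ≤ n * #W₁ := by gcongr; omega
    refine ⟨by rcases c.sign with e | e <;> omega, fun a => by_contra fun b => ?_⟩
    have : 3 * (#W₁ : ℤ) ≤ n * #W₁ := by gcongr; omega
    rcases c.sign with e | e <;> omega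
  have d2 : (#W₂ : ℝ) ^ 2 ≤ d ^ 2 := by exact_mod_cast Nat.pow_le_pow_left d1.1 2
  have t3 : ∑ φ ∈ T₁ ∪ T₂, (φ 1).re ^ 2 / nrm φ = ∑ φ ∈ seqInd (⁅M, M⁆ ⇂ M) ⊥, (φ 1).re ^ 2 / nrm φ +
      (#W₂ - 1) * #W₁ * (d ^ 2 - #W₂ ^ 2) := by
    rw [Finset.sum_union dj, t0, t1, t2]; push_cast; ring
  have t4 : 0 < ((#W₂ : ℝ) - 1) * #W₁ := mul_pos (sub_pos.2 p1) p0
  have eq : T₁ ∪ T₂ = seqInd (⁅M, M⁆ ⇂ M) ⊥ := by_contra fun a => by
    obtain ⟨φ, b1, b2⟩ := Finset.exists_of_ssubset (ss.ssubset_of_ne a)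
    have := Finset.sum_lt_sum_of_subset ss b1 b2 (pos φ b1) fun φ a _ => (pos φ a).le
    nlinarith
  have n2 : n = 2 := d1.2 <| by
    rw [eq, left_eq_add, mul_eq_zero, sub_eq_zero] at t3
    have : (d : ℝ) ^ 2 = #W₂ ^ 2 := t3.resolve_left t4.ne'
    exact_mod_cast ((pow_left_inj₀ (by positivity) (by positivity) two_ne_zero).1 this).le
  have c8 : 8 ≤ T₁.card := by
    rw [Finset.sum_congr rfl (g := fun _ => (#W₁ ^ 2 : ℝ)) fun φ a => by
      rw [dg φ (mem_seqInd.1 a), (h.irr_of_der2 (mem_seqInd.1 a)).nrm_eq, Complex.natCast_re, div_one],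
      Finset.sum_const, nsmul_eq_mul] at t1
    have e : (#W₂ : ℝ) = 2 * #W₁ - 1 := by rw [eq_sub_iff_add_eq]; exact_mod_cast s1
    have w : (3 : ℝ) ≤ #W₁ := by exact_mod_cast w3
    have : (T₁.card : ℝ) = 4 * (#W₁ - 1) := mul_right_cancel₀ (pow_pos p0 2).ne' (by
      rw [t1]; push_cast; rw [e]; ring)
    have : (8 : ℝ) ≤ T₁.card := by linarith
    exact_mod_cast this
  have z3 := conjFun_mem_inducedIrrAbove z1
  have key : ∀ j, j ≠ 1 → ∀ i, tau M (alpha h n δ ζ i j) = (δ : ℂ) • (h.η i j - h.η i 1) - (n : ℂ) • ν ζ := by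
    refine fun j hj i => c.tau_alpha_of hj hν z1 z3 ?_
    obtain ⟨a, ha⟩ := (c.isGen_alpha (i := i) hj).classInner_int (hν.gen _ z3)
    have b := bessel (s := T₁.erase ζ) (e := ν) (fun φ a ψ b e => by
      have a := mem_seqInd.1 (Finset.mem_of_mem_erase a)
      have b := mem_seqInd.1 (Finset.mem_of_mem_erase b)
      rw [hν.inner _ a _ b, orth_of_mem_inducedIrrAbove a b e]) (tau M (alpha h n δ ζ i j))
    rw [c.nrm_alpha hj, Finset.sum_congr rfl (g := fun _ => (a ^ 2 : ℝ)) fun φ x => ?_, Finset.sum_const,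
      Finset.card_erase_of_mem (mem_seqInd.2 z1), nsmul_eq_mul, n2] at b
    · rw [ha, Int.cast_eq_zero]
      by_contra a0
      have a1 : (1 : ℝ) ≤ a ^ 2 := by have := sq_pos_of_ne_zero a0; exact_mod_cast this
      have : (7 : ℝ) ≤ (T₁.card - 1 : ℕ) := by exact_mod_cast (by omega : 7 ≤ T₁.card - 1)
      push_cast at b
      nlinarith
    · have y := mem_seqInd.1 (Finset.mem_of_mem_erase x)
      rw [c.inner_nu hj hν.agree (sub y) (h.irr_of_der2 y) (c.one.trans (dg φ y).symm) (Finset.ne_of_mem_erase x).symm,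
        ← c.inner_nu hj hν.agree c.conjF.mem c.conjF.irr (c.one.trans c.conjF.one.symm) (conj_ne c.mem).symm, ha,
        hν.nrm_eq y, (h.irr_of_der2 y).nrm_eq, Complex.norm_intCast, sq_abs, div_one]
  have o := C345.orth_eta h h1 sub hν z1 z3 c.irr
  have mu : ∀ φ ∈ SD0 M, φ ∉ SD M ⁅⁅M, M⁆, ⁅M, M⁆⁆ → ∃ j, ν φ = (δ : ℂ) • ∑ i, h.η i j := fun φ a b => by
    obtain ⟨j, x, rfl⟩ := Finset.mem_image.1
      ((Finset.mem_union.1 (eq ▸ mem_seqInd.2 a)).resolve_left (mt mem_seqInd.1 b))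
    have hj := Finset.ne_of_mem_erase x
    have := c.tau_sum hj hν.agree (key j hj)
    rw [c.tau_mu0_of hj ((hν.nrm_eq z1).trans c.irr.nrm_eq) o (c.inner_mu0 (by omega)) (key j hj 1), sub_self,
      smul_zero, sub_eq_zero] at this
    exact ⟨j, this⟩
  refine h.not_coh h1 ⟨ν, ((degIso0 h h1).cohWith_union sub subset_rfl hν z1 (fun φ a b => ?_)
    fun φ a b => ?_).mono Set.subset_union_right⟩ <;> obtain ⟨j, e⟩ := mu φ a b <;> rw [e]
  · exact (isGen_sum _ _ fun i _ => h.cycFam.isGen i j).intCast_smul δ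
  · rw [classInner_eq_zero_comm, classInner_smul_right, classInner_sum_right]; simp [o]

/-- (10.11) -/
theorem _root_.Cfsg.Agent.BG.PD.prime1 (h : PD M U W₁ W₂) : (#W₁).Prime :=
  (h.prime_ti h.U_ne_bot).1

/-- (10.11) -/
theorem _root_.Cfsg.Agent.BG.PD.prime2 (h : PD M U W₁ W₂) : (#W₂).Prime :=
  let ⟨_, _, e⟩ := h.pair; e.hT.prime1

/-- (10.11): for type II, `H₀ = 1` -/
theorem _root_.Cfsg.Agent.BG.PD.p9_of_p2 (h : PD M U W₁ W₂) (h2 : TypeP2 M) :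
    P9 M U W₁ W₂ ⊥ (U ⊓ C[MF[M]]) #W₂ := by
  obtain ⟨H₀, C, p, k⟩ := h.exists_p9 h.U_ne_bot
  obtain rfl := k.p_eq h.prime2
  obtain rfl : H₀ = ⊥ := by
    have a := card_mul_relIndex k.chief.lt.le
    rw [k.idx, (h.card_typeII h2).2] at a
    exact card_eq_one.1 (Nat.eq_of_mul_eq_mul_right (pow_pos (card_pos _) _) (a.trans (one_mul _).symm))
  obtain rfl : C = U ⊓ C[MF[M]] := by
    ext x
    rw [k.memC, mem_inf, mem_C]
    simp only [mem_bot, mul_inv_eq_iff_eq_mul, one_mul]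
    simp only [eq_comm]
  exact k

end Cfsg.Agent.PF
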