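import Cfsg.Agent.PF.S10b

/-! Peterfalvi, section 11 (11.3 - 11.7): types III and IV. -/

set_option autoImplicit false
set_option linter.unusedSectionVars false

namespace Cfsg.Agent.PF

open Cfsg Cfsg.Agent.Char Cfsg.Agent.BG Subgroup
open scoped ComplexConjugate

/-- (11.1) -/
theorem arith11 {p q : ℕ} (hp : 3 ≤ p) (hq : 3 ≤ q) (op : Odd p) (oq : Odd q) (h : p ≠ q) :
    4 * q ^ 2 + 1 < p ^ q := by
  have a : ∀ n, 5 ≤ n → 4 * n ^ 2 + 1 < 3 ^ n := fun n i => by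
    induction n, i using Nat.le_induction with
    | base => norm_num
    | succ n i j => rw [pow_succ 3]; nlinarith
  obtain ⟨k, rfl⟩ := op
  obtain ⟨l, rfl⟩ := oq
  by_cases i : l = 1
  · subst i
    exact lt_of_lt_of_le (by norm_num) (Nat.pow_le_pow_left (show 5 ≤ 2 * k + 1 by omega) _)
  · exact (a _ (by omega)).trans_le (Nat.pow_le_pow_left hp _)

theorem zmod_eq_zero {p : ℕ} (op : Odd p) {a : ZMod p} (h : a = -a) : a = 0 :=
  ((ZMod.neg_eq_self_iff a).1 h.symm).resolve_right fun i => Nat.not_even_iff_odd.2 op (i ▸ even_two_mul _)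

theorem addHom_eq_sum {p : ℕ} {ι : Type*} [Fintype ι] [DecidableEq ι] (k : (ι → ZMod p) →+ ZMod p) (w) :
    k w = ∑ i, w i * k (Pi.single i 1) := by
  conv_lhs => rw [← Finset.univ_sum_single w, map_sum]
  exact Finset.sum_congr rfl fun i _ => by
    rw [← smul_eq_mul, ← ZMod.map_smul, ← Pi.single_smul, smul_eq_mul, mul_one]

/-- an alternating form in odd dimension is degenerate -/
theorem exists_rad {p n : ℕ} (hp : p.Prime) (op : Odd p) (hn : Odd n)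
    (B : (Fin n → ZMod p) →+ (Fin n → ZMod p) →+ ZMod p) (h : ∀ v w, B v w = -B w v) :
    ∃ v ≠ 0, ∀ w, B v w = 0 := by
  classical
  haveI := Fact.mk hp
  let A : Matrix (Fin n) (Fin n) (ZMod p) := Matrix.of fun i j => B (Pi.single i 1) (Pi.single j 1)
  have a : A.det = -A.det := by
    conv_lhs => rw [← Matrix.det_transpose, show A.transpose = -A from Matrix.ext fun i j => h _ _, Matrix.det_neg,
      Fintype.card_fin, hn.neg_one_pow, neg_one_mul]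
  obtain ⟨v, b, c⟩ := Matrix.exists_vecMul_eq_zero_iff.2 (zmod_eq_zero op a)
  refine ⟨v, b, fun w => (addHom_eq_sum _ w).trans (Finset.sum_eq_zero fun j _ => mul_eq_zero_of_right _ ?_)⟩
  exact (addHom_eq_sum (B.flip (Pi.single j 1)) v).trans (congrFun c j)

section
variable {G : Type*} [Group G] {H H₀ Q : Subgroup G} {p : ℕ}

theorem exists_addM [Finite G] (hp : p.Prime) (h1 : Q ≤ H₀) (h2 : H₀ ≤ N[Q]) (h3 : Q.relIndex H₀ = p) :
    ∃ g : G → ZMod p, AddM H₀ Q g := by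
  classical
  haveI := Fact.mk hp
  let k : H₀ ÷ Q ≃* Multiplicative (ZMod p) :=
    mulEquivOfPrimeCardEq ((card_quo h2).trans h3) (Nat.card_zmod p)
  refine ⟨fun x => if i : x ∈ H₀ then (k (PHom.res (φ := quo Q) h2 ⟨x, i⟩)).toAdd else 0, h1, fun x i y j => ?_, fun x i => ?_,
    fun v => ?_⟩
  · rw [dif_pos i, dif_pos j, dif_pos (mul_mem i j), ← toAdd_mul, ← map_mul, ← map_mul]; rfl
  · rw [dif_pos i, toAdd_eq_zero, k.map_eq_one_iff, ← MonoidHom.mem_ker, (PHom.res_ker (φ := quo Q) h2 :), quo_ker]; rfl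
  · obtain ⟨x, i⟩ := PHom.res_surj (φ := quo Q) h2 (k.symm (Multiplicative.ofAdd v))
    exact ⟨x, x.2, by rw [dif_pos x.2, i, k.apply_symm_apply]; rfl⟩

/-- the commutator form on `H/H₀` -/
theorem exists_form {V A : Type*} [AddCommGroup V] [AddCommGroup A] {f : G → V} {g : G → A} (e : AddM H H₀ f)
    (e' : AddM H₀ Q g) (h1 : ⁅H, H⁆ ≤ H₀) (h2 : ⁅H₀, H⁆ ≤ Q) : ∃ B : V →+ V →+ A,
      (∀ v w, B v w = -B w v) ∧ ∀ x ∈ H, ∀ y ∈ H, B (f x) (f y) = g (x * y * x⁻¹ * y⁻¹) := by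
  let c : G → G → A := fun x y => g (x * y * x⁻¹ * y⁻¹)
  have m : ∀ x ∈ H, ∀ y ∈ H, x * y * x⁻¹ * y⁻¹ ∈ H₀ := comm_le_iff.1 h1
  have a : ∀ x ∈ H, ∀ y ∈ H, c x y = -c y x := fun x i y j => by
    rw [← e'.inv (m y j x i)]; simp [c, mul_assoc]
  have b : ∀ x ∈ H₀, ∀ y ∈ H, c x y = 0 := fun x i y j =>
    (e'.ker _ (m x (e.le i) y j)).2 (comm_le_iff.1 h2 x i y j)
  have d : ∀ x ∈ H, ∀ y ∈ H, ∀ z ∈ H, c (x * y) z = c x z + c y z := fun x i y j z k => by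
    have l := m y j z k
    have := e'.add _ (m x i _ (e.le l)) _ (mul_mem l (m x i z k))
    rw [show g _ = 0 from (a x i _ (e.le l)).trans (by rw [b _ l x i, neg_zero]), zero_add, e'.add _ l _ (m x i z k),
      add_comm] at this
    exact (congrArg g (by group)).trans this
  have d' : ∀ x ∈ H, ∀ y ∈ H, f x = f y → ∀ z ∈ H, c x z = c y z := fun x i y j l z k => by
    have := d _ (mul_mem i (inv_mem j)) y j z k
    rwa [b _ ((e.eq_iff i j).1 l) z k, zero_add, inv_mul_cancel_right] at this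
  choose s s1 s2 using e.surj
  have t : ∀ v w z, c (s (v + w)) (s z) = c (s v) (s z) + c (s w) (s z) := fun v w z => by
    rw [← d _ (s1 v) _ (s1 w) _ (s1 z)]
    exact d' _ (s1 _) _ (mul_mem (s1 v) (s1 w)) (by rw [e.add _ (s1 v) _ (s1 w), s2, s2, s2]) _ (s1 z)
  refine ⟨AddMonoidHom.mk' (fun v => AddMonoidHom.mk' (fun w => c (s v) (s w)) fun w z => ?_)
    fun v w => AddMonoidHom.ext (t v w), fun v w => a _ (s1 v) _ (s1 w), fun x i y j => ?_⟩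
  · rw [a _ (s1 v) _ (s1 _), t, a _ (s1 w) _ (s1 v), a _ (s1 z) _ (s1 v), ← neg_add, neg_neg]
  · change c _ _ = c x y
    rw [d' _ (s1 _) x i (s2 _) _ (s1 _), a x i _ (s1 _), d' _ (s1 _) y j (s2 _) x i, ← a x i y j]
end

variable {G : Type*} [Group G] [Fintype G] [hG : MSO G] {M U W₁ W₂ H₀ C : Subgroup G} {p : ℕ}

theorem _root_.Cfsg.Agent.BG.PD.preCoh0 (h : PD M U W₁ W₂) (h1 : TypeP1 M) : PreCoh (SD0 M) (tau M) :=
  indD_eq M ▸ ((h.pdD h1).exists_subCoh (mso_odd M)).choose_spec.1.preCoh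

namespace P9

theorem inf_C (h : P9 M U W₁ W₂ H₀ C p) : C ⊓ MF[M] = ⊥ :=
  eq_bot_iff.2 ((inf_le_inf_right _ h.C_le).trans ((inf_comm _ _).le.trans h.sd.inf.le))
theorem HC_le (h : P9 M U W₁ W₂ H₀ C p) : MF[M] ⊔ C ≤ ⁅M, M⁆ := sup_le h.sd.left (h.C_le.trans h.sd.right)
theorem H0C_le (h : P9 M U W₁ W₂ H₀ C p) : H₀ ⊔ C ≤ MF[M] ⊔ C := sup_le_sup_right h.chief.lt.le C
theorem idx_H0C (h : P9 M U W₁ W₂ H₀ C p) : (H₀ ⊔ C).relIndex (MF[M] ⊔ C) = p ^ #W₁ := by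
  rw [show MF[M] ⊔ C = H₀ ⊔ C ⊔ MF[M] by rw [sup_right_comm, sup_eq_right.2 h.chief.lt.le],
    relIndex_sup_l ((MF_le M).trans h.normH0C), ← inf_relIndex_right,
    modl_l ((h.C_le.trans h.leU).trans h.chief.nV) h.chief.lt.le, h.inf_C, sup_bot_eq, h.idx]
theorem idx_HC (h : P9 M U W₁ W₂ H₀ C p) : (MF[M] ⊔ C).relIndex ⁅M, M⁆ = C.relIndex U := by
  rw [show ⁅M, M⁆ = MF[M] ⊔ C ⊔ U by rw [sup_assoc, sup_eq_right.2 h.C_le, h.sd.sup],
    relIndex_sup_l (h.leU.trans h.normHC), ← inf_relIndex_right,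
    modr_l ((h.C_le.trans h.leU).trans (MF_norm M)) h.C_le, h.sd.inf, bot_sup_eq]
theorem idx_HC' (h : P9 M U W₁ W₂ H₀ C p) : (MF[M] ⊔ C).relIndex M = C.relIndex U * #W₁ := by
  rw [← relIndex_mul_relIndex _ _ _ h.HC_le (der_le M), h.idx_HC, h.der.relIndex_l]
theorem der2_le (h : P9 M U W₁ W₂ H₀ C p) : ⁅⁅M, M⁆, ⁅M, M⁆⁆ ≤ MF[M] ⊔ C := by
  rw [← h.sd.sup]
  exact der_sup_le ((der_le _).trans le_sup_left) (h.der_le_C.trans le_sup_right)
    ((commL (h.leU.trans (MF_norm M))).trans le_sup_left) (normsG le_sup_left) (h.leU.trans h.normHC)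
theorem not_le_HC (h : P9 M U W₁ W₂ H₀ C p) {X : Subgroup G} (h1 : X ≤ MF[M] ⊔ C) :
    ¬ ⁅M, M⁆ ⇂ M ≤ ⁅⁅M, M⁆ ⇂ M, ⁅M, M⁆ ⇂ M⁆ ⊔ X ⇂ M := fun i => by
  rw [← sub_comm (der_le M) (der_le M)] at i
  have := (sub_le_iff (der_le M)).1 (i.trans (sup_le (sub_mono h.der2_le) (sub_mono h1)))
  exact h.h95.one_lt_u.ne' (h.idx_HC.symm.trans (relIndex_eq_one.2 this))

/-- (11.3) -/
theorem not_coh (h : P9 M U W₁ W₂ H₀ C p) (h1 : TypeP1 M) : ¬ Coh (SD M (H₀ ⊔ C)) (tau M) := fun i => by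
  haveI := sub_normal h.normH0C
  haveI := sub_normal h.normHC
  obtain ⟨rfl, -, a⟩ := h.type34 h1
  refine h.toPD.not_coh h1 ((h.preCoh0 h1).coh_of_nilpotent (h.not_le_HC h.H0C_le) bot_le (sub_mono h.H0C_le)
    (sub_mono h.HC_le) (Nil.map (nil_sub ?_) _) i ?_)
  · rw [a, h.F_dp.sup]; exact F_nil M
  · rw [h.index_der, relIndex_sub (h.HC_le.trans (der_le M)), h.idx_H0C]
    exact arith11 h.three_le₂ h.three_le₁ (mso_odd _) (mso_odd _) h.card_ne.symm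

/-- (11.5) -/
theorem der2 (h : P9 M U W₁ W₂ H₀ C p) (h1 : TypeP1 M) : ⁅⁅M, M⁆, ⁅M, M⁆⁆ = MF[M] ⊔ C := by
  haveI := sub_normal h.normHC
  have l := h.HC_le.trans (der_le M)
  have a := mt ((h.preCoh0 h1).coh_of_bound (C := (MF[M] ⊔ C) ⇂ M) (h.not_le_HC h.der2_le) le_rfl (sub_mono h.HC_le)
    (fun x i y j => comm_le_iff.1 (der_sup_le (h.der_le0.trans le_sup_left) ((der_le C).trans le_sup_right)
      (((commutator_comm _ _).le.trans h.h95.commC).trans le_sup_left) ((MF_le M).trans h.normH0C)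
      (normsG le_sup_right)) x i y j)
    ((h.preCoh0 h1).coh_of_commutator_le (sub_comm (der_le M) (der_le M)).ge)) (h.not_coh h1)
  rw [relIndex_self, index_sub, h.idx_HC', relIndex_sub (der_le M),
    ← relIndex_mul_relIndex _ _ _ h.der2_le h.HC_le, h.idx_HC] at a
  have b := relIndex_modEq_one_of_frobenius (sub_mono (der_le _)) h.frob_mod le_rfl (sub_mono h.der2_le)
    (sub_mono h.HC_le)
  rw [h.index_der, relIndex_sub l] at b
  refine h.der2_le.antisymm (by_contra fun i => a ?_)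
  have c := le_of_modEq_one_of_odd b (one_lt_relIndex i) ((mso_odd _).of_dvd_nat (relIndex_dvd _ _)) (mso_odd _)
  have d := h.h95.one_lt_u
  rw [mul_one, show 4 * (C.relIndex U * #W₁) ^ 2 = (2 * #W₁ * C.relIndex U) ^ 2 by ring]
  refine Nat.pow_lt_pow_left (Nat.lt_sub_of_add_lt (lt_of_lt_of_le ?_ (Nat.mul_le_mul_right _ c))) two_ne_zero
  rw [add_mul]; omega

theorem der2_eq (h : P9 M U W₁ W₂ H₀ C p) :
    ⁅⁅M, M⁆, ⁅M, M⁆⁆ = ⁅MF[M], MF[M]⁆ ⊔ ⁅MF[M], U⁆ ⊔ ⁅U, U⁆ :=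
  h.sd.sup ▸ der_sup h.sd.norm

/-- (11.6) -/
theorem C_eq_der (h : P9 M U W₁ W₂ H₀ C p) (h1 : TypeP1 M) : C = ⁅U, U⁆ := by
  refine le_antisymm ?_ h.der_le_C
  have : C ≤ (MF[M] ⊔ ⁅U, U⁆) ⊓ U := le_inf (le_sup_right.trans ((h.der2 h1).ge.trans (h.der2_eq.le.trans
    (sup_le_sup_right (sup_le (der_le _) (commL h.sd.norm)) _)))) h.C_le
  rwa [modr_l ((der_le U).trans h.sd.norm) (der_le U), h.sd.inf, bot_sup_eq] at this

theorem comm_eq (h : P9 M U W₁ W₂ H₀ C p) (h1 : TypeP1 M) : ⁅MF[M], U⁆ = MF[M] := by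
  have a : ⁅MF[M], MF[M]⁆ ⊔ ⁅MF[M], U⁆ ≤ MF[M] := sup_le (der_le _) (commL h.sd.norm)
  have : MF[M] ≤ (⁅MF[M], MF[M]⁆ ⊔ ⁅MF[M], U⁆ ⊔ ⁅U, U⁆) ⊓ MF[M] :=
    le_inf (le_sup_left.trans ((h.der2 h1).ge.trans h.der2_eq.le)) le_rfl
  rw [modl_l ((der_le U).trans (normY (normD h.sd.norm) (normR h.sd.norm (normG U)))) a,
    eq_bot_iff.2 ((inf_le_inf_right _ (der_le U)).trans ((inf_comm _ _).le.trans h.sd.inf.le)), sup_bot_eq,
    sup_comm] at this
  exact (MF_nil M).eq_of_sup_der (commL h.sd.norm) this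

theorem H0_eq_der (h : P9 M U W₁ W₂ H₀ C p) (h1 : TypeP1 M) : H₀ = ⁅MF[M], MF[M]⁆ := by
  refine le_antisymm ?_ h.der_le0
  have n := der_norm MF[M]
  have n' : U ≤ N[⁅MF[M], MF[M]⁆] := normD h.sd.norm
  have := cop_abel_C_comm ((quo_abel_iff n).2 le_rfl) (PHom.im_norm h.sd.norm)
    (cop_im (coprimeS h.copF le_sup_left le_rfl) (quo ⁅MF[M], MF[M]⁆))
  rw [← PHom.im_comm n n', h.comm_eq h1] at this
  rw [(h.type34 h1).2.1, ← quo_bot_iff (inf_le_left.trans n), eq_bot_iff, ← this]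
  exact PHom.im_IC_le _ _

theorem pig_MF (h : P9 M U W₁ W₂ H₀ C p) (h1 : TypeP1 M) : PiG {p} MF[M] :=
  (MF_nil M).eq_of_sup_der (O_le {p} _) (((MF_nil M).dprod_O {p}).sup.ge.trans (sup_le_sup_left
    (((O_pig _ _).le_of_idx h.chief.nUV (O_le _ _) (by
      rw [h.idx, compl_compl]; exact pin_pow_self h.prime _)).trans (h.H0_eq_der h1).le) _)) ▸ O_pig _ _

theorem exists_alt (h : P9 M U W₁ W₂ H₀ C p) (h1 : TypeP1 M) (h0 : H₀ ≠ ⊥) {V : Type*} [AddCommGroup V] {f : G → V}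
    (e : AddM MF[M] H₀ f) : ∃ B : V →+ V →+ ZMod p, (∀ v w, B v w = -B w v) ∧ B ≠ 0 ∧
      ∀ u ∈ U, ∀ x ∈ MF[M], ∀ y ∈ MF[M], B (f (u * x * u⁻¹)) (f (u * y * u⁻¹)) = B (f x) (f y) := by
  have l := h.chief.lt.le
  have nF := h.leU.trans (MF_norm M)
  obtain ⟨Q, a1, a2, a3, a4⟩ := ((h.pig_MF h1).of_le l).exists_max h.prime
    ((MF_nil M).comm_lt l le_rfl h.chief.nUV h0)
  obtain ⟨c, e'⟩ := exists_addM h.prime a2 a3 a4
  obtain ⟨B, b1, b2⟩ := exists_form e e' h.der_le0 a1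
  refine ⟨B, b1, fun i => h.prime.one_lt.ne' (a4.symm.trans (relIndex_eq_one.2 ((h.H0_eq_der h1).le.trans
    (comm_le_iff.2 fun x j y k => (e'.ker _ (h.der_le0 (comm_mem j k))).1 (by rw [← b2 x j y k, i]; rfl))))),
    fun u i x j y k => ?_⟩
  rw [b2 _ (conj_mem (nF i) j) _ (conj_mem (nF i) k), b2 x j y k]
  have := mem_C.1 ((h.type34 h1).2.1.le (h.der_le0 (comm_mem j k))).2 u i
  rw [← mul_inv_eq_iff_eq_mul] at this
  exact congrArg c (Eq.trans (by group) this)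

/-- (11.7) -/
theorem H0_eq_bot (h : P9 M U W₁ W₂ H₀ C p) (h1 : TypeP1 M) : H₀ = ⊥ := by
  classical
  by_contra h0
  haveI := Fact.mk h.prime
  have g := h.h95
  have nF := h.leU.trans (MF_norm M)
  have op : Odd p := (mso_odd W₂).of_dvd_nat g.p_dvd
  by_cases hg : PGal M U H₀
  · obtain ⟨f, r, e, -⟩ := g.exists_lin
    obtain ⟨B, b1, b2, b3⟩ := h.exists_alt h1 h0 e
    obtain ⟨v, i, j⟩ := exists_rad h.prime op (mso_odd W₁) B b1
    refine (hg _ (e.le_sub B.ker) (e.sub_le _) (le_N_iff.2 fun u k x o => ⟨conj_mem (nF k) o.1,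
      AddMonoidHom.ext fun w => ?_⟩)).elim (fun k => ?_) fun k => ?_
    · obtain ⟨y, l, rfl⟩ := e.surj w
      have := b3 u k x o.1 _ (conj_mem' (nF k) l)
      rw [show B (f x) = 0 from o.2] at this
      simpa [mul_assoc] using this
    · exact i ((e.sub_inj (k.trans e.sub_bot.symm)).le (AddMonoidHom.ext j))
    · exact b2 (AddMonoidHom.ker_eq_top_iff.1 (e.sub_inj (k.trans e.sub_top.symm)))
  obtain ⟨f, χ, e⟩ := g.exists_ngal hg
  obtain ⟨B, b1, b2, b3⟩ := h.exists_alt h1 h0 e.toAddM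
  obtain ⟨s, t, i⟩ : ∃ s t, B (Pi.single s 1) (Pi.single t 1) ≠ 0 := by
    by_contra! i
    refine b2 (AddMonoidHom.ext fun v => AddMonoidHom.ext fun w => (addHom_eq_sum _ w).trans
      (Finset.sum_eq_zero fun t _ => mul_eq_zero_of_right _ ((addHom_eq_sum (B.flip _) v).trans ?_)))
    exact Finset.sum_eq_zero fun s _ => mul_eq_zero_of_right _ (i s t)
  have a : ∀ u ∈ U, ∀ s : W₁, ∀ x ∈ MF[M], f x = Pi.single s 1 →
      f (u * x * u⁻¹) = (χ.app ((s : G)⁻¹ * u * s) : ZMod p) • (Pi.single s 1 : W₁ → ZMod p) := fun u j s x k l =>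
    funext fun v => by
      rw [e.actU u j x k, l]
      by_cases o : v = s <;> simp [o]
  obtain ⟨x, x1, x2⟩ := e.surj (Pi.single s 1)
  obtain ⟨y, y1, y2⟩ := e.surj (Pi.single t 1)
  have b : ∀ u ∈ U, χ.app ((s⁻¹ * t : W₁) * u * ((s⁻¹ * t : W₁) : G)⁻¹) = (χ.app u)⁻¹ := fun u j => by
    have k := conj_mem (h.norm t.2) j
    have := b3 _ k x x1 y y1
    rw [a _ k s x x1 x2, a _ k t y y1 y2, x2, y2, ZMod.map_smul, ← B.flip_apply, ZMod.map_smul, B.flip_apply,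
      smul_smul, smul_eq_mul, mul_eq_right₀ i] at this
    exact eq_inv_of_mul_eq_one_right (Units.ext (by simpa [mul_assoc] using this))
  have c : (s⁻¹ * t) ^ 2 ≠ 1 := fun j => by
    have k := (mso_odd_orderOf ((s⁻¹ * t : W₁) : G)).coprime_two_right.eq_one_of_dvd
      (orderOf_dvd_of_pow_eq_one (congrArg Subtype.val j))
    rw [orderOf_eq_one_iff, OneMemClass.coe_eq_one, inv_mul_eq_one] at k
    exact i (k ▸ zmod_eq_zero op (b1 _ _))
  haveI := Fact.mk h.q_prime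
  have d : ∀ w : W₁, ∀ u ∈ U, χ.app (w * u * (w : G)⁻¹) = χ.app u := fun w => by
    obtain ⟨n, rfl⟩ := mem_powers_of_prime_card rfl c (g' := w)
    induction n with
    | zero => simp
    | succ n j =>
      intro u k
      have l := conj_mem (h.norm (((s⁻¹ * t) ^ 2) ^ n).2) k
      refine Eq.trans (congrArg χ.app ?_) ((b _ (conj_mem (h.norm (s⁻¹ * t).2) l)).trans
        (by rw [b _ l, inv_inv]; exact j u k))
      simp only [pow_succ', pow_zero, mul_one, coe_mul, mul_inv_rev, mul_assoc]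
  refine (e.one_lt g).ne' (relIndex_eq_one.2 fun u j => PHom.mem_ker.2 ⟨e.dom.ge j, ?_⟩)
  have := h.inv_triv ((χ.im U).subtype.comp (PHom.res e.dom.ge)) (fun w k u => by
    simpa [PHom.res_coe] using d ⟨w, k⟩ u u.2) ⟨u, j⟩
  simpa [PHom.res_coe] using this

end P9

/-- (10.11), (11.7) -/
theorem _root_.Cfsg.Agent.BG.PD.p9 (h : PD M U W₁ W₂) :
    P9 M U W₁ W₂ ⊥ (U ⊓ C[MF[M]]) #W₂ := by
  rcases h.typeP.p1_or_p2 with h1 | h1
  · obtain ⟨H₀, C, p, a⟩ := h.exists_p9 h.U_ne_bot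
    obtain ⟨rfl, -, rfl⟩ := a.type34 h1
    exact a.H0_eq_bot h1 ▸ a
  · exact h.p9_of_p2 h1

end Cfsg.Agent.PF
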