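import Cfsg.Agent.PF.S11a

/-! Peterfalvi, section 11 (11.8, 11.9). -/

set_option autoImplicit false
set_option linter.unusedSectionVars false

namespace Cfsg.Agent.PF

open Cfsg Cfsg.Agent.Char Cfsg.Agent.BG Subgroup
open scoped ComplexConjugate

theorem sum_inv_parity {W : Type*} [Group W] [Finite W] (ho : Odd (Nat.card W)) {m : (W →* ℂˣ) → ℤ}
    (h : ∀ i, m i⁻¹ = m i) : Even (∑ i, m i - m 1) := by
  rw [← Finset.add_sum_erase _ _ (Finset.mem_univ 1), add_sub_cancel_left, ← ZMod.intCast_eq_zero_iff_even,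
    Int.cast_sum]
  exact Finset.sum_involution (fun i _ => i⁻¹) (fun i _ => by rw [h, CharTwo.add_self_eq_zero])
    (fun i a _ => hom_inv_ne_self ho (Finset.ne_of_mem_erase a))
    (fun i a => by simpa using mt hom_inv_eq_one.1 (Finset.ne_of_mem_erase a)) fun i _ => hom_inv_inv i

theorem sum_ite_eq_add {I : Type*} [Fintype I] [DecidableEq I] (a : I) (x y : ℝ) :
    ∑ i, (if i = a then x else y) = x + (Fintype.card I - 1) * y := by
  rw [← Finset.add_sum_erase _ _ (Finset.mem_univ a), if_pos rfl, Finset.sum_congr rfl (g := fun _ => y)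
    fun i e => if_neg (Finset.ne_of_mem_erase e), Finset.sum_const, Finset.card_erase_of_mem (Finset.mem_univ a),
    nsmul_eq_mul, Nat.cast_pred (Finset.card_pos.2 ⟨a, Finset.mem_univ a⟩), Finset.card_univ]

theorem mem_above_sup {L : Type*} [Group L] [Fintype L] {K H C : Subgroup L} (h1 : H ≤ K) (h2 : C ≤ K) {φ : L → ℂ}
    (h : φ ∈ inducedIrrAbove K C) : φ ∈ inducedIrrAbove K (H ⊔ C) ∪ indD K H C := by
  obtain ⟨θ, a, b, c, rfl⟩ := mem_inducedIrrAbove.1 h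
  by_cases e : ∀ a : K, (a : L) ∈ H → θ a = θ 1
  · refine Or.inl (mem_inducedIrrAbove.2 ⟨θ, a, b, fun x hx => a.isCharacter.mem_charKer.1 ?_, rfl⟩)
    have : (H ⊔ C).subgroupOf K ≤ charKer θ := by
      rw [subgroupOf_sup h1 h2]
      exact sup_le (fun y hy => a.isCharacter.mem_charKer.2 (e y hy)) fun y hy => a.isCharacter.mem_charKer.2 (c y hy)
    exact this hx
  · exact Or.inr ⟨θ, a, c, by simpa using e, rfl⟩

variable {G : Type*} [Group G] [Fintype G] [hG : MSO G] {M U W₁ W₂ : Subgroup G}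

theorem F_eq_der2 (h : PD M U W₁ W₂) (h1 : TypeP1 M) : F[M] = ⁅⁅M, M⁆, ⁅M, M⁆⁆ :=
  h.F_dp.sup.symm.trans (h.p9.der2 h1).symm

theorem idx_F (h : PD M U W₁ W₂) : F[M].relIndex ⁅M, M⁆ = (U ⊓ C[MF[M]]).relIndex U := by
  have a := card_mul_relIndex h.F_le
  rw [← h.F_dp.card, ← h.sd.card, ← card_mul_relIndex (inf_le_left : U ⊓ C[MF[M]] ≤ U), ← mul_assoc] at a
  exact Nat.eq_of_mul_eq_mul_left (Nat.mul_pos (card_pos _) (card_pos _)) a

theorem indHC_p9 (h : PD M U W₁ W₂) {j} (hj : j ≠ 1) : IndHC M U W₁ ⊥ (U ⊓ C[MF[M]]) (h.μR j) :=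
  h.p9.indHC_muR (h.p9.muR_mem_iff.2 ⟨hj, fun b e => by rw [show b = 1 from Subtype.ext e, map_one]⟩)

theorem coh_S9 (h : PD M U W₁ W₂) : Coh (S9 M (⊥ ⊔ U ⊓ C[MF[M]])) (tau M) :=
  h.p9.coh.mono (indD_mono le_rfl (sub_mono (sup_le_sup_left (der_le _) _)))

theorem SF_facts (h : PD M U W₁ W₂) (h1 : TypeP1 M) {ζ : M → ℂ} (hζ : ζ ∈ SD M F[M]) :
    ζ ∈ SD0 M ∧ IsIrrCharacter M ζ ∧ ζ 1 = (#W₁ : ℕ) := by
  rw [F_eq_der2 h h1] at hζ
  exact ⟨inducedIrrAbove_anti bot_le hζ, h.irr_of_der2 hζ, by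
    rw [degree_eq_of_commutator_le (sub_comm (M := M) (der_le M) (der_le M)).ge hζ, h.index_der]⟩

theorem exists_c345' (h : PD M U W₁ W₂) (h1 : TypeP1 M) {ζ : M → ℂ} (hζ : ζ ∈ SD M F[M]) :
    ∃ d n δ, C345 h d n δ ζ :=
  let ⟨d, n, δ, c⟩ := h.exists_c345 h1; let ⟨a, b, e⟩ := SF_facts h h1 hζ; ⟨d, n, δ, c ζ a b e⟩

section
variable {h : PD M U W₁ W₂} {d n : ℕ} {δ : ℤ} {ζ : M → ℂ} {j : W₂ →* ℂˣ} {ν : CMap M G}

/-- (11.8.1) -/
theorem C345.const11 (c : C345 h d n δ ζ) : δ = 1 ∧ (seqInd (⁅M, M⁆ ⇂ M) (F[M] ⇂ M)).card = n := by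
  obtain ⟨j, hj⟩ := h.exists_ne_one₂
  have a := (indHC_p9 h hj).deg
  have t := sum_seqInd_sq (K := ⁅M, M⁆ ⇂ M) (F[M] ⇂ M)
  rw [c.muR_one hj, c.one, ← Nat.cast_mul, Nat.cast_inj, mul_comm] at a
  rw [relIndex_sub (der_le M), idx_F h, ← Nat.eq_of_mul_eq_mul_left (card_pos _) a, h.index_der,
    Finset.sum_congr rfl (g := fun _ => (#W₁ ^ 2 : ℝ)) fun φ a => by
      obtain ⟨-, x, y⟩ := SF_facts h c.p1 (mem_seqInd.1 a)
      rw [y, x.nrm_eq, Complex.natCast_re, div_one], Finset.sum_const, nsmul_eq_mul] at t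
  generalize (seqInd (⁅M, M⁆ ⇂ M) (F[M] ⇂ M)).card = N at *
  have w : (3 : ℤ) ≤ #W₁ := by exact_mod_cast h.three_le₁
  have t' : (N : ℤ) * #W₁ ^ 2 = #W₁ * (d - 1) := by exact_mod_cast t
  have e := c.eq
  generalize (#W₁ : ℤ) = q at *
  have t1 : N * q = d - 1 := mul_left_cancel₀ (by omega : q ≠ 0) (by linear_combination t')
  rcases c.sign with s | s <;> subst s
  · exact ⟨rfl, Int.natCast_inj.1 (mul_right_cancel₀ (by omega : q ≠ 0) (by linear_combination t1 + e))⟩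
  · have := Int.le_of_dvd two_pos (⟨n - N, by linear_combination t1 + e⟩ : q ∣ 2)
    omega

theorem C345.orth_sub (c : C345 h d n δ ζ) {φ : M → ℂ} (h1 : φ ∈ SD0 M) (h2 : IsIrrCharacter M φ) (h3 : ζ 1 = φ 1)
    (i j) : classInner (tau M (ζ - φ)) (h.η i j) = 0 :=
  (h.pdD c.p1).orth_dade_sub (indD_eq M ▸ c.mem) (indD_eq M ▸ h1) c.irr h2 h3 i j

/-- (11.8.4) -/
theorem C345.exists_nu (c : C345 h d n δ ζ) (hζ : ζ ∈ SD M F[M])
    (ho : ∀ i j, classInner (tau M (h.μR 1 - ζ) - ∑ k, h.η k 1) (h.η i j) = 0) :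
    ∃ ν, CohWith (SD M F[M]) (tau M) ν ∧ tau M (h.μR 1 - ζ) = ∑ k, h.η k 1 - ν ζ := by
  obtain ⟨ν, a, b⟩ := exists_agree (tau M) c.irr.one_ne_zero (∑ k, h.η k 1 - tau M (h.μR 1 - ζ))
  have D := (degIso0 h c.p1).mono (T := SD M F[M]) fun φ x => (SF_facts h c.p1 x).1
  have e : ∀ φ ∈ SD M F[M], ζ 1 = φ 1 := fun φ x => c.one.trans (SF_facts h c.p1 x).2.2.symm
  have n1 : nrm (ν ζ) = 1 := by
    have k := c.nrm_mu0
    rw [← sub_add_cancel (tau M _) (∑ k, h.η k 1), nrm_add_of_orth (by rw [classInner_sum_right]; simp only [ho]; simp),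
      nrm_def (∑ k, _), (h.pdD c.p1).inner_sum_eta, nrm_sub_comm, ← b] at k
    simp only [if_true, Complex.natCast_re] at k
    linarith
  refine ⟨ν, D.cohWith_of_pivot a (Submodule.subset_span hζ) c.irr.one_ne_zero (fun φ x => D.gen_of_dvd a x hζ
    (a := 1) (by rw [e φ x, Nat.cast_one, one_mul]) (b ▸ (isGen_sum _ _ fun i _ => h.cycFam.isGen i 1).sub c.isGen_mu0))
    fun φ x => ?_, by rw [b, sub_sub_cancel]⟩
  obtain ⟨x1, x2, -⟩ := SF_facts h c.p1 x
  have k := (dade_A0 h.max).classInner_dade' (c.irr.isClassFunction.sub x2.isClassFunction) c.cf_mu0 c.supp_mu0'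
  have k2 : classInner (tau M (ζ - φ)) (ν ζ) = -classInner (ζ - φ) (h.μR 1 - ζ) := by
    rw [b, classInner_sub_right, k, classInner_sum_right]
    simp only [c.orth_sub x1 x2 (e φ x)]; simp
  rw [a.sub (e φ x)] at k2
  simp only [classInner_sub_left, classInner_sub_right, classInner_self_nrm, n1, c.irr.nrm_eq,
    classInner_eq_zero_comm.1 (h.inner_muR c.mem c.irr 1), classInner_eq_zero_comm.1 (h.inner_muR x1 x2 1)] at k2
  linear_combination -k2

/-- (11.8.2), (11.8.3), (11.8.5) -/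
theorem C345.tau_alpha11 (c : C345 h d n δ ζ) (hj : j ≠ 1) (hζ : ζ ∈ SD M F[M])
    (hν : CohWith (SD M F[M]) (tau M) ν) (e : tau M (h.μR 1 - ζ) = ∑ k, h.η k 1 - ν ζ) (i) :
    tau M (alpha h n δ ζ i j) = (δ : ℂ) • (h.η i j - h.η i 1) - (n : ℂ) • ν ζ := by
  obtain ⟨rfl, cN⟩ := c.const11
  have sub : SD M F[M] ⊆ SD0 M := fun φ x => (SF_facts h c.p1 x).1
  have irr : ∀ φ ∈ SD M F[M], IsIrrCharacter M φ := fun φ x => (SF_facts h c.p1 x).2.1
  have z3 := conjFun_mem_inducedIrrAbove hζ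
  have o : ∀ φ ∈ SD M F[M], ∀ i j, classInner (h.η i j) (ν φ) = 0 := fun φ x i j => classInner_eq_zero_comm.1
    (C345.orth_eta h c.p1 sub hν x (conjFun_mem_inducedIrrAbove x) (irr φ x) i j)
  have hk : j⁻¹ ≠ 1 := mt hom_inv_eq_one.1 hj
  refine c.tau_alpha_of hj hν hζ z3 ?_
  have e1 : tau M (alpha h n 1 ζ i j) = tau M (alpha h n 1 ζ 1 j) + (h.η i j - h.η 1 j - h.η i 1 + h.η 1 1) := by
    rw [← (h.pdD c.p1).dade_sub2, ← map_add, c.sgn j hj]
    congr 1; simp only [alpha]; module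
  rw [e1, classInner_add_left]
  simp only [classInner_add_left, classInner_sub_left, o _ z3, sub_zero, add_zero]
  have gA := c.isGen_alpha (i := 1) hj
  have e2 : conjFun (tau M (alpha h n 1 ζ 1 j)) = tau M (alpha h n 1 ζ 1 j) + (h.η 1 j⁻¹ - h.η 1 j) +
      (n : ℂ) • (ν ζ - ν (conjFun ζ)) := by
    have := (h.pdD c.p1).dade_sub (i := 1) hk hj ((c.deg _ _ hk).trans (c.deg _ _ hj).symm)
    rw [c.sgn _ hk, Int.cast_one, one_smul] at this
    rw [← this, ← hν.agree.sub (c.one.trans c.conjF.one.symm), ← dade_conj, ← map_smul, ← map_add, ← map_add]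
    congr 1
    simp only [alpha, conjFun_sub, conjFun_smul, h.primeFam.conjFun_mu, hom_inv_one, map_natCast, map_intCast]
    module
  have nA := c.nrm_alpha (i := 1) hj
  have i0 := c.inner_tau (i := 1) hj c.cf_mu0
  have i1 : classInner (tau M (alpha h n 1 ζ 1 j)) (h.η 1 1) = -1 := by
    rw [h.cycFam.one, (dade_A0 h.max).classInner_dade_one c.cf (c.supp_alpha hj), ← h.primeFam.one_one]
    simp [alpha, classInner_sub_left, classInner_smul_left, h.primeFam.inner, hj,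
      classInner_eq_zero_comm.1 (h.inner_mu c.mem c.irr 1 1)]
  have i2 := fun φ x => c.inner_nu (i := 1) hj hν.agree (sub x) (irr φ x) (c.one.trans (SF_facts h c.p1 x).2.2.symm)
  have br := fun X Y => c.bridge (i := 1) (X := X) (Y := Y) hj sub (fun _ => conjFun_mem_inducedIrrAbove) irr hν
  generalize tau M (alpha h n 1 ζ 1 j) = A at *
  obtain ⟨a, ha⟩ := gA.classInner_int (hν.gen _ z3)
  choose b hb using fun r => gA.classInner_int (h.cycFam.isGen r 1)
  have i3 : classInner A (ν ζ) = a - n := by rw [← ha, i2 _ z3 (conj_ne c.mem).symm, add_sub_cancel_right]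
  have i4 : a = ∑ r, b r + 1 := by
    rw [e, classInner_sub_right, classInner_sub_right, i3, classInner_sum_right, c.inner_muR,
      c.inner_irr c.mem c.irr] at i0
    simp only [hb, hj, if_true, if_false] at i0
    have : (a : ℂ) = ∑ r, (b r : ℂ) + 1 := by push_cast at i0; linear_combination -i0
    exact_mod_cast this
  have i5 : Even a := by
    have b1 : b 1 = -1 := by have := hb 1; rw [i1] at this; exact_mod_cast this.symm
    have := sum_inv_parity (mso_odd W₁) (m := b) fun r => by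
      have := classInner_conjFun_right A (h.η r 1)
      rw [h.cycFam.conjFun_eta, hom_inv_one, hb, e2, classInner_add_right, classInner_add_right,
        (h.cycFam.isGen r 1).classInner_comm gA, hb] at this
      simpa [classInner_sub_right, classInner_smul_right, o _ hζ, o _ z3, h.cycFam.inner, hj.symm, hk.symm] using this
    rwa [b1, sub_neg_eq_add, ← i4] at this
  set T := seqInd (⁅M, M⁆ ⇂ M) (F[M] ⇂ M)
  have ip : ∀ φ ∈ SD M F[M], classInner (∑ ψ ∈ T, ν ψ) (ν φ) = 1 := fun φ x => by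
    rw [classInner_sum_left, Finset.sum_eq_single_of_mem φ (mem_seqInd.2 x) fun ψ y z => ?_, hν.inner _ x _ x,
      (irr φ x).classInner_self]
    rw [hν.inner _ (mem_seqInd.1 y) _ x, orth_of_mem_inducedIrrAbove (mem_seqInd.1 y) x z]
  set Y := (a : ℂ) • ∑ ψ ∈ T, ν ψ - (n : ℂ) • ν ζ with hY
  have oX : ∀ φ ∈ SD M F[M], classInner (A - Y) (ν φ) = 0 := fun φ x => by
    rw [hY, classInner_sub_left, classInner_sub_left, classInner_smul_left, classInner_smul_left, ip φ x,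
      hν.inner _ hζ _ x, c.irr.classInner_eq (irr φ x)]
    split_ifs with y
    · rw [← y, i3]; ring
    · rw [i2 φ x y, i3]; ring
  have nY : nrm Y = n ^ 2 + n * (a * (a - 2)) := by
    rw [hY, nrm_sub, nrm_intCast_smul, nrm_natCast_smul, classInner_smul_left, classInner_smul_right, ip _ hζ,
      hν.nrm_eq hζ, c.irr.nrm_eq, nrm_def, classInner_sum_right,
      Finset.sum_congr rfl fun φ x => ip φ (mem_seqInd.1 x), Finset.sum_const, cN]
    simp; ring
  have sY : Y ∈ Submodule.span ℤ (ν '' SD M F[M]) := sub_mem (intCast_smul_mem_span (Submodule.sum_mem _ fun φ x =>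
    Submodule.subset_span (Set.mem_image_of_mem _ (mem_seqInd.1 x))) a)
    (natCast_smul_mem_span (Submodule.subset_span (Set.mem_image_of_mem _ hζ)) n)
  have oY : ∀ γ : G → ℂ, (∀ φ ∈ SD M F[M], classInner γ (ν φ) = 0) → classInner Y γ = 0 := fun γ a =>
    orth_span_of (by rintro _ ⟨φ, b, rfl⟩; exact classInner_eq_zero_comm.1 (a φ b)) (mem_span_complex_of_int sY)
  have a0 : a * (a - 2) = 0 := by
    rw [← sub_add_cancel A Y, nrm_add_of_orth (classInner_eq_zero_comm.1 (oY _ oX)), nY] at nA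
    have : (n : ℝ) * (a * (a - 2)) ≤ 2 := by linarith [nrm_nonneg (A - Y)]
    have h1 : (n : ℤ) * (a * (a - 2)) ≤ 2 := by exact_mod_cast this
    have h2 : (2 : ℤ) ≤ n := by exact_mod_cast c.two_le
    obtain ⟨r, rfl⟩ := i5
    by_contra h3
    have : 2 ≤ r * (r - 1) := by
      have : r ≠ 0 ∧ r ≠ 1 := by constructor <;> rintro rfl <;> simp at h3
      rcases (by omega : r ≤ -1 ∨ 2 ≤ r) with h | h <;> nlinarith
    nlinarith
  have eX := br _ Y (sub_add_cancel A Y).symm sY oX (by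
    rw [nY, show (a : ℝ) * (a - 2) = 0 by exact_mod_cast a0, mul_zero, add_zero])
  rw [ha, i4]
  push_cast
  simp only [← hb]
  rw [sub_eq_iff_eq_add.1 eX]
  simp [classInner_add_left, classInner_sub_left, oY _ fun φ x => o φ x _ _, h.cycFam.inner, hj]

end

/-- (11.8); here `HC = F(M)` -/
theorem _root_.Cfsg.Agent.BG.PD.not_orth (h : PD M U W₁ W₂) (h1 : TypeP1 M) {ζ : M → ℂ}
    (hζ : ζ ∈ SD M F[M]) :
    ¬ ∀ i j, classInner (tau M (h.μR 1 - ζ) - ∑ k, h.η k 1) (h.η i j) = 0 := by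
  intro ho
  obtain ⟨d, n, δ, c⟩ := exists_c345' h h1 hζ
  obtain ⟨ν, hν, e⟩ := c.exists_nu hζ ho
  obtain ⟨ν₂, hν₂⟩ := coh_S9 h
  obtain ⟨R, hR, -⟩ := (h.pdD h1).exists_subCoh (mso_odd M)
  rw [indD_eq] at hR
  have sub : SD M F[M] ⊆ SD0 M := fun φ x => (SF_facts h h1 x).1
  have sub2 : S9 M (⊥ ⊔ U ⊓ C[MF[M]]) ⊆ SD0 M := indD_subset.trans (inducedIrrAbove_anti bot_le)
  have mu : ∀ j, j ≠ 1 → ν (h.μR j) = (δ : ℂ) • ∑ i, h.η i j := fun j hj => by
    have := c.tau_sum hj hν.agree (c.tau_alpha11 hj hζ hν e)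
    rwa [e, sub_self, smul_zero, sub_eq_zero] at this
  have o := C345.orth_eta h h1 sub hν hζ (conjFun_mem_inducedIrrAbove hζ) c.irr
  have o2 : ∀ φ ∈ S9 M (⊥ ⊔ U ⊓ C[MF[M]]), φ ∉ SD M F[M] → classInner (ν ζ) (ν₂ φ) = 0 := fun φ a b =>
    hR.orth_of_disjoint sub sub2 (fun _ => conjFun_mem_inducedIrrAbove) (fun _ => conjFun_mem_indD) hν hν₂ hζ a b
  have key : ∀ φ ∈ S9 M (⊥ ⊔ U ⊓ C[MF[M]]), φ ∉ SD M F[M] →
      IsGeneralizedCharacter G (ν φ) ∧ classInner (ν φ) (ν ζ) = 0 := fun φ a b => by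
    rcases h.pdF.cases_indD a with ⟨j, hj, rfl⟩ | ⟨f, -⟩
    · rw [show ν (muR h.μ j) = _ from mu j hj]
      refine ⟨(isGen_sum _ _ fun i _ => h.cycFam.isGen i j).intCast_smul δ, ?_⟩
      rw [classInner_eq_zero_comm, classInner_smul_right, classInner_sum_right]; simp [o]
    obtain ⟨k, hk⟩ := h.exists_ne_one₂
    have k1 := (indHC_p9 h hk).mem
    suffices ν = ν₂ from ⟨this ▸ hν₂.gen φ a, classInner_eq_zero_comm.1 (by nth_rw 2 [this]; exact o2 φ a b)⟩
    rcases h.pdF.cohWith_muR (mso_odd M) indD_subset_bot (fun _ => conjFun_mem_indD) hν₂ a f k1 with x | ⟨x, -⟩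
    · exact hν.agree.ext hν₂.agree (hR.one_ne_zero (sub2 k1)) (by rw [mu k hk, ← c.sgn k hk]; exact x.symm)
    exfalso
    have m := fun ψ (a : ψ ∈ SD0 M) => Submodule.subset_span (R := ℂ) a
    have y := hR.inner0 (Agree.refl _) (sub_mem (m _ (sub2 k1)) (Submodule.smul_mem _ (d : ℂ) (m _ c.mem)))
      (sub_mem (Submodule.smul_mem _ (φ 1) (m _ (sub2 k1))) (Submodule.smul_mem _ (h.μR k 1) (m _ (sub2 a))))
      (sub_eq_zero.2 (c.muR_one hk)) (by simp [mul_comm])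
    have o3 := fun i j => classInner_eq_zero_comm.1 (C345.orth_eta h h1 sub2 hν₂ a (conjFun_mem_indD a) f i j)
    rw [hν.agree.sub_smul (c.muR_one hk), ← hν₂.agree _ (by simp [mul_comm]), _root_.map_sub, map_smul, map_smul,
      mu k hk, show ν₂ (h.μR k) = _ from x] at y
    have z : ζ ≠ φ := fun z => b (z ▸ hζ)
    simp [classInner_sub_left, classInner_sub_right, classInner_smul_left, classInner_smul_right, classInner_neg_right,
      classInner_sum_left, classInner_sum_right, o, o2 φ a b, o3, h.cycFam.inner, (hom_inv_ne_self (mso_odd W₂) hk).symm,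
      h.primeFam.inner_muR, h.inner_muR (sub2 a) f, classInner_eq_zero_comm.1 (h.inner_muR c.mem c.irr k),
      c.irr.classInner_of_ne f z, f.one_ne_zero] at y
  refine h.p9.not_coh h1 ⟨ν, (hR.cohWith_union sub sub2 hν hζ (fun φ a b => (key φ a b).1)
    fun φ a b => (key φ a b).2).mono fun φ a => ?_⟩
  have l : ⊥ ⊔ U ⊓ C[MF[M]] ≤ ⁅M, M⁆ := sup_le bot_le (inf_le_left.trans h.sd.right)
  have := mem_above_sup (sub_mono h.sd.left) (sub_mono l) a
  rwa [← sub_sup (h.sd.left.trans (der_le M)) (l.trans (der_le M)), ← sup_assoc, sup_bot_eq, h.F_dp.sup] at this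

/-- (11.9.a), (11.9.b) -/
theorem bridge0_aux (h : PD M U W₁ W₂) (h1 : TypeP1 M) {ζ : M → ℂ} (hζ : ζ ∈ SD M F[M]) :
    (∀ i j, classInner (tau M (h.μR 1 - ζ)) (h.η i j) = if i = 1 then 1 else 0) ∧ #W₂ < #W₁ := by
  obtain ⟨d, n, δ, c⟩ := exists_c345' h h1 hζ
  have gal : ∀ (u : ℂ →+* ℂ) i j, classInner (tau M (h.μR 1 - ζ)) (h.η (homMap u i) (homMap u j)) =
      classInner (tau M (h.μR 1 - ζ)) (h.η i j) := fun u i j => by
    have e : (fun x => u ((h.μR 1 - ζ) x)) = h.μR 1 - ζ + (ζ - fun x => u (ζ x)) := by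
      ext x
      have := h.primeFam.map_muR u 1 x
      rw [homMap_one] at this
      simp only [Pi.add_apply, Pi.sub_apply, _root_.map_sub, ← this, sub_add_sub_cancel]
    rw [← classInner_map_ringHom c.isGen_mu0 (h.cycFam.isGen i j) u, ← dade_map _ u (map_zero u), e, map_add,
      classInner_add_left, ← funext (h.cycFam.map_eta u i j), c.orth_sub (map_mem_inducedIrrAbove u c.mem)
        (c.irr.map_ringHom u) (by simp [c.one]), add_zero]
  have ex := h.cycFam.exchange c.isGen_mu0.isClassFunction c.mu0_V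
  have one := c.mu0_one
  have bs := h.cycFam.bessel (tau M (h.μR 1 - ζ)) Finset.univ
  have no := h.not_orth h1 hζ
  have gn := c.isGen_mu0
  rw [c.nrm_mu0] at bs
  generalize tau M (h.μR 1 - ζ) = ψ at *
  obtain ⟨i₀, hi⟩ := h.exists_ne_one₁
  obtain ⟨j₀, hj⟩ := h.exists_ne_one₂
  obtain ⟨x, hx⟩ := gn.classInner_int (h.cycFam.isGen i₀ 1)
  obtain ⟨y, hy⟩ := gn.classInner_int (h.cycFam.isGen 1 j₀)
  have a1 : ∀ i, classInner ψ (h.η i 1) = if i = 1 then 1 else (x : ℂ) := fun i => by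
    split_ifs with e
    · rw [e, one]
    · obtain ⟨u, rfl⟩ := exists_homMap_eq h.prime1 hi e
      rw [← hx, ← gal u i₀, homMap_one]
  have a2 : ∀ j, classInner ψ (h.η 1 j) = if j = 1 then 1 else (y : ℂ) := fun j => by
    split_ifs with e
    · rw [e, one]
    · obtain ⟨u, rfl⟩ := exists_homMap_eq h.prime2 hj e
      rw [← hy, ← gal u 1 j₀, homMap_one]
  have a3 : ∀ i j, classInner ψ (h.η i j) = (if i = 1 then 1 else (x : ℂ)) + (if j = 1 then 1 else (y : ℂ)) - 1 :=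
    fun i j => by rw [← a1, ← a2, ← ex i j 1 1, one, add_sub_cancel_right]
  have a4 : ∀ i j, ‖classInner ψ (h.η i j)‖ ^ 2 = if i = 1 then (if j = 1 then 1 else (y : ℝ) ^ 2) else
      (if j = 1 then (x : ℝ) ^ 2 else (x + y - 1) ^ 2) := fun i j => by
    rw [a3]
    split_ifs
    · simp
    · simp
    · simp
    · rw [← sq_abs (_ - 1 : ℝ)]; norm_cast
  rw [← Finset.univ_product_univ, Finset.sum_product] at bs
  simp only [a4, Finset.sum_ite_irrel, sum_ite_eq_add, h.cycTI.card_hom₁, h.cycTI.card_hom₂] at bs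
  have bs' : (1 : ℤ) + (#W₂ - 1) * y ^ 2 + (#W₁ - 1) * (x ^ 2 + (#W₂ - 1) * (x + y - 1) ^ 2) ≤ #W₁ + 1 := by
    exact_mod_cast bs
  have w1 : (3 : ℤ) ≤ #W₁ := by exact_mod_cast h.three_le₁
  have w2 : (3 : ℤ) ≤ #W₂ := by exact_mod_cast h.three_le₂
  have sq : ∀ t : ℤ, t = 0 ∨ 1 ≤ t ^ 2 := fun t => (em _).imp_right fun e => sq_pos_of_ne_zero e
  have b1 : 0 ≤ (#W₂ - 1 : ℤ) * y ^ 2 := mul_nonneg (by omega) (sq_nonneg _)
  have b2 : x ^ 2 + (#W₂ - 1 : ℤ) * (x + y - 1) ^ 2 ≤ 1 := by by_contra; nlinarith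
  have b3 : x + y - 1 = 0 := (sq _).resolve_right fun e => by nlinarith [sq_nonneg x]
  rw [b3] at b2 bs'
  obtain rfl : x = 0 := (sq _).resolve_right fun e => no fun i j => by
    obtain rfl : y = 0 := (sq _).resolve_right fun e => by nlinarith
    obtain rfl : x = 1 := by omega
    rw [classInner_sub_left, a3, classInner_sum_left]
    by_cases e : j = 1 <;> simp [h.cycFam.inner, e, eq_comm]
  obtain rfl : y = 1 := by omega
  refine ⟨fun i j => by rw [a3]; simp, ?_⟩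
  obtain ⟨s, hs⟩ := mso_odd W₁
  obtain ⟨t, ht⟩ := mso_odd W₂
  have := h.card_ne
  omega

/-- (11.9.a) -/
theorem _root_.Cfsg.Agent.BG.PD.inner_bridge0 (h : PD M U W₁ W₂) (h1 : TypeP1 M) {ζ : M → ℂ}
    (hζ : ζ ∈ SD M F[M]) (i j) :
    classInner (tau M (h.μR 1 - ζ)) (h.η i j) = if i = 1 then 1 else 0 := by
  exact (bridge0_aux h h1 hζ).1 i j

theorem exists_SF (h : PD M U W₁ W₂) (h1 : TypeP1 M) : ∃ ζ, ζ ∈ SD M F[M] := by
  rw [F_eq_der2 h h1]
  exact (exists_mem_inducedIrrAbove_of_not_le h.der_not_le).imp fun _ a => a.1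

/-- (11.9.b) -/
theorem _root_.Cfsg.Agent.BG.PD.lt_of_p1 (h : PD M U W₁ W₂) (h1 : TypeP1 M) : #W₂ < #W₁ := by
  exact (exists_SF h h1).elim fun _ a => (bridge0_aux h h1 a).2

/-- (11.9.c) -/
theorem _root_.Cfsg.Agent.BG.PD.galois_of_p1 (h : PD M U W₁ W₂) (h1 : TypeP1 M) :
    Galois M U ⊥ ∧ Cyc U := by
  have k := h.p9
  have eC := k.C_eq_der h1
  suffices g : Galois M U ⊥ by
    obtain ⟨b, b1, b2⟩ := (cyc_quo_iff (der_le U) (der_norm U)).1 (eC ▸ (k.galois_facts g).1)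
    exact ⟨g, h.nil.eq_of_sup_der (zpowers_le.2 b1) (by rw [sup_comm, b2]) ▸ cyc_zpowers b⟩
  by_contra g
  obtain ⟨H₁, U₁, a, ng⟩ := k.exists_nonGal g
  obtain ⟨a1, a2, a3, -⟩ := k.nonGal_facts ng
  obtain ⟨l, l1, l2, l3⟩ := k.nonGal_exists ng
  rw [← eC] at l1
  obtain ⟨b, hb⟩ : a ∣ (U ⊓ C[MF[M]]).relIndex U := ng.idxU ▸ relIndex_dvd_left a3 U
  obtain ⟨ζ, hζ⟩ := exists_SF h h1
  obtain ⟨d, n, δ, c⟩ := exists_c345' h h1 hζ
  obtain ⟨ν, hν⟩ := coh_S9 h
  obtain ⟨j, hj⟩ := h.exists_ne_one₂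
  obtain ⟨j1, j2, -⟩ := indHC_p9 h hj
  have sub2 : S9 M (⊥ ⊔ U ⊓ C[MF[M]]) ⊆ SD0 M := indD_subset.trans (inducedIrrAbove_anti bot_le)
  have e : h.μR j 1 = b * l 1 := by rw [j1, l3, hb]; push_cast; ring
  have y := (dade_A0 h.max).classInner_dade c.cf_mu0 ((h.primeFam.isCharacter_muR j).isClassFunction.sub
    (l2.isClassFunction.smul b)) c.supp_mu0'
  have z : ζ ≠ l := fun z => by
    rw [← z, c.one, Nat.cast_inj] at l3
    have := card_pos W₁
    nlinarith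
  obtain ⟨m, hm⟩ := c.isGen_mu0.classInner_int (hν.gen _ l1)
  have y1 : classInner (tau M (h.μR 1 - ζ)) (ν (h.μR j)) = b * m := by
    change classInner (tau M _) (tau M _) = _ at y
    rw [hν.agree.sub_smul e, classInner_sub_right, classInner_smul_right, hm] at y
    simpa [classInner_sub_left, classInner_sub_right, classInner_smul_right, h.primeFam.inner_muR, hj.symm,
      h.inner_muR (sub2 l1) l2, classInner_eq_zero_comm.1 (h.inner_muR c.mem c.irr j), c.irr.classInner_of_ne l2 z,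
      sub_eq_zero] using y
  have y2 : (b : ℤ) ∣ h.δ j := by
    rcases h.pdF.cohWith_muR (mso_odd M) indD_subset_bot (fun _ => conjFun_mem_indD) hν l1 l2 j2 with x | ⟨x, -⟩ <;>
      rw [show ν (h.μR j) = _ from x] at y1 <;>
      simp only [classInner_neg_right, classInner_smul_right, classInner_sum_right, h.inner_bridge0 h1 hζ,
        Finset.sum_ite_eq', Finset.mem_univ, if_true, map_intCast, mul_one] at y1
    · exact ⟨m, by exact_mod_cast y1⟩
    · exact dvd_neg.1 ⟨m, by exact_mod_cast y1⟩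
  obtain rfl : b = 1 := by
    rcases h.primeFam.sign j with s | s <;> rw [s] at y2
    · exact_mod_cast Int.eq_one_of_dvd_one (by omega) y2
    · exact_mod_cast Int.eq_one_of_dvd_one (by omega) (dvd_neg.1 y2)
  have u := k.u_mod
  rw [hb, mul_one] at u
  have := le_of_modEq_one u a1
  have := Nat.le_of_dvd (by have := h.three_le₂; omega) a2
  have := h.lt_of_p1 h1
  omega

end Cfsg.Agent.PF
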