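import Cfsg.Agent.PF.Base

/-! Peterfalvi, section 12 (12.1 - 12.6): characters of maximal subgroups of type I. -/

set_option autoImplicit false
set_option linter.unusedSectionVars false

namespace Cfsg.Agent.PF

open Cfsg Cfsg.Agent.Char Cfsg.Agent.BG Subgroup
open scoped ComplexConjugate

section General

variable {L G : Type*} [Group L] [Fintype L] [Group G] [Fintype G]

/-- a subcoherent system of irreducible characters induces one on sums of its members -/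
theorem subCoh_of_sum {X S : Set (L → ℂ)} {τ : CMap L G} {R : (L → ℂ) → Finset (G → ℂ)}
    (hX : SubCoh X τ R) (hi : ∀ φ ∈ X, IsIrrCharacter L φ) (hS : DegIso S τ)
    (h1 : ∀ χ ∈ S, conjFun χ ∈ S) (h2 : ∀ χ ∈ S, conjFun χ ≠ χ)
    (hC : ∀ χ ∈ S, ∃ C : Finset (L → ℂ), ↑C ⊆ X ∧ χ = ∑ φ ∈ C, φ) :
    ∃ R', SubCoh S τ R' ∧ ∀ χ ∈ S, ∀ α ∈ R' χ, ∃ φ ∈ X, α ∈ R φ := by
  classical
  choose! C hC1 hC2 using hC
  have a : ∀ χ ∈ S, ∀ φ ∈ C χ, classInner χ φ ≠ 0 := fun χ hχ φ hφ => by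
    have o : Orthon (C χ) := orthon_of (fun α hα => (hi α (hC1 χ hχ hα)).classInner_self)
      fun α hα β hβ => (hi α (hC1 χ hχ hα)).classInner_of_ne (hi β (hC1 χ hχ hβ))
    have := o.classInner_sum_sum (Finset.singleton_subset_iff.2 hφ)
    rw [← hC2 χ hχ, Finset.sum_singleton] at this
    simp [this]
  have b : ∀ χ ∈ S, ∀ ψ ∈ S, ∀ φ ∈ C χ, φ ∈ C ψ → χ = ψ := fun χ hχ ψ hψ φ a1 a2 => by
    by_contra ne
    exact classInner_ne_zero_of_common (hS.char χ hχ) (hS.char ψ hψ) (hi φ (hC1 χ hχ a1)) (a χ hχ φ a1)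
      (a ψ hψ φ a2) (hS.orth χ hχ ψ hψ ne)
  have c : ∀ χ ∈ S, ∀ ψ ∈ S, ∀ φ ∈ C χ, conjFun φ ∈ C ψ → ψ = conjFun χ := fun χ hχ ψ hψ φ a1 a2 => by
    by_contra ne
    refine classInner_ne_zero_of_common (hS.char ψ hψ) (hS.char _ (h1 χ hχ)) (hi φ (hC1 χ hχ a1)).conjF
      (a ψ hψ _ a2) ?_ (hS.orth ψ hψ _ (h1 χ hχ) ne)
    rw [classInner_conjFun, ne_eq, classInner_eq_zero_comm]; exact a χ hχ φ a1
  have d : ∀ χ ∈ S, ∀ φ ∈ C χ, ∀ φ' ∈ C χ, φ ≠ φ' → ∀ α ∈ R φ, ∀ β ∈ R φ', classInner α β = 0 :=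
    fun χ hχ φ a1 φ' a2 ne => hX.disj φ' (hC1 χ hχ a2) φ (hC1 χ hχ a1) ne
      fun e => h2 χ hχ (c χ hχ χ hχ φ' a2 (e ▸ a1)).symm
  refine ⟨fun χ => (C χ).biUnion R, ⟨hS, h1, h2, fun χ hχ => orthon_of ?_ ?_, fun χ hχ α hα => ?_,
    fun χ hχ => ?_, fun χ hχ ψ hψ n1 n2 α hα β hβ => ?_⟩, fun χ hχ α hα => ?_⟩
  · intro α hα
    obtain ⟨φ, a1, a2⟩ := Finset.mem_biUnion.1 hα
    exact (hX.orthon φ (hC1 χ hχ a1)).self a2
  · intro α hα β hβ ne
    obtain ⟨φ, a1, a2⟩ := Finset.mem_biUnion.1 hα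
    obtain ⟨φ', a3, a4⟩ := Finset.mem_biUnion.1 hβ
    by_cases e : φ = φ'
    · exact (hX.orthon φ (hC1 χ hχ a1)).orth α a2 β (e ▸ a4) ne
    · exact d χ hχ φ a1 φ' a3 e α a2 β a4
  · obtain ⟨φ, a1, a2⟩ := Finset.mem_biUnion.1 hα
    exact hX.gen φ (hC1 χ hχ a1) α a2
  · rw [Finset.sum_biUnion fun φ a1 φ' a2 ne => Finset.disjoint_left.2 fun α a3 a4 => by
      have := d χ hχ φ a1 φ' a2 ne α a3 α a4
      rw [(hX.orthon φ (hC1 χ hχ a1)).self a3] at this; exact one_ne_zero this]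
    conv_lhs => rw [hC2 χ hχ, conjFun_sum, ← Finset.sum_sub_distrib, map_sum]
    exact Finset.sum_congr rfl fun φ a1 => hX.sum_eq φ (hC1 χ hχ a1)
  · obtain ⟨φ, a1, a2⟩ := Finset.mem_biUnion.1 hα
    obtain ⟨φ', a3, a4⟩ := Finset.mem_biUnion.1 hβ
    exact hX.disj φ' (hC1 χ hχ a3) φ (hC1 ψ hψ a1) (fun e => n1 (b ψ hψ χ hχ φ a1 (e ▸ a3)))
      (fun e => n2 (c χ hχ ψ hψ φ' a3 (e ▸ a1))) α a2 β a4
  · obtain ⟨φ, a1, a2⟩ := Finset.mem_biUnion.1 hα
    exact ⟨φ, hC1 χ hχ a1, a2⟩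

omit [Fintype L] in
theorem exists_hom_ne_one_of_notMem [Finite L] {x : L} (hx : x ∉ commutator L) :
    ∃ l : L →* ℂˣ, l x ≠ 1 := by
  obtain ⟨l, hl⟩ := exists_hom_apply_ne_one (G := Abelianization L) mul_comm (g := Abelianization.of x)
    fun e => hx (by rwa [← Abelianization.ker_of])
  exact ⟨l.comp Abelianization.of, hl⟩

/-- a class function whose nonprincipal coefficients only depend on the degree is constant outside
the commutator subgroup -/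
theorem const_of_inner_deg {f : L → ℂ} (hf : IsClassFunction L f)
    (h : ∀ θ φ, IsIrrCharacter L θ → IsIrrCharacter L φ → θ ≠ (fun _ => 1) → φ ≠ (fun _ => 1) →
      θ 1 = φ 1 → classInner f θ = classInner f φ) {x y : L} (hx : x ∉ commutator L)
    (hy : y ∉ commutator L) : f x = f y := by
  classical
  obtain ⟨l₀, hl₀⟩ := exists_hom_ne_one_of_notMem hx
  have n0 : (fun g => (l₀ g : ℂ)) ≠ fun _ => 1 := fun e => hl₀ (Units.ext (congrFun e x))
  obtain ⟨c, hc⟩ : ∃ c, c = classInner f (fun _ => 1) - classInner f fun g => (l₀ g : ℂ) := ⟨_, rfl⟩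
  have cf : IsClassFunction L (f - c • fun _ => 1) := hf.sub ((isClassFunction_const 1).smul c)
  have k : ∀ θ, IsIrrCharacter L θ → classInner (f - c • fun _ => 1) θ =
      if θ = fun _ => 1 then classInner f fun g => (l₀ g : ℂ) else classInner f θ := fun θ hθ => by
    rw [classInner_sub_left, classInner_smul_left, isIrrCharacter_one.classInner_eq hθ]
    by_cases e : θ = fun _ => 1
    · subst e; simp [hc]
    · simp [e, Ne.symm e]
  have k2 : ∀ θ φ, IsIrrCharacter L θ → IsIrrCharacter L φ → θ 1 = φ 1 →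
      classInner (f - c • fun _ => 1) θ = classInner (f - c • fun _ => 1) φ := fun θ φ hθ hφ e => by
    rw [k θ hθ, k φ hφ]
    split_ifs with a b b
    · rfl
    · exact h _ _ (isIrrCharacter_hom l₀) hφ n0 b (by rw [← e, a]; simp)
    · exact h _ _ hθ (isIrrCharacter_hom l₀) a n0 (by rw [e, b]; simp)
    · exact h _ _ hθ hφ a b e
  have key : ∀ z, z ∉ commutator L → f z = c := fun z hz => by
    obtain ⟨l, hl⟩ := exists_hom_ne_one_of_notMem hz
    have : (f - c • fun _ => 1) * (fun g => (l g : ℂ)) = f - c • fun _ => 1 :=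
      (cf.mul (isCharacter_hom l).isClassFunction).ext_irr cf fun θ hθ => by
        rw [classInner_mul_left]
        exact k2 _ _ (hθ.mul_linear (isCharacter_hom l).conj (by simp)) hθ (by simp)
    have := congrFun this z
    simp only [Pi.mul_apply, Pi.sub_apply, Pi.smul_apply, smul_eq_mul, mul_one] at this
    have := (mul_right_eq_self₀.1 this).resolve_left fun e => hl (Units.ext e)
    exact sub_eq_zero.1 this
  rw [key x hx, key y hy]

/-- a class function whose coefficients only depend on the restriction to `K` is constant on the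
nontrivial cosets of `K` -/
theorem const_of_inner_res {K : Subgroup L} [K.Normal] {f : L → ℂ} (hf : IsClassFunction L f)
    (hC : ∀ θ : K → ℂ, IsIrrCharacter K θ → θ ≠ (fun _ => 1) → ∃ C : Finset (L → ℂ),
      (∀ χ, χ ∈ C ↔ IsIrrCharacter L χ ∧ classInner (fun n : K => χ n) θ ≠ 0) ∧
      (∀ χ ∈ C, classInner (fun n : K => χ n) θ = 1) ∧ indFun K θ = ∑ χ ∈ C, χ)
    (h : ∀ φ ψ, IsIrrCharacter L φ → IsIrrCharacter L ψ → (∃ k ∈ K, φ k ≠ φ 1) →
      (∀ k ∈ K, ψ k = φ k) → classInner f ψ = classInner f φ) {x y : L} (hx : x ∉ K) (hy : y ∈ K) :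
    f (x * y) = f x := by
  classical
  have e : ∀ z, f z = ∑ φ ∈ irrSet L (fun _ => True), classInner f φ * φ z := fun z => by
    rw [sum_irrSet, hf.apply_eq_sum_irr]; simp
  rw [← sub_eq_zero, e (x * y), e x, ← Finset.sum_sub_distrib, ← Finset.sum_fiberwise_of_maps_to
    (g := fun φ (n : K) => φ n) (t := (irrSet L fun _ => True).image fun φ (n : K) => φ n)
    fun φ hφ => Finset.mem_image_of_mem _ hφ]
  refine Finset.sum_eq_zero fun r hr => ?_
  obtain ⟨φ, hφ, rfl⟩ := Finset.mem_image.1 hr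
  have hφ := (mem_irrSet.1 hφ).1
  by_cases hk : ∀ k ∈ K, φ k = φ 1
  · refine Finset.sum_eq_zero fun ψ hψ => ?_
    obtain ⟨a, b⟩ := Finset.mem_filter.1 hψ
    rw [(mem_irrSet.1 a).1.isCharacter.apply_mul_of_eq_one' (g := y) (by
      rw [congrFun b ⟨y, hy⟩, hk y hy]; exact (congrFun b 1).symm), sub_self]
  obtain ⟨θ, hθ, h1⟩ := hφ.exists_restrict_constituent (N := K)
  obtain ⟨C, c1, c2, c3⟩ := hC θ hθ fun o => hk fun k => hφ.apply_eq_of_classInner_one K (o ▸ h1)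
  have eC : (irrSet L fun _ => True).filter (fun ψ => (fun n : K => ψ n) = fun n : K => φ n) = C := by
    ext ψ
    rw [Finset.mem_filter, mem_irrSet, c1]
    refine ⟨fun ⟨a, b⟩ => ⟨a.1, b ▸ h1⟩, fun ⟨a, b⟩ => ⟨⟨a, trivial⟩, ?_⟩⟩
    rw [a.clifford hθ b, hφ.clifford hθ h1, c2 ψ ((c1 ψ).2 ⟨a, b⟩), c2 φ ((c1 φ).2 ⟨hφ, h1⟩)]
  push Not at hk
  rw [Finset.sum_congr rfl fun ψ hψ => by
    obtain ⟨a, b⟩ := Finset.mem_filter.1 hψ
    rw [h φ ψ hφ (mem_irrSet.1 a).1 hk fun k hk => congrFun b ⟨k, hk⟩], eC, Finset.sum_sub_distrib,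
    ← Finset.mul_sum, ← Finset.mul_sum, ← Finset.sum_apply, ← Finset.sum_apply, ← c3,
    indFun_eq_zero_of_normal K θ hx, indFun_eq_zero_of_normal K θ (by rwa [K.mul_mem_cancel_right hy]), sub_self]

end General

variable {G : Type*} [Group G] [Fintype G]

/-- the set `𝒮` of (12.1) -/
abbrev SF (L : Subgroup G) : Set (L → ℂ) := inducedIrrAbove (MF[L] ⇂ L) ⊥

/-- `ψ` is orthogonal to `R(χ)` for all `χ ∈ 𝒮` (12.2.b): it is orthogonal to the irreducible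
constituents of `(φ - φ̄)^τ` for all irreducible `φ` whose kernel does not contain `L_F`. -/
def OrthR (L : Subgroup G) (ψ : G → ℂ) : Prop :=
  ∀ φ, IsIrrCharacter L φ → (∃ x ∈ MF[L] ⇂ L, φ x ≠ φ 1) → ∀ α, IsIrrCharacter G α →
    classInner (tau L (φ - conjFun φ)) α ≠ 0 → classInner ψ α = 0

/-- the irreducible characters whose kernel does not contain `L_F` -/
def XF (L : Subgroup G) : Set (L → ℂ) := {φ | IsIrrCharacter L φ ∧ ∃ x ∈ MF[L] ⇂ L, φ x ≠ φ 1}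

theorem OrthR.orth_dirr {L : Subgroup G} {ψ β : G → ℂ} (h : OrthR L ψ) {φ : L → ℂ} (hφ : φ ∈ XF L)
    (hβ : IsDirr β) (h1 : classInner (tau L (φ - conjFun φ)) β ≠ 0) : classInner ψ β = 0 := by
  rcases hβ with a | a
  · exact h φ hφ.1 hφ.2 β a h1
  · have := h φ hφ.1 hφ.2 _ a (by rwa [classInner_neg_right, neg_ne_zero])
    rwa [classInner_neg_right, neg_eq_zero] at this

theorem ind_mem_SF {L : Subgroup G} {θ : MF[L] ⇂ L → ℂ} (h : IsIrrCharacter _ θ) (h1 : θ ≠ fun _ => 1) :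
    indFun _ θ ∈ SF L :=
  ⟨θ, h, h1, fun a b => congrArg θ (Subtype.ext (mem_bot.1 b)), rfl⟩

theorem conj_mem_XF {L : Subgroup G} {φ : L → ℂ} (h : φ ∈ XF L) : conjFun φ ∈ XF L :=
  let ⟨a, x, b, c⟩ := h; ⟨a.conjF, x, b, fun e => c ((starRingEnd ℂ).injective e)⟩

variable [hG : MSO G] {L M E : Subgroup G} {ψ : G → ℂ}

theorem conj_ne_XF {φ : L → ℂ} (h : φ ∈ XF L) : conjFun φ ≠ φ :=
  let ⟨a, _, _, c⟩ := h; a.conjF_ne_of_odd (mso_odd L) fun e => c (by rw [e])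

theorem MF_A1 (hL : TypeF L) {x : G} : x ∈ A1 L ↔ x ∈ MF[L] ∧ x ≠ 1 := by
  rw [mem_A1, MF_eq_of_notP1 (Or.inl hL)]

theorem A1_A0 (L : Subgroup G) : A1 L ⊆ A0 L := (A1_sub L).trans (AA_sub L)

/-- hypothesis (7.6) for a maximal subgroup of type I -/
theorem ind1F (hL : TypeF L) {ν : CMap L G} (hν : CohWith (SF L) (tau L) ν) :
    Ind1 (A1 L) L (supportR L) (MF[L] ⇂ L) ν := by
  rw [SF, MF_eq_of_notP1 (Or.inl hL)] at hν
  rw [MF_eq_of_notP1 (Or.inl hL)]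
  exact ind1 hL.max hν

theorem supp_SF (hL : TypeF L) {α : L → ℂ} (h1 : α 1 = 0) (h : ∀ x, x ∉ MF[L] ⇂ L → α x = 0) (x : L)
    (hx : (x : G) ∉ A1 L) : α x = 0 := by
  by_cases e : x = 1
  · exact e ▸ h1
  · exact h x fun i => hx ((MF_A1 hL).2 ⟨i, fun o => e (Subtype.ext o)⟩)

theorem supp_SF_sub (hL : TypeF L) {χ χ' : L → ℂ} (h : χ ∈ SF L) (h' : χ' ∈ SF L) (e : χ 1 = χ' 1)
    (x : L) (hx : (x : G) ∉ A1 L) : (χ - χ') x = 0 :=
  supp_SF hL (sub_eq_zero.2 e) (fun y hy => by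
    rw [Pi.sub_apply, apply_eq_zero_of_mem_inducedIrrAbove h hy,
      apply_eq_zero_of_mem_inducedIrrAbove h' hy, sub_self]) x hx

theorem degIso_SF (hL : TypeF L) : DegIso (SF L) (tau L) :=
  (dade_A0 hL.max).degIso (fun _ => isCharacter_of_mem_inducedIrrAbove)
    (fun _ => ne_zero_of_mem_inducedIrrAbove) (fun _ a _ b => orth_of_mem_inducedIrrAbove a b)
    fun _ a x b c => apply_eq_zero_of_mem_inducedIrrAbove a fun i =>
      c (A1_A0 L ((MF_A1 hL).2 ⟨i, fun o => b (Subtype.ext o)⟩))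

/-- (12.2.a) -/
theorem supp_XF (hL : TypeF L) {φ : L → ℂ} (h : φ ∈ XF L) (x : L) (h1 : x ≠ 1)
    (hx : (x : G) ∉ A0 L) : φ x = 0 :=
  h.1.eq_zero_of_centralizer_trivial _ h.2 fun n a b => by_contra fun c => hx (AA_sub L
    (hL.mem_AA.2 ⟨x.2, fun o => h1 (Subtype.ext o), n, a, fun o => c (Subtype.ext o),
      (congrArg Subtype.val b).symm⟩))

theorem degIso_XF (hL : TypeF L) : DegIso (XF L) (tau L) :=
  (dade_A0 hL.max).degIso (fun _ a => a.1.isCharacter) (fun _ a => a.1.ne_zero)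
    (fun _ a _ b => a.1.classInner_of_ne b.1) fun _ => supp_XF hL

/-- (12.2.a) -/
theorem exists_split_F (hL : TypeF L) {θ : MF[L] ⇂ L → ℂ} (hθ : IsIrrCharacter _ θ)
    (h1 : θ ≠ fun _ => 1) : ∃ C : Finset (L → ℂ),
      (∀ χ, χ ∈ C ↔ IsIrrCharacter L χ ∧ classInner (fun n : MF[L] ⇂ L => χ n) θ ≠ 0) ∧
      (∀ χ ∈ C, classInner (fun n : MF[L] ⇂ L => χ n) θ = 1) ∧ indFun _ θ = ∑ χ ∈ C, χ := by
  obtain ⟨U, hU⟩ := hL.exists_ofF
  obtain ⟨A, a1, -, a3, a4⟩ := hU.ab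
  have m : ∀ x ∈ inertia θ, (x : G) ∈ MF[L] ⊔ A := fun x hx => by
    obtain ⟨k, k1, u, u1, e⟩ := hU.sd.prod.ex x x.2
    have k2 : (⟨k, MF_le L k1⟩ : L) ∈ inertia θ := le_inertia hθ.isClassFunction k1
    have : (⟨u, hU.sd.right u1⟩ : L) ∈ inertia θ := by
      have := mul_mem (inv_mem k2) hx
      rwa [show (⟨k, MF_le L k1⟩ : L)⁻¹ * x = ⟨u, hU.sd.right u1⟩ from Subtype.ext (by simp [e])] at this
    exact e ▸ mul_mem_sup' k1 (inertia_le_of_typeF a4 hθ h1 this u1)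
  have n := (a1.trans hU.sd.right).trans (MF_norm L)
  obtain ⟨C, c1, c2, -, c3, -⟩ := indFun_eq_of_comm_inertia_coprime hθ (fun x hx y hy =>
    der_sup_le (der_le _) (abel_iff_der.1 a3 ▸ bot_le) (commL n) (normG _) n (comm_mem (m x hx) (m y hy)))
    (by rw [card_sub (MF_le L)]
        exact (MF_hall L).coprime.coprime_dvd_right (relIndex_dvd_index_of_normal _ _))
  exact ⟨C, c1, c2, c3⟩

theorem mem_XF_of {θ : MF[L] ⇂ L → ℂ} (hθ : IsIrrCharacter _ θ) (h1 : θ ≠ fun _ => 1) {φ : L → ℂ}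
    (hφ : IsIrrCharacter L φ) (h : classInner (fun n : MF[L] ⇂ L => φ n) θ ≠ 0) : φ ∈ XF L := by
  refine ⟨hφ, by_contra fun e => h1 (hθ.eq_one_of_forall_eq fun g => ?_)⟩
  push Not at e
  exact (hφ.isCharacter.restrict _).apply_eq_of_constituent hθ h (e g g.2)

/-- (12.2.b) -/
theorem exists_subCoh_F (hL : TypeF L) : ∃ R, SubCoh (SF L) (tau L) R ∧
    ∀ ψ, OrthR L ψ → ∀ χ ∈ SF L, ∀ α ∈ R χ, classInner ψ α = 0 := by
  obtain ⟨R, hR⟩ := (degIso_XF hL).exists_subCoh (fun _ a => a.1) (fun _ => conj_mem_XF) fun _ => conj_ne_XF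
  obtain ⟨R', a, b⟩ := subCoh_of_sum hR (fun _ a => a.1) (degIso_SF hL)
    (fun _ => conjFun_mem_inducedIrrAbove) (fun _ => conjFun_ne_of_mem_inducedIrrAbove (mso_odd L))
    fun χ ⟨θ, t1, t2, _, t3⟩ => let ⟨C, c1, _, c3⟩ := exists_split_F hL t1 t2
      ⟨C, fun φ hφ => mem_XF_of t1 t2 ((c1 φ).1 hφ).1 ((c1 φ).1 hφ).2, t3.trans c3⟩
  refine ⟨R', a, fun ψ h χ hχ α hα => ?_⟩
  obtain ⟨φ, c, d⟩ := b χ hχ α hα
  refine h.orth_dirr c ((hR.gen φ c α d).isDirr ((hR.orthon φ c).self d)) ?_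
  have := (hR.orthon φ c).classInner_sum_sum (Finset.singleton_subset_iff.2 d)
  rw [Finset.sum_singleton] at this
  simp [hR.sum_eq φ c, this]

/-- (12.3), in the form in which it is used -/
theorem orthR_of_cohWith (hL : TypeF L) (hM : TypeF M) (h : ¬ Cjg L M) {ν : CMap L G}
    (hν : CohWith (SF L) (tau L) ν) {χ : L → ℂ} (hχ : χ ∈ SF L) (hi : IsIrrCharacter L χ) :
    OrthR M (ν χ) := by
  intro φ hφ hk α hα hne
  by_contra hψ
  have hX : φ ∈ XF M := ⟨hφ, hk⟩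
  obtain ⟨θ, hθ, h1⟩ := hφ.exists_restrict_constituent (N := MF[M] ⇂ M)
  have h2 : θ ≠ fun _ => 1 := fun o => let ⟨k, a, b⟩ := hk
    b (hφ.apply_eq_of_classInner_one _ (o ▸ h1) a)
  have hξ : indFun _ θ ∈ SF M := ind_mem_SF hθ h2
  rw [← classInner_indFun_right _ _ hφ.isClassFunction] at h1
  generalize indFun _ θ = ξ at hξ h1
  have hξ' := conjFun_mem_inducedIrrAbove hξ
  have c := isCharacter_of_mem_inducedIrrAbove hξ
  have h3 : classInner φ (conjFun ξ) = 0 := by_contra fun e =>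
    classInner_ne_zero_of_common c c.conjF hφ (by rwa [ne_eq, classInner_eq_zero_comm])
      (by rwa [ne_eq, classInner_eq_zero_comm]) (orth_of_mem_inducedIrrAbove hξ hξ'
        (conjFun_ne_of_mem_inducedIrrAbove (mso_odd M) hξ).symm)
  have s := supp_SF_sub hM hξ hξ' c.conjFun_one.symm
  have cξ := c.isClassFunction.sub c.isClassFunction.conjF
  have h4 : classInner (tau M (φ - conjFun φ)) (tau M (ξ - conjFun ξ)) ≠ 0 := by
    rw [(dade_A0 hM.max).classInner_dade' (hφ.isClassFunction.sub hφ.isClassFunction.conjF) cξ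
      fun x hx => s x fun i => hx (A1_A0 M i), classInner_sub_left, classInner_sub_right,
      classInner_sub_right, classInner_conjFun, classInner_conjFun_left, h3,
      classInner_eq_zero_comm.1 h3, c.classInner_comm hφ.isCharacter]
    simpa using h1
  have d := isCharacter_of_mem_inducedIrrAbove hχ
  have hχ' := conjFun_mem_inducedIrrAbove hχ
  have h5 := tau_orth_of_disjoint hL.max hM.max (Td_A1_disjoint hL.max hM.max h)
    (d.isClassFunction.sub d.isClassFunction.conjF) cξ (supp_SF_sub hL hχ hχ' d.conjFun_one.symm) s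
  rw [hν.agree.sub d.conjFun_one.symm, (ind1F hL hν).map_conj (mso_odd L) hχ hi] at h5
  obtain ⟨μ, m1, m2⟩ := (dade_A0 hM.max).exists_irr_sub_conj hφ (supp_XF hM hX)
  rw [tau, m2] at hne h4
  have : α = μ ∨ α = conjFun μ := by
    by_contra! e
    rw [classInner_sub_left, m1.classInner_of_ne hα e.1.symm, m1.conjF.classInner_of_ne hα e.2.symm] at hne
    simp at hne
  apply h4
  rcases (hν.isDirr hχ hi).eq_or_eq_neg hα.isDirr hψ with e | e <;> rcases this with rfl | rfl <;>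
    rw [e] at h5
  · exact h5
  · rwa [conjFun_conjFun, ← neg_sub, classInner_neg_left, neg_eq_zero] at h5
  · rwa [conjFun_neg, neg_sub_neg, ← neg_sub, classInner_neg_left, neg_eq_zero] at h5
  · rwa [conjFun_neg, neg_sub_neg, conjFun_conjFun] at h5

theorem OrthR.orth_sub_XF (hL : TypeF L) (h : OrthR L ψ) {φ φ' : L → ℂ} (hφ : φ ∈ XF L)
    (hφ' : φ' ∈ XF L) (e : φ' 1 = φ 1) : classInner ψ (tau L (φ' - φ)) = 0 := by
  obtain ⟨ν, hν⟩ := ((degIso_XF hL).mono (T := {ξ ∈ XF L | ξ 1 = φ 1}) fun _ a => a.1).coh_of_irr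
    (fun _ a => a.1.1) fun _ a _ b => a.2.trans b.2.symm
  have k : ∀ ξ ∈ XF L, ξ 1 = φ 1 → classInner ψ (ν ξ) = 0 := fun ξ a b => by
    have c := a.1.isCharacter.conjFun_one
    refine h.orth_dirr a (hν.isDirr ⟨a, b⟩ a.1) ?_
    rw [hν.agree.sub c.symm, classInner_sub_left, hν.inner _ ⟨a, b⟩ _ ⟨a, b⟩,
      hν.inner _ ⟨conj_mem_XF a, c.trans b⟩ _ ⟨a, b⟩, a.1.classInner_self,
      a.1.conjF.classInner_of_ne a.1 (conj_ne_XF a)]
    simp
  rw [hν.agree.sub e, classInner_sub_right, k φ' hφ' e, k φ hφ rfl, sub_self]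

/-- (12.4) -/
theorem OrthR.const (hL : TypeF L) (h : OrthR L ψ) (hψ : IsClassFunction G ψ) {x y : G}
    (hx : x ∈ L) (hx' : x ∉ MF[L]) (hy : y ∈ MF[L]) : ψ (x * y) = ψ x := by
  refine const_of_inner_res (K := MF[L] ⇂ L) (hψ.restrict L) (fun θ => exists_split_F hL)
    (fun φ φ' a b c d => ?_) (x := ⟨x, hx⟩) (y := ⟨y, MF_le L hy⟩) hx' hy
  have hφ : φ ∈ XF L := ⟨a, c⟩
  have e := d 1 (one_mem _)
  have hφ' : φ' ∈ XF L := let ⟨k, k1, k2⟩ := c; ⟨b, k, k1, by rwa [d k k1, e]⟩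
  have := h.orth_sub_XF hL hφ hφ' e
  rw [tau, (dade_A0 hL.max).dade_eq_indFun (b.isClassFunction.sub a.isClassFunction) (fun z hz => ?_)
    fun z z1 z2 => supportR_bot (A0_cent hL.max z1 fun i => z2 (sub_eq_zero.2 (d z ?_))),
    classInner_indFun_right _ _ hψ, classInner_sub_right] at this
  · exact sub_eq_zero.1 this
  · by_cases o : z = 1
    · exact o ▸ sub_eq_zero.2 e
    · rw [Pi.sub_apply, supp_XF hL hφ z o hz, supp_XF hL hφ' z o hz, sub_self]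
  · rwa [← MF_eq_of_notP1 (Or.inl hL)] at i

theorem OrthR.orth_sub_SF (hL : TypeF L) (h : OrthR L ψ) {χ χ' : L → ℂ} (hχ : χ ∈ SF L)
    (hχ' : χ' ∈ SF L) (e : χ 1 = χ' 1) : classInner ψ (tau L (χ - χ')) = 0 := by
  obtain ⟨R, hR, o⟩ := exists_subCoh_F hL
  have k : ∀ ξ ∈ SF L, ∀ E ⊆ R ξ, classInner ψ (∑ α ∈ E, α) = 0 := fun ξ a E b => by
    rw [classInner_sum_right]; exact Finset.sum_eq_zero fun α c => o ψ h ξ a α (b c)
  by_cases a : χ' = χ
  · simp [a]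
  by_cases b : χ' = conjFun χ
  · rw [b, hR.sum_eq χ hχ]; exact k χ hχ _ subset_rfl
  obtain ⟨E, e1, F, f1, s, -⟩ := hR.exists_split hχ hχ' a b e
  rw [s, classInner_sub_right, k χ hχ E e1, k χ' hχ' F f1, sub_self]

theorem mem_commutator_sub {K : Subgroup G} (h : K ≤ L) {x : K ⇂ L} (hx : x ∈ commutator ↥(K ⇂ L)) :
    ((x : L) : G) ∈ ⁅K, K⁆ := by
  have := mem_map_of_mem (K ⇂ L).subtype hx
  rwa [map_subtype_commutator, ← sub_comm h h] at this

/-- (12.5) -/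
theorem OrthR.rho_const (hL : TypeF L) (h : OrthR L ψ) (hψ : IsClassFunction G ψ) {x y : L}
    (hx : (x : G) ∈ MF[L]) (hx' : (x : G) ∉ ⁅MF[L], MF[L]⁆) (hy : (y : G) ∈ MF[L])
    (hy' : (y : G) ∉ ⁅MF[L], MF[L]⁆) : rho L ψ x = rho L ψ y := by
  have cf := (dade_A1 hL.max).isClassFunction_invDade hψ
  refine const_of_inner_deg (cf.restrict (MF[L] ⇂ L)) (fun θ φ a b c d e => ?_) (x := ⟨x, hx⟩)
    (y := ⟨y, hy⟩) (fun i => hx' (mem_commutator_sub (MF_le L) i))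
    fun i => hy' (mem_commutator_sub (MF_le L) i)
  have m : ∀ θ, IsIrrCharacter (MF[L] ⇂ L) θ → θ ≠ (fun _ => 1) → indFun _ θ ∈ SF L :=
    fun θ => ind_mem_SF
  have f : indFun _ θ 1 = indFun _ φ 1 := by rw [indFun_one, indFun_one, e]
  have := h.orth_sub_SF hL (m θ a c) (m φ b d) f
  have c2 := (isClassFunction_indFun _ θ).sub (isClassFunction_indFun _ φ)
  rw [tau, ← (dade_A0 hL.max).dade_restrict (A1_A0 L) (fun _ a _ => A1_conj a) c2
    (supp_SF_sub hL (m θ a c) (m φ b d) f), (dade_A1 hL.max).classInner_dade_right c2 hψ,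
    classInner_sub_right, classInner_indFun_right _ _ cf, classInner_indFun_right _ _ cf] at this
  exact sub_eq_zero.1 this

omit hG in
theorem cent_le_of_frob (h : Frob MF[L] E L) :
    ∀ k ∈ MF[L] ⇂ L, k ≠ 1 → centralizer {k} ≤ MF[L] ⇂ L :=
  centralizer_le_subgroupOf fun _ => h.cent_le

theorem irr_of_frob (h : Frob MF[L] E L) : ∀ φ ∈ SF L, IsIrrCharacter L φ :=
  fun _ => isIrr_of_mem_inducedIrrAbove (cent_le_of_frob h)

theorem not_le_der_MF (hL : IsCoatom L) : ¬ MF[L] ⇂ L ≤ ⁅MF[L] ⇂ L, MF[L] ⇂ L⁆ ⊔ ⊥ :=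
  haveI := nil_sub (M := L) (MF_nil L)
  not_le_commutator_sup_of_solvable inferInstance fun e =>
    (MF_chain hL).1 ((sub_eq_bot (MF_le L)).1 (le_bot_iff.1 e))

theorem exists_deg_index (hL : IsCoatom L) : ∃ φ ∈ SF L, φ 1 = (MF[L] ⇂ L).index :=
  exists_mem_inducedIrrAbove_of_not_le (not_le_der_MF hL)

/-- (12.6) -/
theorem coh_of_frob (hL : TypeF L) (h : Frob MF[L] E L) : Coh (SF L) (tau L) := by
  have hC := cent_le_of_frob h
  have hn := nil_sub (M := L) (MF_nil L)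
  have pre := (degIso_SF hL).preCoh (irr_of_frob h)
  rcases hL.cases h.sd with a | ⟨a, -⟩ | ⟨a, -⟩
  · have ti : ∀ g, g ∉ L → ∀ x ∈ MF[L] ⇂ L, ∀ y ∈ MF[L] ⇂ L, g * x * g⁻¹ = y → x = 1 :=
      fun g g1 x x1 y y1 e => by_contra fun o => g1 (a.ti g x ⟨x1, fun i => o (Subtype.ext i)⟩
        ⟨e ▸ y1, fun i => o (Subtype.ext (by simpa using i))⟩)
    exact sibley_frobenius (DadeHypothesis.dade_eq_indFun_of_TI (dade_A0 hL.max) (fun x a b =>
      A1_A0 L ((MF_A1 hL).2 ⟨a, fun o => b (Subtype.ext o)⟩)) ti) (mso_odd L) ti hn hC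
  · exact pre.coh_of_commutator_le (by
      rw [← sub_comm (MF_le L) (MF_le L), abel_iff_der.1 a, bot_subgroupOf])
  · by_contra hnc
    obtain ⟨-, -, b, p, m, hp, c, d⟩ := pre.non_coherent_chief (mso_odd L) bot_le
      (Nil.map hn _) (not_le_der_MF hL.max) (frob_mod (sup_le (der_le _) bot_le)
        (by rw [card_sub (MF_le L)]; exact (MF_hall L).coprime)
        fun x x1 k k1 e => by
          by_cases o : k = 1
          · exact o ▸ one_mem _
          · exact absurd (hC k k1 o (mem_cent1.2 e)) x1) hnc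
    rw [relIndex_bot_left, card_sub (MF_le L)] at c
    refine d ?_
    rw [index_sub, h.sd.relIndex_l, (hL.ofF h.sd).card_eq (mso_odd L) le_rfl rfl h.reg]
    refine a p hp (c ▸ dvd_pow_self p fun o => ?_)
    rw [o, pow_zero] at c
    exact (one_lt_card h.ne_l).ne' c

end Cfsg.Agent.PF
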