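import Cfsg.Agent.PF.S12a
import Cfsg.Agent.PF.S11b

/-! Peterfalvi, section 12 (12.7 - 12.17). -/

set_option autoImplicit false
set_option linter.unusedSectionVars false

namespace Cfsg.Agent.PF

open Cfsg Cfsg.Agent.Char Cfsg.Agent.BG Subgroup
open scoped ComplexConjugate

section Lines
variable {G : Type*} [Group G] [Finite G] {A E X : Subgroup G} {p : ℕ}

/-- an elementary abelian group of order `p²` has `p + 1` subgroups of order `p` -/
theorem ncard_lines (hp : p.Prime) {B : Subgroup G} (hA : PnElem p 2 A B) :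
    {X : Subgroup G | X ≤ A ∧ #X = p}.ncard = p + 1 := by
  have k : ∀ x ∈ A, x ≠ 1 → #(zpowers x) = p := fun x a b => card_zpowers_of_pow hp (hA.ab.2 x a) b
  have a := ncard_eq_mul_of_fibers (fun x => zpowers x) ((A : Set G) \ (⊥ : Subgroup G))
    {X : Subgroup G | X ≤ A ∧ #X = p} (p - 1)
    (fun x hx => ⟨zpowers_le.2 hx.1, k x hx.1 fun e => hx.2 (mem_bot.2 e)⟩) fun X ⟨a, b⟩ => by
      rw [← b, ← card_bot' (G := G), ← ncard_sdiff bot_le]
      congr 1; ext x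
      exact ⟨fun c => ⟨c.2 ▸ mem_zpowers x, c.1.2⟩, fun c => ⟨⟨a c.1, c.2⟩,
        eq_zpowers_of_prime (b ▸ hp) c.1 fun e => c.2 (mem_bot.2 e)⟩⟩
  rw [ncard_sdiff bot_le, card_bot', hA.card] at a
  have b : p ^ 2 - 1 = (p + 1) * (p - 1) := by
    obtain ⟨n, rfl⟩ := Nat.exists_eq_add_of_le hp.pos
    have e1 : (1 + n) ^ 2 - 1 = (1 + n + 1) * n := Nat.sub_eq_of_eq_add (by ring)
    rw [e1, Nat.add_sub_cancel_left]
  exact Nat.eq_of_mul_eq_mul_right (Nat.sub_pos_of_lt hp.one_lt) (a.symm.trans b)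

theorem two_mul_le_of_odd_dvd {e n : ℕ} (he : Odd e) (hn : Even n) (h0 : 0 < n) (h : e ∣ n) :
    2 * e ≤ n :=
  Nat.le_of_dvd h0 ((Nat.coprime_two_left.2 he).mul_dvd_of_dvd_of_dvd hn.two_dvd h)

/-- the linear algebra of (12.12) -/
theorem two_mul_le_of_rank2 (hp : p.Prime) (ho : Odd p) {B : Subgroup G} (hA : PnElem p 2 A B)
    (hE : E ≤ N[A]) (hr : Semireg A E) (oE : Odd #E) (h1 : X ≤ A) (h2 : #X = p)
    (h3 : E ⊓ N[X] = ⊥) : 2 * #E ≤ p + 1 := by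
  have hc := hr.coprime hE
  have aE : Abel E := by
    rw [abel_iff_der, eq_bot_iff]
    have := der_odd_rank2_cent hp hA.ab (hA.pRank_eq hp).le hE oE
      ((pin_compl_cop hp).2 (Nat.Coprime.coprime_dvd_right (hA.self.dvd) hc))
    intro y hy
    by_contra c
    exact hA.ne_bot hp ((inf_eq_left.2 (le_C1_iff.2 (this hy))).symm.trans (hr y (der_le E hy) c))
  by_cases c : ∀ g ∈ E, ∀ Y ∈ {Y : Subgroup G | Y ≤ A ∧ #Y = p}, g ∈ N[Y] → g = 1
  · refine two_mul_le_of_odd_dvd oE ho.add_one (by omega) ?_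
    rw [← ncard_lines hp hA]
    exact card_dvd_of_free_cj E _ (fun g a Y ⟨b, d⟩ => ⟨cj_le_of_mem b (hE a), by rw [card_cj, d]⟩) c
  push Not at c
  obtain ⟨y, y1, Y, ⟨a1, a2⟩, y2, y3⟩ := c
  obtain ⟨u, u1, u2⟩ := exists_mem_ne_one (ne_bot_of_prime (a2 ▸ hp : (#Y).Prime))
  obtain ⟨i, hi⟩ := exists_pow_of_mem_zpowers
    ((eq_zpowers_of_prime (a2 ▸ hp : (#Y).Prime) u1 u2).ge (conj_mem y2 u1))
  let T : Subgroup G :=
    { carrier := {t | t ∈ A ∧ y * t * y⁻¹ = t ^ i}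
      one_mem' := ⟨one_mem _, by simp⟩
      mul_mem' := fun {a b} ha hb => ⟨mul_mem ha.1 hb.1, by
        rw [Commute.mul_pow (mem_C_comm hA.abel ha.1 hb.1), ← ha.2, ← hb.2]; group⟩
      inv_mem' := fun {a} ha => ⟨inv_mem ha.1, by rw [inv_pow, ← ha.2]; group⟩ }
  have T1 : T ≤ A := fun t ht => ht.1
  have T2 : E ≤ N[T] := le_N_iff.2 fun k hk t ht => ⟨conj_mem (hE hk) ht.1, by
    rw [conj_pow, ← ht.2]
    calc _ = (y * k) * t * (y * k)⁻¹ := by group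
      _ = _ := by rw [mem_C_comm aE y1 hk]; group⟩
  have T3 : T ≠ ⊥ := ne_bot_of_mem (x := u) ⟨a1 u1, hi.symm⟩ u2
  rcases T1.lt_or_eq with l | e
  · have := (hr.mono T1 le_rfl).card_dvd T2
    rw [card_sub_of_sq hp hA.card l T3] at this
    have := two_mul_le_of_odd_dvd oE (Nat.Odd.sub_odd ho odd_one) (Nat.sub_pos_of_lt hp.one_lt) this
    omega
  · refine absurd (mem_bot.1 (h3.le ⟨y1, mem_N_of fun a ha => ?_⟩)) y3
    rw [(e.ge (h1 ha)).2]
    exact pow_mem ha i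

end Lines

theorem cover_two {G : Type*} [Group G] [Fintype G] {A B : Set G} {L M : Subgroup G}
    {R S : G → Subgroup G} (h1 : DadeHypothesis A L R) (h2 : DadeHypothesis B M S)
    (hd : Disjoint (dadeSupp A R) (dadeSupp B S)) {χ : G → ℂ} (hχ : IsClassFunction G χ) :
    nrm (invDade A L R χ) + nrm (invDade B M S χ) ≤ nrm χ := by
  classical
  refine (add_le_add (h1.nrm_invDade_le_sum hχ) (h2.nrm_invDade_le_sum hχ)).trans ?_
  rw [nrm_eq_sum, ← mul_add, ← Finset.sum_union (Finset.disjoint_filter.2 fun g _ a b =>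
    Set.disjoint_left.1 hd a b)]
  exact mul_le_mul_of_nonneg_left (Finset.sum_le_sum_of_subset_of_nonneg (Finset.subset_univ _)
    fun _ _ _ => by positivity) (by positivity)

theorem c12_a_eq_zero {a : ℤ} {e h p : ℕ} (h1 : 2 * e ≤ p + 1) (h2 : p ^ 2 ≤ h) (h3 : 3 ≤ p)
    (h4 : 0 < e) (h5 : (0 : ℝ) ≤ e - 1 + 2 * a - a ^ 2 * ((h - 1) / e)) : a = 0 := by
  by_contra c
  have e0 : (0 : ℝ) < e := by exact_mod_cast h4
  have k : (a : ℝ) ^ 2 * (h - 1) ≤ (e - 1 + 2 * a) * e := by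
    rw [← div_le_iff₀ e0, mul_div_assoc]; linarith
  have k : a ^ 2 * (h - 1) ≤ (e - 1 + 2 * a) * e := by exact_mod_cast k
  have a1 : 0 < a ^ 2 := by positivity
  have a2 : a ≤ a ^ 2 := by nlinarith
  have h1 : 2 * (e : ℤ) ≤ p + 1 := by exact_mod_cast h1
  have h2 : (p : ℤ) ^ 2 ≤ h := by exact_mod_cast h2
  have h3 : (3 : ℤ) ≤ p := by exact_mod_cast h3
  have h4 : (0 : ℤ) < e := by exact_mod_cast h4
  have b0 : e - 1 + 2 * a ≤ a ^ 2 * (e + 1) := by nlinarith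
  have b1 : a ^ 2 * (h - 1) ≤ a ^ 2 * ((e + 1) * e) := by nlinarith
  have b2 : (h : ℤ) - 1 ≤ (e + 1) * e := le_of_mul_le_mul_left b1 a1
  nlinarith

theorem c12_final {e k d m h : ℕ} {r : ℝ} (h1 : 3 ≤ e) (h2 : 7 ≤ k) (h3 : 0 < d) (h4 : 0 < m)
    (h5 : m ≤ h) (h6 : (((d * k * m : ℕ) : ℝ))⁻¹ * ((d * k - d : ℕ) * ((e : ℝ) - 1) ^ 2) ≤ r)
    (h7 : r ≤ e / h) : False := by
  have a : ((d * k - d : ℕ) : ℝ) = d * (k - 1) := by
    rw [Nat.cast_sub (Nat.le_mul_of_pos_right d (by omega))]; push_cast; ring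
  have h1 : (3 : ℝ) ≤ e := by exact_mod_cast h1
  have h2 : (7 : ℝ) ≤ k := by exact_mod_cast h2
  have h3 : (0 : ℝ) < d := by exact_mod_cast h3
  have h4 : (0 : ℝ) < m := by exact_mod_cast h4
  have h5 : (m : ℝ) ≤ h := by exact_mod_cast h5
  have b : (e : ℝ) / h ≤ e / m := div_le_div_of_nonneg_left (by linarith) h4 h5
  have c := (h6.trans h7).trans b
  rw [a, inv_mul_le_iff₀ (by push_cast; positivity)] at c
  have c' : (d : ℝ) * ((k - 1) * (e - 1) ^ 2) ≤ d * (k * e) := by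
    refine le_of_eq_of_le (by ring) (c.trans_eq ?_)
    push_cast; field_simp
  have := le_of_mul_le_mul_left c' h3
  nlinarith [mul_nonneg (sub_nonneg.2 h1) (sub_nonneg.2 h2), mul_nonneg (sub_nonneg.2 h1) (sub_nonneg.2 h1),
    mul_nonneg (mul_nonneg (sub_nonneg.2 h1) (sub_nonneg.2 h1)) (sub_nonneg.2 h2)]

variable {G : Type*} [Group G] [Fintype G]

/-- the situation of (12.8), (12.9) -/
structure C12 (M L A : Subgroup G) (x : G) (p : ℕ) : Prop where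
  hM : TypeF M
  hp : p ∈ τ2[M]
  hA : PnElem p 2 A M
  hL : IsCoatom L
  sig : p ∈ σ[L]
  le : A ≤ L
  mem : x ∈ A
  ne : x ≠ 1
  nle : ¬ MF[M] ⊓ C1[x] ≤ ⁅MF[M], MF[M]⁆

variable [hG : MSO G] {M L A U E : Subgroup G} {x : G} {p : ℕ}

theorem exists_c12 (hM : TypeF M) (hp : p ∈ τ2[M]) : ∃ L A x, C12 M L A x p := by
  obtain ⟨A, hA⟩ := ex_tau2Elem' hp
  have pp := tau2_prime hp
  obtain ⟨L, hL, h1⟩ := exists_coatom_N (hA.ne_bot pp) (hA.pig pp).ne_top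
  have e := MF_eq_of_notP1 (Or.inl hM)
  have c : (#A).Coprime #MF[M] := by
    rw [e]; exact (hA.pig pp).coprime (PiN.compl_single' (O_pig _ _) (tau2_sigma' hp))
  have n : ¬ MF[M] ≤ ⁅MF[M], MF[M]⁆ := ((MF_nil M).sol.der_lt (MF_chain hM.max).1).not_ge
  have := mt (cop_gen_cent1 hA.abel (hA.not_cyc pp) (hA.le.trans (MF_norm M)) c) n
  push Not at this
  obtain ⟨x, a, b, d⟩ := this
  exact ⟨L, A, x, hM, hp, hA, hL, sigma_of_norm_tau2Elem pp hA hL h1, (normG A).trans h1, a, b, d⟩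

namespace C12

omit hG in
theorem prime (h : C12 M L A x p) : p.Prime := tau2_prime h.hp
theorem odd (h : C12 M L A x p) : Odd p := (mso_odd A).of_dvd_nat h.hA.self.dvd
theorem eM (h : C12 M L A x p) : MF[M] = Mσ[M] := MF_eq_of_notP1 (Or.inl h.hM)
omit hG in
theorem pow (h : C12 M L A x p) : x ^ p = 1 := h.hA.ab.2 x h.mem
omit hG in
theorem cent_ne (h : C12 M L A x p) : MF[M] ⊓ C1[x] ≠ ⊥ := fun e => h.nle (e ▸ bot_le)
theorem leσ (h : C12 M L A x p) : A ≤ Mσ[L] :=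
  le_Msigma h.hL h.le (PiN.single_mono (h.hA.pig h.prime) h.sig)
theorem umax (h : C12 M L A x p) : UMax C1[x] M :=
  cent1_nreg_sigma_uniq h.hM.max (h.hA.le h.mem) h.ne (PiN.single_mono (pie_of_pow h.prime h.pow) h.hp)
    (h.eM ▸ h.cent_ne)
theorem ncent (h : C12 M L A x p) : ¬ C1[x] ≤ L := fun c =>
  tau2_sigma' h.hp (h.umax.uniq L h.hL c ▸ h.sig)
theorem memA1 (h : C12 M L A x p) : x ∈ A1 L := mem_A1.2 ⟨h.leσ h.mem, h.ne⟩
theorem supp (h : C12 M L A x p) : SuppAt L M x := by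
  obtain ⟨-, N, hN⟩ := A0_supp h.hL (A1_A0 L h.memA1) h.ncent
  rwa [h.umax.eq hN.umax] at hN
theorem notMem (h : C12 M L A x p) : x ∉ MF[M] := fun c =>
  h.supp.nmem ((MF_A1 h.hM).2 ⟨c, h.ne⟩)
theorem memA0 (h : C12 M L A x p) : x ∈ A0 M := AA_sub M h.supp.mem

/-- (12.10), first part -/
theorem typeF (h : C12 M L A x p) : TypeF L := by
  refine (typeF_or_typeP h.hL).resolve_right fun hP => h.ncent ?_
  rcases hP.p1_or_p2 with h1 | h2
  swap
  · exact h2.cent_A0 (A1_A0 L h.memA1)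
  obtain ⟨U, W₁, W₂, hD⟩ := hP.exists_pd'
  have c := (hD.galois_of_p1 h1).2
  have a : A ≤ ⁅L, L⁆ := hD.p1_der h1 ▸ h.leσ
  have b : A ≤ MF[L] := by
    by_cases d : p ∣ #MF[L]
    · exact (MF_hall L).le_of_normal (MF_norm L) (PiN.single_mono (h.hA.pig h.prime) d) h.le
    · obtain ⟨g, -, e⟩ := hD.hallU.sub_cj (sol_of_le h.hL (der_le L)) a
        (PiN.single_mono (h.hA.pig h.prime) d)
      exact absurd ((cyc_cj.2 c).of_le e) (h.hA.not_cyc h.prime)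
  exact (hD.prime_ti hD.U_ne_bot).2.cent ⟨MF_le_F L (b h.mem), h.ne⟩

theorem eL (h : C12 M L A x p) : MF[L] = Mσ[L] := MF_eq_of_notP1 (Or.inl h.typeF)
theorem leF (h : C12 M L A x p) : A ≤ MF[L] := h.eL ▸ h.leσ
theorem pmax (h : C12 M L A x p) : PMax p A ⊤ := tau2_pmax h.hM.max h.hp h.hA

/-- (12.10) -/
theorem frob (h : C12 M L A x p) (hmin : ∀ (N : Subgroup G) q, TypeF N → q ∈ τ2[N] → p ≤ q)
    (hE : Sdprod MF[L] E L) : Frob MF[L] E L := by
  refine h.typeF.frob_of_tau2 (Set.eq_empty_of_forall_notMem fun q hq => ?_) hE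
  have q1 := tau2_prime hq
  have q2 : q ∣ #E := (hE.hall_compl (h.eL ▸ Msigma_hall h.hL)).dvd q1 (tau2_sigma' hq) (tau2_dvd hq)
  have q3 : q ∣ Monoid.exponent E := by
    obtain ⟨y, a, b⟩ := cauchy q1 q2
    rw [← b, ← orderOf_mk y a]
    exact Monoid.order_dvd_exponent _
  refine absurd (hmin L q h.typeF hq) (not_le.2 ?_)
  rcases h.typeF.cases hE with c | ⟨c, d⟩ | ⟨c, -⟩
  · exact absurd (c.cent ⟨h.leF h.mem, h.ne⟩) h.ncent
  · obtain ⟨U₀, u1, u2, u3⟩ := (h.typeF.ofF hE).reg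
    have a : Ω[p](MF[L]) = A :=
      c.Om_eq h.prime (h.hA.sub h.leF) ((pRank_le_rank h.prime _).trans d.le)
    have b := (u3.mono h.leF le_rfl).card_dvd
      (a ▸ normOm p (u1.trans (hE.right.trans (MF_norm L))))
    rw [h.hA.card] at b
    exact (prime_dvd_sq_sub_one h.odd h.prime.one_lt q1
      (((u2 ▸ q3).trans Group.exponent_dvd_nat_card).trans b)).1
  · have := Nat.le_of_dvd (Nat.sub_pos_of_lt h.prime.one_lt)
      (q3.trans (c p h.prime (h.hA.sub h.leF).dvd))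
    have := h.prime.pos
    omega

/-- (12.11) -/
theorem inf_le (h : C12 M L A x p) (hE : Frob MF[L] E L) : L ⊓ M ≤ MF[L] := by
  refine (MF_hall L).le_of_normal (MF_norm L) (pig_of_prime_elts fun a ha q => ?_) inf_le_left
  by_contra c
  have a1 : a ≠ 1 := by rintro rfl; exact Nat.not_prime_one (by simpa using q)
  have a2 : a ∉ MF[L] := fun d => c (orderOf_dvd d)
  have reg : MF[L] ⊓ C1[a] = ⊥ := by
    rw [eq_bot_iff]
    intro y hy
    by_contra d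
    exact a2 (hE.cent_le hy.1 d ⟨ha.1, C1_symm hy.2⟩)
  have sd := h.supp.sd
  have hU : Hall σ[M]ᶜ (L ⊓ M) M := sd.hall_compl (h.eM ▸ Msigma_hall h.hM.max)
  have AU : A ≤ L ⊓ M := le_inf h.le h.hA.le
  have nA := tau2_norm h.hM.max hU h.hp (h.hA.sub AU)
  have q' : (#(zpowers a)).Prime := by rwa [card_zpowers']
  have r : Semireg A (zpowers a) := semireg_of_prime q' (by
    rw [C_zpowers, eq_bot_iff, ← reg]; exact inf_le_inf_right _ h.leF)
  have f : Frob A (zpowers a) (A ⊔ zpowers a) :=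
    ⟨sdprod_sup r.inf_bot ((zpowers_le.2 ha).trans nA), h.hA.ne_bot h.prime, ne_bot_of_prime q', r⟩
  have l : A ⊔ zpowers a ≤ L ⊓ M := sup_le AU (zpowers_le.2 ha)
  have k : MF[M] ⊓ C1[a] ≠ ⊥ := fun d => by
    have := frob_wielandt_cent f (l.trans sd.norm) (h.eM ▸ hU.cop_Msigma l) (MF_nil M).sol
      (by rwa [C_zpowers])
    exact (MF_chain h.hM.max).1 ((inf_eq_left.2 (cent_symm this)).symm.trans
      (h.eM ▸ tau2_inf_cent h.hM.max h.hp h.hA))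
  obtain ⟨B, -, -, b1, b2⟩ := (h.hM.ofF sd).ab
  obtain ⟨y, y1, y2⟩ := exists_mem_ne_one k
  obtain ⟨z, z1, z2⟩ := exists_mem_ne_one h.cent_ne
  exact h.ne (mem_bot.1 (reg.le ⟨h.leF h.mem, mem_C1.2 (mem_C_comm b1
    (b2 z z1.1 z2 ⟨AU h.mem, C1_symm z1.2⟩) (b2 y y1.1 y2 ⟨ha, C1_symm y1.2⟩))⟩))

/-- (12.12) -/
theorem two_mul_le (h : C12 M L A x p) (hE : Frob MF[L] E L) : 2 * #E ≤ p + 1 := by
  have pp := h.prime
  have a1 : A ≤ O[{p}](MF[L]) := (MF_nil L).le_O h.leF (h.hA.pig pp)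
  have n : E ≤ N[Ω[p](Z[O[{p}](MF[L])])] := normOmZ p (normO _ hE.sd.norm)
  have t1 : Ω[p](Z[O[{p}](MF[L])]) ≤ A := (h.pmax.sub a1 le_top).OmZ_le
  have t2 : Ω[p](Z[O[{p}](MF[L])]) ≠ ⊥ :=
    (O_pig _ _).OmZ_ne_bot fun e => h.hA.ne_bot pp (eq_bot_iff.2 (e ▸ a1))
  have r := hE.reg.mono h.leF le_rfl
  rcases t1.lt_or_eq with l | e
  · have := (r.mono t1 le_rfl).card_dvd n
    rw [card_sub_of_sq pp h.hA.card l t2] at this
    have := two_mul_le_of_odd_dvd (mso_odd E) (Nat.Odd.sub_odd h.odd odd_one)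
      (Nat.sub_pos_of_lt pp.one_lt) this
    omega
  · refine two_mul_le_of_rank2 pp h.odd h.hA (e ▸ n) r (mso_odd E) (zpowers_le.2 h.mem)
      (card_zpowers_of_pow pp h.pow h.ne) ?_
    have := UMax.N_le' (X := zpowers x) (by rw [C_zpowers]; exact h.umax)
    rw [eq_bot_iff, ← hE.sd.inf]
    exact le_inf ((inf_le_inf hE.sd.right this).trans (h.inf_le hE)) inf_le_left

variable {ν : CMap L G} {χ : L → ℂ}

/-- (12.14) -/
theorem apply_mul (h : C12 M L A x p) (hE : Frob MF[L] E L) (hν : CohWith (SF L) (tau L) ν)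
    (hχ : χ ∈ SF L) (h1 : χ 1 = (MF[L] ⇂ L).index) {g : G} (hg : g ∈ MF[M]) :
    ν χ (x * g) = χ ⟨x, h.le h.mem⟩ := by
  have I := ind1F h.typeF hν
  have hi := irr_of_frob hE χ hχ
  have c := (I.isDirr hχ hi).isClassFunction
  have o := orthR_of_cohWith h.typeF h.hM h.supp.ncj hν hχ hi
  have k : ∀ g ∈ MF[M], ν χ (x * g) = ν χ x := fun g hg =>
    o.const h.hM c (h.hA.le h.mem) h.notMem hg
  obtain ⟨a, Γ, -, -, -, a1, -, a2, -⟩ := I.exists_gamma hχ hi h1 (I.exists_ne (mso_odd L) hχ)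
  have e1 : (MF[L] ⇂ L).index = #E := by rw [index_sub, hE.sd.relIndex_l]
  have e2 : Nat.card (MF[L] ⇂ L) = #MF[L] := card_sub (MF_le L)
  have a0 : a = 0 := by
    refine c12_a_eq_zero (h.two_mul_le hE) (h.hA.card ▸ card_le h.leF)
      (prime_gt_two h.prime h.hA.self.dvd) (card_pos E) ?_
    rw [← e1, ← e2, ← a2]; exact nrm_nonneg Γ
  have := I.invDade_zeta hχ hi h1 a1 ⟨x, h.le h.mem⟩ h.memA1
  rw [a0, Int.cast_zero, add_zero, invDade_of_const h.memA1 fun u hu =>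
    k u (h.supp.R.le hu).1] at this
  rw [k g hg, ← this]

/-- (12.15), first part -/
theorem rho_apply (h : C12 M L A x p) (hE : Frob MF[L] E L) (hν : CohWith (SF L) (tau L) ν)
    (hχ : χ ∈ SF L) {g : M} (hg : (g : G) ∈ MF[M]) (h1 : (g : G) ≠ 1) :
    rho M (ν χ) g = ν χ g := by
  have I := ind1F h.typeF hν
  have hi := irr_of_frob hE χ hχ
  have c := (I.isDirr hχ hi).isClassFunction
  have a := (MF_A1 h.hM).2 ⟨hg, h1⟩
  refine invDade_of_const a fun u hu => ?_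
  by_cases b : C1[(g : G)] ≤ M
  · rw [supportR_bot b] at hu; rw [mem_bot.1 hu, mul_one]
  obtain ⟨-, N, hN⟩ := A0_supp h.hM.max (A1_A0 M a) b
  have hF : TypeF N := by
    by_contra d
    obtain ⟨-, ⟨D, d1, -⟩, -⟩ := hN.frob d
    obtain ⟨z, z1, z2⟩ := exists_mem_ne_one h.cent_ne
    exact h.notMem (d1.cent_le z1.1 z2 ⟨h.hA.le h.mem, C1_symm z1.2⟩)
  have n : ¬ Cjg L N := by
    rintro ⟨y, rfl⟩
    have d := hN.cop x h.memA0
    rw [← cj_MF, card_cj] at d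
    have d1 : p ∣ #(M ⊓ C1[x]) := by
      rw [← orderOf_of_pow h.prime h.pow h.ne]
      exact orderOf_dvd ⟨h.hA.le h.mem, mem_C1_self x⟩
    exact h.prime.one_lt.ne' (Nat.eq_one_of_dvd_coprimes d (h.hA.sub h.leF).dvd d1)
  have o := orthR_of_cohWith h.typeF hF n hν hχ hi
  exact o.const hF c (A0_le (AA_sub N hN.mem)) (fun d => hN.nmem ((MF_A1 hF).2 ⟨d, h1⟩))
    (hN.R.le hu).1

/-- (12.15), second part, and the congruence of (12.16) -/
theorem le_norm (h : C12 M L A x p) (hE : Frob MF[L] E L) (hν : CohWith (SF L) (tau L) ν)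
    (hχ : χ ∈ SF L) (h1 : χ 1 = (MF[L] ⇂ L).index) {g : M} (hg : (g : G) ∈ MF[M])
    (hg' : (g : G) ∉ ⁅MF[M], MF[M]⁆) : (#E : ℝ) - 1 ≤ ‖rho M (ν χ) g‖ := by
  have I := ind1F h.typeF hν
  have hi := irr_of_frob hE χ hχ
  have c := I.isDirr hχ hi
  have o := orthR_of_cohWith h.typeF h.hM h.supp.ncj hν hχ hi
  have ne : ∀ y : G, y ∉ ⁅MF[M], MF[M]⁆ → y ≠ 1 := fun y a b => a (b ▸ one_mem _)
  obtain ⟨z, ⟨z1, z2⟩, z3⟩ := SetLike.not_le_iff_exists.1 h.nle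
  have k : ∀ y (a : y ∈ MF[M]), y ∉ ⁅MF[M], MF[M]⁆ → ν χ y = rho M (ν χ) g := fun y a b => by
    rw [o.rho_const h.hM c.isClassFunction hg hg' (y := ⟨y, MF_le M a⟩) a b,
      h.rho_apply hE hν hχ a (ne y b)]
  obtain ⟨n, hn⟩ := c.isGen.exists_int_of_pow z fun m hm => by
    rw [k z z1 z3, k _ (pow_mem z1 m) fun d => z3 (PLoc.mem_of_pow_mem_of_coprime d hm.symm)]
  rw [← k z z1 z3, hn]
  have pp := h.prime
  have hε := Complex.isPrimitiveRoot_exp p pp.ne_zero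
  have d1 := c.isGen.dvdA_sub pp.ne_zero hε h.pow (mem_C1'.1 z2)
  have d2 := hi.isCharacter.isGen.dvdA_sub pp.ne_zero hε (x := ⟨x, h.le h.mem⟩) (y := 1)
    (Subtype.ext h.pow) (by simp)
  have e1 : (MF[L] ⇂ L).index = #E := by rw [index_sub, hE.sd.relIndex_l]
  rw [h.apply_mul hE hν hχ h1 z1, hn] at d1
  rw [mul_one, h1, e1] at d2
  have d3 := d2.sub d1
  rw [sub_sub_sub_cancel_left, ← Int.cast_natCast (#E), ← Int.cast_sub] at d3
  obtain ⟨t, ht⟩ := d3.prime_dvd pp hε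
  have := h.two_mul_le hE
  rw [Complex.norm_intCast, ← Int.cast_abs]
  have : (#E : ℤ) - 1 ≤ |n| := by
    have p0 : (0 : ℤ) < p := by exact_mod_cast pp.pos
    rcases le_or_gt 0 t with a | a
    · exact le_abs.2 (Or.inl (by nlinarith))
    · exact le_abs.2 (Or.inr (by nlinarith))
  exact_mod_cast this

/-- (12.16) -/
theorem false_of_frob (h : C12 M L A x p) (hE : Frob MF[L] E L) : False := by
  classical
  obtain ⟨ν, hν⟩ := coh_of_frob h.typeF hE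
  obtain ⟨χ, hχ, h1⟩ := exists_deg_index h.hL
  have I := ind1F h.typeF hν
  have hi := irr_of_frob hE χ hχ
  have c := I.isDirr hχ hi
  have e1 : (MF[L] ⇂ L).index = #E := by rw [index_sub, hE.sd.relIndex_l]
  have e2 : Nat.card (MF[L] ⇂ L) = #MF[L] := card_sub (MF_le L)
  have p3 := prime_gt_two h.prime h.hA.self.dvd
  have a1 := I.le_nrm_invDade hχ hi h1 (by
    have := h.two_mul_le hE
    have := h.hA.card ▸ card_le h.leF
    rw [e1, e2]; nlinarith)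
  have a2 := cover_two (dade_A1 h.hL) (dade_A1 h.hM.max)
    (Td_A1_disjoint h.hL h.hM.max h.supp.ncj) c.isClassFunction
  rw [c.nrm_eq] at a2
  rw [e1, e2] at a1
  have sd := h.supp.sd
  obtain ⟨U₀, u1, u2, u3⟩ := (h.hM.ofF sd).reg
  have u4 : U₀ ≠ ⊥ := by
    rintro rfl
    have := exp_dvd_iff.1 (u2.symm.dvd.trans Group.exponent_dvd_nat_card) x
      ⟨h.le h.mem, h.hA.le h.mem⟩
    rw [card_bot', pow_one] at this
    exact h.ne this
  have n : U₀ ≤ N[MF[M]] := u1.trans sd.norm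
  have b1 := (u3.im (φ := quo ⁅MF[M], MF[M]⁆) n (der_norm _) (normD n)).card_dvd (PHom.im_norm n)
  rw [PHom.card_im_inj (φ := quo _) (normD n) (by
      rw [quo_ker, eq_bot_iff, ← u3.inf_bot, inf_comm]; exact inf_le_inf_right _ (der_le _)),
    card_quo (der_norm _)] at b1
  have b2 := card_mul_relIndex (der_le MF[M])
  have b3 : ⁅MF[M], MF[M]⁆.relIndex MF[M] ≠ 1 := fun d =>
    ((MF_nil M).sol.der_lt (MF_chain h.hM.max).1).not_ge (relIndex_eq_one.1 d)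
  have b4 := relIndex_pos ⁅MF[M], MF[M]⁆ MF[M]
  have b5 := two_mul_le_of_odd_dvd (mso_odd U₀)
    (Nat.Odd.sub_odd ((mso_odd _).of_dvd_nat (relIndex_dvd _ _)) odd_one) (by omega) b1
  have o3 : ∀ X : Subgroup G, X ≠ ⊥ → 3 ≤ #X := fun X a => by
    have := one_lt_card a
    obtain ⟨n, hn⟩ := mso_odd X
    omega
  have := o3 _ u4
  refine c12_final (e := #E) (k := ⁅MF[M], MF[M]⁆.relIndex MF[M]) (d := #⁅MF[M], MF[M]⁆)
    (m := #(L ⊓ M)) (h := #MF[L]) (r := nrm (rho M (ν χ))) (o3 _ hE.ne_r) (by omega) (card_pos _)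
    (card_pos _) (card_le (h.inf_le hE)) ?_ (by linarith)
  rw [b2, sd.card, nrm_eq_sum]
  refine mul_le_mul_of_nonneg_left ?_ (by positivity)
  have f : (Finset.univ.filter fun g : M => (g : G) ∈ MF[M] ∧ (g : G) ∉ ⁅MF[M], MF[M]⁆).card =
      #MF[M] - #⁅MF[M], MF[M]⁆ := by
    rw [← ncard_sdiff (der_le _), ← Set.ncard_coe_finset, ← Set.ncard_image_of_injective _
      Subtype.val_injective]
    congr 1; ext y
    simp only [Finset.coe_filter, Finset.mem_univ, true_and, Set.mem_image, Set.mem_setOf_eq]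
    exact ⟨by rintro ⟨y, a, rfl⟩; exact a, fun a => ⟨⟨y, MF_le M a.1⟩, a, rfl⟩⟩
  rw [← f, ← nsmul_eq_mul, ← Finset.sum_const]
  refine (Finset.sum_le_sum fun g hg => ?_).trans (Finset.sum_le_sum_of_subset_of_nonneg
    (Finset.subset_univ _) fun _ _ _ => by positivity)
  obtain ⟨g1, g2⟩ := (Finset.mem_filter.1 hg).2
  have : (3 : ℝ) ≤ #E := by exact_mod_cast o3 _ hE.ne_r
  exact pow_le_pow_left₀ (by linarith) (h.le_norm hE hν hχ h1 g1 g2) 2

end C12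

/-- (12.7) -/
theorem _root_.Cfsg.Agent.BG.TypeF.frob (h : TypeF M) (hU : Sdprod MF[M] U M) :
    Frob MF[M] U M := by
  classical
  refine h.frob_of_tau2 (Set.eq_empty_of_forall_notMem fun q hq => ?_) hU
  have ex : ∃ p, ∃ N : Subgroup G, TypeF N ∧ p ∈ τ2[N] := ⟨q, M, h, hq⟩
  obtain ⟨N, h1, h2⟩ := Nat.find_spec ex
  obtain ⟨L, A, x, c⟩ := exists_c12 h1 h2
  obtain ⟨E, hE⟩ := c.typeF.exists_ofF
  exact c.false_of_frob (c.frob (fun N q a b => Nat.find_min' ex ⟨N, a, b⟩) hE.sd)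

/-- (12.17) -/
theorem exists_ppair : ∃ S T U V W₁ W₂ : Subgroup G, PPair S T U V W₁ W₂ := by
  refine all_typeF_or_pair.resolve_left fun hF => ?_
  have fr : ∀ M : Subgroup G, IsCoatom M → ∀ x ∈ MF[M], x ≠ 1 → M ⊓ C1[x] ≤ MF[M] :=
    fun M hM x a b => by
      obtain ⟨U, hU⟩ := (hF M hM).exists_ofF
      exact ((hF M hM).frob hU.sd).cent_le a b
  have ce : ∀ M : Subgroup G, IsCoatom M → ∀ x ∈ A0 M, C1[x] ≤ M := fun M hM x a => by
    by_contra c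
    obtain ⟨-, N, hN⟩ := A0_supp hM a c
    have n := hF N hN.umax.max
    obtain ⟨b1, b2, y, b3, b4, b5⟩ := n.mem_AA.1 hN.mem
    exact hN.nmem ((MF_A1 n).2 ⟨fr N n.max y b3 b4 ⟨b1, mem_C1.2 b5⟩, b2⟩)
  let s : Setoid {M : Subgroup G // IsCoatom M} :=
    ⟨fun a b => Cjg a.1 b.1, fun a => cjg_refl _, Cjg.symm, Cjg.trans⟩
  obtain ⟨M₀, m, -⟩ := exists_coatom (X := (⊥ : Subgroup G)) mso_top_ne_bot.symm
  haveI : Nonempty (Quotient s) := ⟨Quotient.mk s ⟨M₀, m⟩⟩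
  refine no_frobenius_partition (ι := Quotient s) odd_G (fun i => i.out.1) (fun i => MF[i.out.1])
    (fun i => ((MF_le_Msigma i.out.2).trans (Msigma_le_der i.out.2)).trans_lt (MF_chain i.out.2).2)
    (fun i => (MF_chain i.out.2).1) (fun i x a y b => conj_mem (MF_norm _ a) b)
    (fun i => fr _ i.out.2) (fun i j a => ?_) (fun i g a b c d => ?_) fun g hg => ?_
  · refine coprimeS (Msigma_coprime i.out.2 j.out.2 fun d => a ?_) (MF_le_Msigma i.out.2)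
      (MF_le_Msigma j.out.2)
    rw [← i.out_eq, ← j.out_eq]; exact Quotient.sound d
  · have f := hF _ i.out.2
    refine (nti_of_cent i.out.2 (A1_A0 _) (A1_nonempty i.out.2) (fun g a x b => A1_conj a b)
      fun x a => ce _ i.out.2 x (A1_A0 _ a)).ti g a ((MF_A1 f).2 ⟨b, c⟩) ((MF_A1 f).2 ⟨d, ?_⟩)
    simpa [mul_inv_eq_one] using c
  · obtain ⟨M, hM, a, a1, u, u1, y, e⟩ := Td_cover_F hF hg
    rw [supportR_bot (ce M hM a (A1_A0 M a1))] at u1
    rw [mem_bot.1 u1, mul_one] at e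
    obtain ⟨z, hz⟩ : Cjg M (Quotient.mk s ⟨M, hM⟩).out.1 := (Quotient.mk_out (s := s) ⟨M, hM⟩).symm
    refine ⟨Quotient.mk s ⟨M, hM⟩, z * y, ?_⟩
    rw [← hz, ← cj_MF, show z * y * g * (z * y)⁻¹ = z * a * z⁻¹ by rw [← e]; group]
    exact mem_cj_conj.2 ((MF_A1 (hF M hM)).1 a1).1

end Cfsg.Agent.PF
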