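import Cfsg.Agent.PF.S12b

/-! Peterfalvi (13.2), (13.3).  Notation: `P = MF[S]`, `C = U ⊓ C[MF[S]]`, `H = PC = F[S]`,
`p = #W₂`, `q = #W₁`, `u = C.relIndex U`, `c = #C`. -/

set_option autoImplicit false
set_option linter.unusedSectionVars false

namespace Cfsg.Agent.PF

open Cfsg Cfsg.Agent.Char Cfsg.Agent.BG Subgroup
open scoped ComplexConjugate

variable {G : Type*} [Group G] [Fintype G]

/-- `λ ∈ 𝒮` is irreducible and induced from a linear character of `H = F(S)` -/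
structure IrrInd (S : Subgroup G) (l : S → ℂ) : Prop where
  mem : l ∈ S0 S
  irr : IsIrrCharacter S l
  ind : IndLin S F[S] l

variable [hG : MSO G] {S U W₁ W₂ : Subgroup G}

/-- the choice of `τ₁` in (13.3.c) -/
structure TIred (h : PD S U W₁ W₂) (ν : CMap S G) : Prop extends CohWith (S0 S) (tau S) ν where
  muR : (∀ j, j ≠ 1 → ν (h.μR j) = ∑ i, h.η i j) ∨ ∀ j, j ≠ 1 → ν (h.μR j) = -∑ i, h.η i j⁻¹

end Cfsg.Agent.PF

namespace Cfsg.Agent.BG.PD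

open Cfsg Cfsg.Agent.Char Cfsg.Agent.PF Subgroup

variable {G : Type*} [Group G] [Fintype G] [hG : MSO G] {S U W₁ W₂ : Subgroup G}

/-- (13.2.a) -/
theorem abelU (h : PD S U W₁ W₂) : Abel U :=
  h.typeP.p1_or_p2.elim (fun h1 => (h.galois_of_p1 h1).2.abel) h.p2_abel
/-- (13.2.a) -/
theorem p2_of_lt (h : PD S U W₁ W₂) (hlt : #W₁ < #W₂) : TypeP2 S :=
  h.typeP.p1_or_p2.resolve_left fun h1 => lt_asymm hlt (h.lt_of_p1 h1)
/-- (13.2.b) -/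
theorem abelem (h : PD S U W₁ W₂) : Abelem #W₂ MF[S] :=
  ⟨abel_iff_der.2 (le_bot_iff.1 h.p9.der_le0), fun x hx => mem_bot.1 (h.p9.pow_mem x hx)⟩
/-- (13.2.b) -/
theorem card_MF (h : PD S U W₁ W₂) : #MF[S] = #W₂ ^ #W₁ := by
  rw [← h.p9.idx, relIndex_bot_left]
theorem abelF (h : PD S U W₁ W₂) : Abel F[S] :=
  h.F_dp.abel h.abelem.abel (h.abelU.of_le inf_le_left)
theorem card_eq (h : PD S U W₁ W₂) : #S = #W₂ ^ #W₁ * #U * #W₁ := by
  rw [← h.der.card, ← h.sd.card, h.card_MF]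
theorem card_F (h : PD S U W₁ W₂) : #F[S] = #W₂ ^ #W₁ * #(U ⊓ C[MF[S]]) := by
  rw [← h.F_dp.card, h.card_MF]
theorem index_F (h : PD S U W₁ W₂) :
    F[S].relIndex S = (U ⊓ C[MF[S]]).relIndex U * #W₁ := by
  refine Nat.eq_of_mul_eq_mul_left (Nat.card_pos (α := F[S])) ?_
  rw [card_mul_relIndex (BG.F_le S), h.card_eq, h.card_F,
    ← card_mul_relIndex (inf_le_left : U ⊓ C[MF[S]] ≤ U)]
  ring
/-- `P` is a Sylow `p`-subgroup of `G` -/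
theorem syl_MF (h : PD S U W₁ W₂) : Syl #W₂ MF[S] ⊤ :=
  (MF_hall_top h.max).syl (cardS h.le2) (hall_self (h.abelem.pig h.prime2))
/-- (13.2.d) -/
theorem coh (h : PD S U W₁ W₂) : Coh (S0 S) (tau S) := by
  have := h.p9.coh
  rwa [abel_iff_der.1 (h.abelU.of_le inf_le_left), bot_sup_eq, S9_bot] at this
theorem cent_A0 (h : PD S U W₁ W₂) {x : G} (hx : x ∈ A0 S) : C1[x] ≤ S := by_contra fun i => by
  obtain ⟨-, L, e⟩ := A0_supp h.max hx i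
  have hL : TypeF L := by_contra fun j => (e.frob j).1.not_typeP h.typeP
  obtain ⟨a, b, y, c, d, f⟩ := hL.mem_AA.1 e.mem
  exact e.nmem ⟨MF_le_Msigma hL.max ((hL.frob e.sd).cent_le c d ⟨a, mem_C1.2 f⟩), b⟩
/-- (13.2.e) -/
theorem nti_A0 (h : PD S U W₁ W₂) : NTI (A0 S) S :=
  nti_of_cent h.max le_rfl ((A1_nonempty h.max).mono ((A1_sub S).trans (AA_sub S)))
    (fun _ i _ => A0_conj i) fun _ => h.cent_A0
theorem F_sub_A0 (h : PD S U W₁ W₂) : (F[S] : Set G) \ {1} ⊆ A0 S := fun x hx => by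
  obtain ⟨y, a, b⟩ := (bot_or_exists_ne_one W₂).resolve_left h.ne2
  exact AA_sub S (h.mem_AA.2 ⟨h.F_le hx.1, hx.2, y, MF_le_Msigma h.max (h.le2 a), b,
    mem_C.1 (h.abelF (MF_le_F S (h.le2 a))) x hx.1⟩)
/-- (13.2.e) -/
theorem tau_eq_ind (h : PD S U W₁ W₂) {α : S → ℂ} (hα : IsClassFunction S α)
    (hA : ∀ x : S, (x : G) ∉ A0 S → α x = 0) : tau S α = indFun S α :=
  (dade_A0 h.max).dade_eq_indFun hα hA fun _ i _ => supportR_bot (h.cent_A0 i)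
theorem Td_eq (h : PD S U W₁ W₂) {A : Set G} (hA : A ⊆ A0 S) : Td S A = ClS A := by
  ext g
  refine ⟨fun ⟨a, i, r, j, y, e⟩ => ⟨y⁻¹, a, i, ?_⟩,
    fun ⟨y, a, i, e⟩ => ⟨a, i, 1, one_mem _, y⁻¹, by rw [e]; group⟩⟩
  rw [supportR_bot (h.cent_A0 (hA i)), mem_bot] at j
  rw [← mul_one a, ← j, ← e]; group
/-- (13.3.a) -/
theorem muR_mem (h : PD S U W₁ W₂) {j} (hj : j ≠ 1) : h.μR j ∈ S0 S := h.pdF.muR_mem hj
theorem indHC (h : PD S U W₁ W₂) {j} (hj : j ≠ 1) :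
    IndHC S U W₁ ⊥ (U ⊓ C[MF[S]]) (h.μR j) :=
  h.p9.indHC_muR (S9_bot S ▸ h.muR_mem hj)
/-- (13.3.a) -/
theorem indLin_muR (h : PD S U W₁ W₂) {j} (hj : j ≠ 1) : IndLin S F[S] (h.μR j) :=
  h.F_dp.sup ▸ (h.indHC hj).ind
/-- (13.3.a) -/
theorem mu_one (h : PD S U W₁ W₂) (i) {j} (hj : j ≠ 1) :
    h.μ i j 1 = ((U ⊓ C[MF[S]]).relIndex U : ℕ) := by
  have := (h.indHC hj).deg
  rw [μR, h.primeFam.muR_one i, Nat.cast_mul] at this
  exact mul_left_cancel₀ (card_ne_zero W₁) this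
/-- (13.3.c) -/
theorem delta_eq (h : PD S U W₁ W₂) (j) : h.δ j = 1 := by
  by_cases hj : j = 1
  · exact hj ▸ h.primeFam.sign_one
  refine (h.primeFam.sign j).resolve_right fun e => ?_
  obtain ⟨n, hn⟩ := h.primeFam.degree_mod 1 j
  rw [h.mu_one 1 hj, e] at hn
  have a : (((U ⊓ C[MF[S]]).relIndex U : ℕ) : ℤ) = -1 + n * #W₁ := by exact_mod_cast hn
  obtain ⟨m, b⟩ := h.p9.u_mod.dvd
  have c : (#W₁ : ℤ) ∣ 2 := ⟨m + n, by push_cast at b; linarith⟩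
  have := Int.le_of_dvd two_pos c
  have := h.three_le₁
  omega
/-- (13.3.b) -/
theorem irrInd_or (h : PD S U W₁ W₂) : (∃ l, IrrInd S l) ∨
    Galois S U ⊥ ∧ U ⊓ C[MF[S]] = ⊥ ∧ #U * (#W₂ - 1) = #W₂ ^ #W₁ - 1 := by
  refine h.p9.cases.imp (fun ⟨l, a, b, _, d⟩ => ⟨l, indD_subset_bot a, b, h.F_dp.sup ▸ d⟩)
    fun i => ⟨i.1, i.2.1, i.2.2.2.1⟩
theorem muR_one (h : PD S U W₁ W₂) {j} (hj : j ≠ 1) :
    h.μR j 1 = (#W₁ * (U ⊓ C[MF[S]]).relIndex U : ℕ) := (h.indHC hj).deg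
/-- (13.3.c) -/
theorem exists_tired (h : PD S U W₁ W₂) : ∃ ν, TIred h ν := by
  by_cases hi : ∃ χ ∈ S0 S, IsIrrCharacter S χ
  · obtain ⟨χ, a, b⟩ := hi
    obtain ⟨ν, hν⟩ := h.coh
    have c := fun k (hk : k ≠ 1) => h.pdF.cohWith_muR (mso_odd S) le_rfl
      (fun _ => conjFun_mem_indD) hν a b (h.muR_mem hk)
    simp only [h.delta_eq, Int.cast_one, one_smul] at c
    refine ⟨ν, hν, (em _).imp id fun i => ?_⟩
    push Not at i
    obtain ⟨k, hk, i⟩ := i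
    obtain ⟨d, e⟩ := (c k hk).resolve_left i
    intro j hj
    refine ((c j hj).resolve_left fun f => ?_).1
    rcases e j (h.muR_mem hj) ((h.muR_one hj).trans (h.muR_one hk).symm) with rfl | rfl
    · exact i f
    have g := hν.inner _ (h.muR_mem hk) _ (h.muR_mem hj)
    rw [d, f, classInner_neg_left, h.pdF.inner_sum_eta, if_pos rfl, h.primeFam.inner_muR,
      if_neg (hom_inv_ne_self (mso_odd W₂) hk).symm, neg_eq_zero] at g
    exact card_ne_zero W₁ g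
  obtain ⟨k, hk⟩ := h.p9.exists_muR
  have hk := (h.p9.muR_mem_iff.1 hk).1
  obtain ⟨ν, a, b⟩ := h.pdF.exists_cohWith_muR hk
  have c := fun j (hj : j ≠ 1) => (h.muR_one hj).trans (h.muR_one hk).symm
  refine ⟨ν, a.mono fun φ hφ => ?_, Or.inl fun j hj => ?_⟩
  · obtain ⟨j, d, e⟩ := (h.pdF.cases_indD hφ).resolve_right fun i => hi ⟨φ, hφ, i.1⟩
    exact ⟨j, d, c j d, e⟩
  · rw [b j hj (c j hj), h.delta_eq, Int.cast_one, one_smul]

end Cfsg.Agent.BG.PD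

namespace Cfsg.Agent.PF

end Cfsg.Agent.PF
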