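import Cfsg.Agent.PF.S13a

/-! Peterfalvi (13.4) - (13.10). -/

set_option autoImplicit false
set_option linter.unusedSectionVars false

namespace Cfsg.Agent.PF

open Cfsg Cfsg.Agent.Char Cfsg.Agent.BG Subgroup
open scoped ComplexConjugate

section General

variable {L : Type*} [Group L] [Fintype L] {Z H P : Subgroup L}

/-- a virtual character without zeros on a set stable under Galois conjugation -/
theorem card_le_sum_sq {χ : L → ℂ} (h : IsGeneralizedCharacter L χ) (s : Finset L)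
    (hs : ∀ m : ℕ, m.Coprime (Nat.card L) → ∀ g ∈ s, g ^ m ∈ s) (hne : ∀ g ∈ s, χ g ≠ 0) :
    (s.card : ℝ) ≤ ∑ g ∈ s, ‖χ g‖ ^ 2 := by
  classical
  have p : ∀ g ∈ s, 0 < ‖χ g‖ ^ 2 := fun g i => pow_pos (norm_pos_iff.2 (hne g i)) 2
  obtain ⟨n, hn⟩ := exists_int_of_fixed (z := ∏ g ∈ s, χ g * χ g⁻¹) (IsIntegral.prod _ fun g _ =>
    (h.isIntegral g).mul (h.isIntegral _)) fun σ => by
    obtain ⟨m, hm1, hm⟩ := ringHom_exists_pow_char (G := L) σ.toRingHom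
    have e : ∀ g, σ (χ g) = χ (g ^ m) := hm χ h
    have i : Function.Injective fun g : L => g ^ m := (powCoprime hm1.symm).injective
    have j : s.image (fun g => g ^ m) = s := Finset.eq_of_subset_of_card_le
      (Finset.image_subset_iff.2 (hs m hm1)) (Finset.card_image_of_injective _ i).ge
    simp only [map_prod, map_mul, e, inv_pow]
    conv_rhs => rw [← j, Finset.prod_image fun _ _ _ _ e => i e]
  have hn' : ∏ g ∈ s, ‖χ g‖ ^ 2 = n := by
    rw [show ∏ g ∈ s, χ g * χ g⁻¹ = ((∏ g ∈ s, ‖χ g‖ ^ 2 : ℝ) : ℂ) by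
      simp [h.apply_inv, Complex.mul_conj, Complex.normSq_eq_norm_sq]] at hn
    exact_mod_cast hn
  have hge : (1 : ℝ) ≤ ∏ g ∈ s, ‖χ g‖ ^ 2 := by
    have := Finset.prod_pos p
    rw [hn'] at this ⊢
    have : 0 < n := by exact_mod_cast this
    exact_mod_cast this
  have := Real.log_nonneg hge
  rw [Real.log_prod fun g i => (p g i).ne'] at this
  have := this.trans (Finset.sum_le_sum fun g i => Real.log_le_sub_one_of_pos (p g i))
  rw [Finset.sum_sub_distrib, Finset.sum_const, nsmul_eq_mul, mul_one] at this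
  linarith

theorem indD_subset_span (hZH : Z ≤ H) {φ : L → ℂ} (hφ : φ ∈ indD Z P ⊥) :
    φ ∈ Submodule.span ℤ (indD H P ⊥) := by
  obtain ⟨l, hl, -, ⟨a, ha, h1⟩, rfl⟩ := hφ
  rw [indFun_eq_sum_indFun hZH]
  refine Submodule.sum_mem _ fun θ _ => ?_
  by_cases h : classInner l (fun z : Z => (θ : H → ℂ) (inclusion hZH z)) = 0
  · simp [h]
  have c := θ.2.isCharacter.comp (inclusion hZH)
  obtain ⟨n, hn⟩ := hl.isCharacter.classInner_nat c
  have : indFun H θ.1 ∈ indD H P ⊥ := ⟨θ, θ.2, fun a ha => by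
    rw [show a = 1 from Subtype.ext (mem_bot.1 ha)], ⟨inclusion hZH a, ha, fun e => h1 <|
      c.apply_eq_of_constituent hl (fun i => h (classInner_eq_zero_comm.1 i))
    (e.trans (congrArg θ.1 (map_one (inclusion hZH)).symm))⟩, rfl⟩
  exact hn ▸ natCast_smul_mem_span (Submodule.subset_span this) n

theorem exists_homMap {W : Type*} [Group W] [Finite W] (hp : (Nat.card W).Prime)
    {i k : W →* ℂˣ} (hi : i ≠ 1) (hk : k ≠ 1) : ∃ u : ℂ →+* ℂ, homMap u i = k := by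
  have := Fact.mk hp
  have c : Nat.card (W →* ℂˣ) = Nat.card W :=
    card_hom_of_comm (isCyclic_of_prime_card rfl).isMulCommutative.is_comm.comm
  obtain ⟨m, rfl⟩ := mem_powers_of_prime_card c hi (g' := k)
  obtain ⟨σ, e⟩ := exists_ringEquiv_pow hp.ne_zero (m := m) ((hp.coprime_iff_not_dvd.2
    fun j => hk (orderOf_dvd_iff_pow_eq_one.1 ((c ▸ orderOf_dvd_natCard i).trans j))).symm)
  exact ⟨σ, MonoidHom.ext fun w => Units.ext (by simpa using e _ (hom_pow_card i w))⟩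

theorem pow_notMem_clS {m : ℕ} (hm : m.Coprime (Nat.card L)) {g : L}
    (h : g ∉ ClS ((H : Set L) \ {1})) : g ^ m ∉ ClS ((H : Set L) \ {1}) := by
  rintro ⟨y, a, b, c⟩
  obtain ⟨k, e⟩ := exists_pow_eq_self_of_coprime (hm.coprime_dvd_right (orderOf_dvd_natCard g))
  rw [c, conj_pow] at e
  refine h ⟨y, _, ⟨pow_mem b.1 k, fun i => b.2 ?_⟩, e.symm⟩
  rw [← e, show a ^ k = 1 from i] at c
  simpa using c.symm

theorem ncard_diff_one (H : Subgroup L) : (((H : Set L) \ {1}).ncard : ℝ) = Nat.card H - 1 := by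
  rw [eq_sub_iff_add_eq]
  exact_mod_cast Set.ncard_sdiff_singleton_add_one H.one_mem

theorem cover_pair {A B : Set L} {R R' : L → Subgroup L} (h1 : DadeHypothesis A Z R)
    (h2 : DadeHypothesis B H R') (hd : Disjoint (dadeSupp A R) (dadeSupp B R')) :
    ∃ s : Finset L, (∀ g, g ∈ s ↔ g ∉ dadeSupp A R ∧ g ∉ dadeSupp B R') ∧
      (∀ χ, IsClassFunction L χ → (Nat.card L : ℝ)⁻¹ * ∑ g ∈ s, ‖χ g‖ ^ 2 +
        (nrm (invDade A Z R χ) + nrm (invDade B H R' χ)) ≤ nrm χ) ∧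
      (Nat.card L : ℝ)⁻¹ * s.card + ((A.ncard : ℝ) / Nat.card Z + B.ncard / Nat.card H) = 1 := by
  have a : ∀ i ∈ Finset.univ, DadeHypothesis (cond i A B) (cond i Z H) (cond i R R') :=
    fun i _ => by cases i; exacts [h2, h1]
  have b : ∀ i ∈ Finset.univ, ∀ j ∈ Finset.univ, i ≠ j → Disjoint
      (dadeSupp (cond i A B) (cond i R R')) (dadeSupp (cond j A B) (cond j R R')) :=
    fun i _ j _ e => by cases i <;> cases j; exacts [(e rfl).elim, hd.symm, hd, (e rfl).elim]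
  have c := fun χ i => cover_le _ a b (χ := χ) i
  have d := cover_card _ a b
  simp only [Fintype.sum_bool] at c d
  refine ⟨_, fun g => ?_, c, d⟩
  simp only [Finset.mem_filter, Finset.mem_univ, true_and, forall_true_left, Bool.forall_bool]
  exact and_comm

variable [H.Normal] [P.Normal]

theorem deg_of_comm (hc : ∀ a b : H, a * b = b * a) {φ : L → ℂ} (h : φ ∈ indD H P ⊥) :
    φ 1 = H.index := by
  obtain ⟨θ, a, -, -, rfl⟩ := h
  rw [indFun_one, a.one_eq_one_of_comm hc, mul_one]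

/-- (13.5) -/
theorem split13 (hc : ∀ a b : H, a * b = b * a) (hPH : P ≤ H) {f ζ ρ : L → ℂ}
    (hf : IsGeneralizedCharacter L f) (hζ : ζ ∈ indD H P ⊥) {a : ℤ}
    (h : ∀ φ ∈ indD H P ⊥, classInner f (φ - ζ) = a / nrm ζ * classInner ζ (φ - ζ))
    (h1 : ∀ x ∈ H, x ≠ 1 → ρ x = f x) (h2 : ρ 1 = 0) (h3 : ∀ x, x ∉ H → ρ x = 0) :
    ∃ (α : H → ℂ) (k : ℤ), IsGeneralizedCharacter H α ∧
      (∀ x : H, x ≠ 1 → f x = a / nrm ζ * ζ x + α x) ∧ (∀ x : H, (x : L) ∈ P → α x = k) ∧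
      H.index * nrm ρ = H.index * a ^ 2 / nrm ζ + nrm α -
        (a * H.index / nrm ζ + k) ^ 2 / Nat.card H ∧
      Nat.card P * (k : ℝ) ^ 2 ≤ Nat.card H * nrm α := by
  classical
  have cζ := isCharacter_of_mem_indD hζ
  have n0 : nrm ζ ≠ 0 := (nrm_pos (ne_zero_of_mem_indD hζ)).ne'
  have n1 : (nrm ζ : ℂ) ≠ 0 := by exact_mod_cast n0
  obtain ⟨b, hb⟩ := hf.classInner_int cζ.isGen
  obtain ⟨α, hα⟩ : ∃ α : H → ℂ, α = (fun x : H => (f - ((a : ℂ) / nrm ζ) • ζ) x) -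
      ((b : ℂ) - a) • fun x => if x = 1 then (Nat.card H : ℂ) else 0 := ⟨_, rfl⟩
  have cl : ∀ F : H → ℂ, IsClassFunction H F := fun F x y => by rw [hc y, mul_inv_cancel_right]
  have i0 : ∀ θ, IsIrrCharacter H θ → classInner α θ =
      classInner f (indFun H θ) - a / nrm ζ * classInner ζ (indFun H θ) - (b - a) := fun θ hθ => by
    rw [hα, classInner_sub_left, ← classInner_indFun_right H θ
      (hf.isClassFunction.sub (cζ.isClassFunction.smul _)), classInner_smul_left, ← conj_classInner θ,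
      classInner_regular, hθ.one_eq_one_of_comm hc, classInner_sub_left, classInner_smul_left]
    simp
  have m : ∀ θ, IsIrrCharacter H θ → ¬ (∀ x : H, (x : L) ∈ P → θ x = θ 1) →
      indFun H θ ∈ indD H P ⊥ := fun θ hθ i => ⟨θ, hθ, fun a ha => by
    rw [show a = 1 from Subtype.ext (mem_bot.1 ha)], by push Not at i; exact i, rfl⟩
  have i1 : ∀ θ, IsIrrCharacter H θ → ¬ (∀ x : H, (x : L) ∈ P → θ x = θ 1) →
      classInner α θ = 0 := fun θ hθ i => by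
    have := h _ (m θ hθ i)
    rw [classInner_sub_right, classInner_sub_right, hb, classInner_self_nrm] at this
    rw [i0 θ hθ, sub_eq_iff_eq_add.1 this]; field_simp; ring
  have i2 : ∀ θ, IsIrrCharacter H θ → (∀ x : H, (x : L) ∈ P → θ x = θ 1) →
      classInner ζ (indFun H θ) = 0 := fun θ hθ i => by
    obtain ⟨θ₀, c, -, -, d⟩ := id hζ
    refine d ▸ indFun_eq_or_orth c hθ fun e => ?_
    obtain ⟨x, u, v⟩ := ((indFun_mem_indD_iff hθ).1 (e ▸ d ▸ hζ)).2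
    exact v (i x u)
  have g : IsGeneralizedCharacter H α := (cl α).isGen_of_classInner fun θ hθ => by
    by_cases i : ∀ x : H, (x : L) ∈ P → θ x = θ 1
    · obtain ⟨c, d⟩ := hf.classInner_int hθ.isGen.indFun
      exact ⟨c - (b - a), by rw [i0 θ hθ, i2 θ hθ i, d]; simp⟩
    · exact ⟨0, by rw [i1 θ hθ i]; simp⟩
  obtain ⟨k, hk⟩ := g.exists_int
  have e1 : ∀ x : H, x ≠ 1 → f x = a / nrm ζ * ζ x + α x := fun x i => by simp [hα, i]
  have e2 : ∀ x : H, (x : L) ∈ P → α x = k := fun x i => by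
    rw [← hk, (cl α).apply_eq_sum_irr x, (cl α).apply_eq_sum_irr 1]
    refine Finset.sum_congr rfl fun θ _ => ?_
    by_cases j : ∀ x : H, (x : L) ∈ P → θ.1 x = θ.1 1
    · rw [j x i]
    · rw [i1 _ θ.2 j, zero_mul, zero_mul]
  have o : classInner (fun x : H => ζ x) α = 0 := by
    rw [(cl _).classInner_eq_sum_irr]
    refine Finset.sum_eq_zero fun θ _ => ?_
    by_cases j : ∀ x : H, (x : L) ∈ P → θ.1 x = θ.1 1
    · rw [← classInner_indFun_right H _ cζ.isClassFunction, i2 _ θ.2 j, zero_mul]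
    · rw [i1 _ θ.2 j, map_zero, mul_zero]
  have r : ∀ F : L → ℂ, (∀ x, x ∉ H → F x = 0) → nrm (fun x : H => F x) = H.index * nrm F :=
    fun F i => nrm_eq_iff.2 (by
      rw [classInner_restrict_of_vanish i, classInner_self_nrm]; simp)
  refine ⟨α, k, g, e1, e2, ?_, ?_⟩
  · rw [← r ρ h3, nrm_eq_sub (F := ((a / nrm ζ : ℝ) : ℂ) • (fun x : H => ζ x) + α)
      (fun x i => by rw [h1 x x.2 fun j => i (Subtype.ext j), e1 x i]; simp) h2,
      nrm_add_of_orth (by rw [classInner_smul_left, o, mul_zero]), nrm_ofReal_smul,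
      r ζ fun x => apply_eq_zero_of_mem_indD hζ,
      show (((a / nrm ζ : ℝ) : ℂ) • (fun x : H => ζ x) + α) 1 =
        ((a * H.index / nrm ζ + k : ℝ) : ℂ) by simp [hk, deg_of_comm hc hζ]; ring,
      Complex.norm_real, Real.norm_eq_abs, sq_abs]
    field_simp
  · rw [nrm_eq_sum, mul_inv_cancel_left₀ (by exact_mod_cast Nat.card_pos.ne'),
      ← card_sub hPH, ← nsmul_eq_mul, Nat.card_eq_fintype_card, ← Finset.card_univ,
      ← Finset.sum_const]
    refine le_trans (le_of_eq ?_) (le_add_of_nonneg_right (Finset.sum_nonneg fun _ _ =>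
      sq_nonneg _) |>.trans (sum_subgroup_add_sum_compl (H := P ⇂ H) fun x => ‖α x‖ ^ 2).le)
    exact Finset.sum_congr rfl fun x _ => by
      rw [e2 x x.2, Complex.norm_intCast, sq_abs]

end General

variable {G : Type*} [Group G] [Fintype G]

/-- the set `𝒮₁` of (13.5) -/
abbrev S1 (S : Subgroup G) : Set (S → ℂ) := indD (F[S] ⇂ S) (MF[S] ⇂ S) ⊥
/-- restriction to `H^#` -/
noncomputable abbrev rhoF (S : Subgroup G) : CMap G S :=
  invDade ((F[S] : Set G) \ {1}) S (supportR S)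

variable [hG : MSO G] {S T U V W₁ W₂ : Subgroup G}

theorem TIred.exists_sign {h : PD S U W₁ W₂} {ν : CMap S G} (hν : TIred h ν) :
    ∃ (ε : ℤ) (e : (W₂ →* ℂˣ) → W₂ →* ℂˣ), (ε = 1 ∨ ε = -1) ∧ (∀ j, e (e j) = j) ∧ e 1 = 1 ∧
      ∀ j, j ≠ 1 → ν (h.μR j) = (ε : ℂ) • ∑ i, h.η i (e j) :=
  hν.muR.elim (fun i => ⟨1, id, Or.inl rfl, fun _ => rfl, rfl, by simpa using i⟩)
    fun i => ⟨-1, (·⁻¹), Or.inr rfl, hom_inv_inv, hom_inv_one, by simpa using i⟩

end Cfsg.Agent.PF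

namespace Cfsg.Agent.BG.PD

open Cfsg Cfsg.Agent.Char Cfsg.Agent.PF Subgroup

variable {G : Type*} [Group G] [Fintype G] [hG : MSO G] {S T U V W₁ W₂ : Subgroup G}
  {ν : CMap S G} {ζ l : S → ℂ}

theorem commF (h : PD S U W₁ W₂) (a b : F[S] ⇂ S) : a * b = b * a :=
  Subtype.ext (Subtype.ext (mem_C.1 (h.abelF b.2) _ a.2))

theorem S1_span (h : PD S U W₁ W₂) (hζ : ζ ∈ S1 S) : ζ ∈ Submodule.span ℤ (S0 S) :=
  indD_subset_span (sub_mono h.F_le) hζ

theorem mem_S1 (h : PD S U W₁ W₂) (h1 : ζ ∈ S0 S) (h2 : IndLin S F[S] ζ) : ζ ∈ S1 S := by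
  obtain ⟨l, rfl⟩ := h2
  refine (indFun_mem_indD_iff (isIrrCharacter_hom l)).2 ⟨fun a ha => by
    rw [show a = 1 from Subtype.ext (mem_bot.1 ha)], by_contra fun i => ?_⟩
  push Not at i
  obtain ⟨θ, a, -, ⟨x, b, c⟩, d⟩ := h1
  exact c (a.apply_eq_of_indFun (d ▸ indFun_apply_eq_of_ker (sub_mono (MF_le_F S)) i b))

theorem muR_S1 (h : PD S U W₁ W₂) {j} (hj : j ≠ 1) : h.μR j ∈ S1 S :=
  h.mem_S1 (h.muR_mem hj) (h.indLin_muR hj)

theorem dadeF (h : PD S U W₁ W₂) : DadeHypothesis ((F[S] : Set G) \ {1}) S (supportR S) :=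
  (dade_A0 h.max).mono h.F_sub_A0 fun _ i _ j => ⟨conj_mem (F_norm S i) j.1, by simpa using j.2⟩

theorem supp_S1 (h : PD S U W₁ W₂) {φ : S → ℂ} (h1 : φ ∈ S1 S) (h2 : ζ ∈ S1 S) (x : S)
    (hx : (x : G) ∉ (F[S] : Set G) \ {1}) : (φ - ζ) x = 0 := by
  by_cases i : x = 1
  · rw [i, Pi.sub_apply, deg_of_comm h.commF h1, deg_of_comm h.commF h2, sub_self]
  have j : x ∉ F[S] ⇂ S := fun j => hx ⟨j, fun k => i (Subtype.ext k)⟩
  rw [Pi.sub_apply, apply_eq_zero_of_mem_indD h1 j, apply_eq_zero_of_mem_indD h2 j, sub_self]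

theorem tau_sub (h : PD S U W₁ W₂) (hν : Agree (tau S) ν) {φ : S → ℂ} (h1 : φ ∈ S1 S)
    (h2 : ζ ∈ S1 S) : tau S (φ - ζ) = ν φ - ν ζ :=
  hν.sub ((deg_of_comm h.commF h1).trans (deg_of_comm h.commF h2).symm)

/-- (13.5) -/
theorem split (h : PD S U W₁ W₂) (hν : Agree (tau S) ν) {χ : G → ℂ}
    (hχ : IsGeneralizedCharacter G χ) (hζ : ζ ∈ S1 S) {a : ℤ}
    (ha : ∀ φ ∈ S1 S, classInner χ (ν φ) = a / nrm ζ * classInner ζ φ) :
    ∃ (α : F[S] ⇂ S → ℂ) (k : ℤ), IsGeneralizedCharacter _ α ∧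
      (∀ x : F[S] ⇂ S, x ≠ 1 → χ x = a / nrm ζ * ζ x + α x) ∧
      (∀ x : F[S] ⇂ S, (x : G) ∈ MF[S] → α x = k) ∧
      F[S].relIndex S * nrm (rhoF S χ) = F[S].relIndex S * a ^ 2 / nrm ζ + nrm α -
        (a * F[S].relIndex S / nrm ζ + k) ^ 2 / #F[S] ∧
      #MF[S] * (k : ℝ) ^ 2 ≤ #F[S] * nrm α := by
  rw [← card_sub (BG.F_le S), ← card_sub (MF_le S)]
  refine split13 h.commF (sub_mono (MF_le_F S)) (hχ.restrict S) hζ (fun φ i => ?_) (fun x a b => ?_)
    (invDade_of_notMem _ fun i => i.2 rfl) fun x i => invDade_of_notMem _ fun j => i j.1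
  · rw [← classInner_indFun_right S _ hχ.isClassFunction, ← h.tau_eq_ind
      ((isCharacter_of_mem_indD i).isClassFunction.sub (isCharacter_of_mem_indD hζ).isClassFunction)
      fun x j => h.supp_S1 i hζ x fun k => j (h.F_sub_A0 k), h.tau_sub hν i hζ,
      classInner_sub_right, classInner_sub_right, ha φ i, ha ζ hζ, mul_sub]
  · have c : (x : G) ∈ (F[S] : Set G) \ {1} := ⟨a, fun i => b (Subtype.ext i)⟩
    rw [invDade_of_mem _ c, supportR_bot (h.cent_A0 (h.F_sub_A0 c)), cavg_bot]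

theorem two_u (h : PD S U W₁ W₂) : 2 * ((U ⊓ C[MF[S]]).relIndex U : ℝ) + 1 ≤ #MF[S] := by
  have a := h.p9.u_le
  have b := Nat.mul_le_mul_left ((U ⊓ C[MF[S]]).relIndex U)
    (show 2 ≤ #W₂ - 1 by have := h.three_le₂; omega)
  have c := h.card_MF ▸ Nat.card_pos (α := MF[S])
  exact_mod_cast (by rw [h.card_MF]; omega : 2 * (U ⊓ C[MF[S]]).relIndex U + 1 ≤ #MF[S])

/-- the congruence used in (13.6), (13.7) -/
theorem exists_dvdA (h : PD S U W₁ W₂) : ∃ (ε : ℂ) (w : W₁ × W₂) (x : F[S] ⇂ S),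
    IsPrimitiveRoot ε #W₁ ∧ w.1 ≠ 1 ∧ w.2 ≠ 1 ∧ x ≠ 1 ∧ (x : G) = w.2 ∧
      (∀ χ, IsGeneralizedCharacter G χ → DvdA (1 - ε) (χ (h.ι w) - χ x)) ∧
      ∀ χ, IsGeneralizedCharacter S χ → DvdA (1 - ε) (χ (h.ι w) - χ x) := by
  obtain ⟨y, a, b⟩ := (bot_or_exists_ne_one W₁).resolve_left h.ne1
  obtain ⟨x, c, d⟩ := (bot_or_exists_ne_one W₂).resolve_left h.ne2
  have n := (Nat.card_pos (α := W₁)).ne'
  have e := Complex.isPrimitiveRoot_exp _ n
  have f : y ^ #W₁ = 1 := congrArg Subtype.val (pow_card_eq_one' (x := (⟨y, a⟩ : W₁)))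
  exact ⟨_, (⟨y, a⟩, ⟨x, c⟩), ⟨⟨x, MF_le S (h.le2 c)⟩, MF_le_F S (h.le2 c)⟩, e,
    fun i => b (congrArg Subtype.val i), fun i => d (congrArg Subtype.val i),
    fun i => d (congrArg (fun z : F[S] ⇂ S => (z : G)) i), rfl,
    fun χ i => i.dvdA_sub n e f (h.comm y a x c), fun χ i => i.dvdA_sub (x := ⟨y, h.le1 a⟩)
      (y := ⟨x, MF_le S (h.le2 c)⟩) n e (Subtype.ext f) (Subtype.ext (h.comm y a x c))⟩

theorem orth_irr (h : PD S U W₁ W₂) (hν : CohWith (S0 S) (tau S) ν) (h1 : l ∈ S0 S)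
    (h2 : IsIrrCharacter S l) (i j) : classInner (ν l) (h.η i j) = 0 :=
  h.pdF.orth_of_cohWith le_rfl hν h1 (conjFun_mem_indD h1) h2 h2.conjF
    (conjFun_ne_of_mem_indD (mso_odd S) h1).symm h2.isCharacter.conjFun_one.symm i j

/-- (13.6) -/
theorem lb6 (h : PD S U W₁ W₂) (hν : CohWith (S0 S) (tau S) ν) (hl : IrrInd S l) :
    1 - (F[S].relIndex S : ℝ) / #F[S] ≤ nrm (rhoF S (ν l)) := by
  have m := h.mem_S1 hl.mem hl.ind
  obtain ⟨α, k, -, a, b, c, d⟩ := h.split hν.agree (hν.gen l hl.mem) m (a := 1) fun φ i => by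
    rw [hν.span.inner l (Submodule.subset_span hl.mem) φ (h.S1_span i), hl.irr.nrm_eq]; simp
  obtain ⟨ε, w, x, e, w1, w2, x1, ex, f, g⟩ := h.exists_dvdA
  have f := (g l hl.irr.isGen).sub (f _ (hν.gen l hl.mem))
  rw [hl.irr.nrm_eq] at a c
  rw [a x x1, b x (ex ▸ h.le2 w.2.2), show ν l (h.ι w) = 0 from h.cycFam.vanish
    (hν.gen l hl.mem).isClassFunction (h.orth_irr hν hl.mem hl.irr) w1 w2,
    apply_eq_zero_of_mem_indD hl.mem fun i => w1 ((h.primeTI.mem_iff w).1 i),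
    show 0 - l x - (0 - (((1 : ℤ) : ℂ) / (1 : ℝ) * l x + k)) = k by simp] at f
  obtain ⟨m, rfl⟩ := f.prime_dvd h.prime1 e
  have p1 : (0 : ℝ) < #F[S] := by exact_mod_cast Nat.card_pos
  have p2 : (0 : ℝ) < F[S].relIndex S := by exact_mod_cast relIndex_pos _ _
  have p3 : (m : ℝ) ≤ m ^ 2 := by exact_mod_cast Int.le_self_sq m
  have p4 := h.two_u
  refine le_of_mul_le_mul_left (le_of_mul_le_mul_left ?_ p1) p2
  rw [c]
  field_simp
  rw [h.index_F] at *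
  push_cast at *
  nlinarith [mul_le_mul_of_nonneg_right p4 (sq_nonneg ((#W₁ : ℝ) * m)),
    mul_le_mul_of_nonneg_left p3 (by positivity :
      (0 : ℝ) ≤ 2 * ((U ⊓ C[MF[S]]).relIndex U : ℝ) * (#W₁) ^ 2)]

theorem inner_eta (h : PD S U W₁ W₂) (i j l) :
    classInner (h.η i j) (∑ k, h.η k l) = if j = l then 1 else 0 := by
  simp [classInner_sum_right, h.cycFam.inner, ite_and]

/-- (13.7) -/
theorem lb7 (h : PD S U W₁ W₂) (i) :
    ((#F[S] : ℝ) - 1) / #S ≤ nrm (rhoF S (h.η i 1)) := by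
  obtain ⟨ν, hν⟩ := h.exists_tired
  obtain ⟨δ, σ, -, s1, s2, s3⟩ := hν.exists_sign
  obtain ⟨j, hj⟩ := h.p9.exists_muR
  obtain ⟨α, k, g, a, b, c, d⟩ := h.split hν.agree (h.cycFam.isGen i 1)
    (h.muR_S1 (h.p9.muR_mem_iff.1 hj).1) (a := 0) fun φ u => by
    rw [Int.cast_zero, zero_div, zero_mul, classInner_eq_zero_comm]
    refine Submodule.span_induction (fun ψ v => ?_) (by simp) (fun _ _ _ _ a b => by
      rw [map_add, classInner_add_left, a, b, add_zero]) (fun n _ _ a => by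
      rw [map_zsmul, classInner_zsmul_left, a, mul_zero]) (h.S1_span u)
    rcases h.pdF.cases_indD v with ⟨l, y, rfl⟩ | y
    · rw [s3 l y, classInner_eq_zero_comm, classInner_smul_right, h.inner_eta,
        if_neg fun z => y (by rw [← s1 l, ← z, s2]), mul_zero]
    · exact h.orth_irr hν.1 v y.1 i 1
  have n : α ≠ 0 := fun z => by
    obtain ⟨ε, w, x, e, w1, w2, x1, ex, f, -⟩ := h.exists_dvdA
    have f := f _ (h.cycFam.isGen i 1)
    rw [a x x1, z, show h.η i 1 (h.ι w) = _ from h.cycFam.apply_V i 1 w1 w2] at f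
    have := ((dvdA_one_sub_of_pow_eq_one Nat.card_pos.ne' e (hom_pow_card i w.1)).add f)
    rw [show 1 - (i w.1 : ℂ) + _ = (1 : ℤ) by simp [om_apply]] at this
    exact h.prime1.not_dvd_one (by exact_mod_cast this.prime_dvd h.prime1 e)
  have p1 : (0 : ℝ) < #F[S] := by exact_mod_cast Nat.card_pos
  have p2 : (0 : ℝ) < F[S].relIndex S := by exact_mod_cast relIndex_pos _ _
  have p3 : (#F[S] : ℝ) - 1 ≤ #F[S] * nrm α - k ^ 2 := by
    obtain ⟨N, hN⟩ := g.exists_nrm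
    have p4 : 1 ≤ N := by exact_mod_cast hN ▸ g.one_le_nrm n
    rcases p4.eq_or_lt with rfl | p4
    · obtain ⟨ε, θ, u, v, y⟩ := (g.isDirr' (hN.trans Nat.cast_one)).exists_sign
      have := b 1 (one_mem _)
      rw [y, Pi.smul_apply, v.one_eq_one_of_comm h.commF, smul_eq_mul, mul_one] at this
      have : (k : ℂ) ^ 2 = 1 := by rcases u with rfl | rfl <;> simp [← this]
      rw [hN, show (k : ℝ) ^ 2 = 1 by exact_mod_cast this]; simp
    have p5 : (2 : ℝ) ≤ N := by exact_mod_cast p4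
    have p6 : (1 : ℝ) ≤ (U ⊓ C[MF[S]]).relIndex U := by exact_mod_cast relIndex_pos _ _
    rw [hN] at d ⊢
    nlinarith [h.two_u, sq_nonneg (k : ℝ)]
  rw [← card_mul_relIndex (BG.F_le S)]
  refine le_of_mul_le_mul_left (le_of_mul_le_mul_left ?_ p1) p2
  rw [c]
  push_cast
  field_simp
  simpa using p3

/-- (13.8) -/
theorem lb8 (h : PD S U W₁ W₂) {j} (hj : j ≠ 1) :
    1 / (#W₁ : ℝ) - ((U ⊓ C[MF[S]]).relIndex U : ℝ) ^ 2 / #S ≤ nrm (rhoF S (h.η 1 j)) := by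
  obtain ⟨ν, hν⟩ := h.exists_tired
  obtain ⟨δ, σ, s0, s1, s2, s3⟩ := hν.exists_sign
  have s4 : σ j ≠ 1 := fun z => hj (by rw [← s1 j, z, s2])
  have q0 := card_ne_zero W₁
  obtain ⟨α, k, g, a, b, c, d⟩ := h.split hν.agree (h.cycFam.isGen 1 j)
    (h.muR_S1 s4) (a := δ) fun φ u => by
    refine Submodule.span_induction (fun ψ v => ?_) (by simp) (fun _ _ _ _ a b => by
      rw [map_add, classInner_add_right, classInner_add_right, a, b, mul_add]) (fun n _ _ a => by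
      rw [map_zsmul, classInner_zsmul_right, classInner_zsmul_right, a]; ring) (h.S1_span u)
    rcases h.pdF.cases_indD v with ⟨l, y, rfl⟩ | y
    · rw [s3 l y, classInner_smul_right, h.inner_eta, h.primeFam.inner_muR, h.primeFam.nrm_muR]
      by_cases z : j = σ l
      · simp [z, s1, q0]
      · rw [if_neg z, if_neg fun e => z (by rw [← e, s1]), mul_zero, mul_zero]
    · rw [classInner_eq_zero_comm.1 (h.orth_irr hν.1 v y.1 1 j), orth_of_mem_indD (h.muR_mem s4) v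
        fun e => h.primeFam.not_irr_muR _ (e ▸ y.1), mul_zero]
  have p1 : (0 : ℝ) < #F[S] := by exact_mod_cast Nat.card_pos
  have p2 : (0 : ℝ) < F[S].relIndex S := by exact_mod_cast relIndex_pos _ _
  have p0 : (0 : ℝ) < #W₁ := by exact_mod_cast Nat.card_pos
  have p5 : (δ : ℝ) ^ 2 = 1 := by rcases s0 with rfl | rfl <;> simp
  have p3 : (δ : ℝ) * k ≤ k ^ 2 := by
    have : ((δ * k : ℤ) : ℝ) ≤ (δ * k : ℤ) ^ 2 := by exact_mod_cast Int.le_self_sq _
    push_cast at this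
    rwa [mul_pow, p5, one_mul] at this
  have p4 := h.two_u
  rw [← card_mul_relIndex (BG.F_le S)]
  refine le_of_mul_le_mul_left (le_of_mul_le_mul_left ?_ p1) p2
  rw [c, h.primeFam.nrm_muR, p5]
  rw [h.index_F] at *
  push_cast at *
  have p6 : (0 : ℝ) < (U ⊓ C[MF[S]]).relIndex U := by exact_mod_cast relIndex_pos _ _
  field_simp
  nlinarith [mul_le_mul_of_nonneg_right p4 (sq_nonneg (k : ℝ)), mul_le_mul_of_nonneg_left p3 p6.le,
    congrArg (((U ⊓ C[MF[S]]).relIndex U : ℝ) ^ 2 * ·) p5]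

theorem disj_F (h : PD S U W₁ W₂) (h' : PD T V W₂ W₁) :
    Disjoint (Td S ((F[S] : Set G) \ {1})) (Td T ((F[T] : Set G) \ {1})) := by
  rw [h.Td_eq h.F_sub_A0, h'.Td_eq h'.F_sub_A0, Set.disjoint_left]
  rintro g ⟨y, a, i, rfl⟩ ⟨z, b, j, e⟩
  have c : BG.cj (z⁻¹ * y) MF[S] ≤ T := by
    refine le_trans (fun x k => mem_C1.2 ?_) (h'.cent_A0 (h'.F_sub_A0 j))
    have := mem_C.1 (h.abelF i.1) _ (MF_le_F S (mem_cj.1 k))
    rw [show b = z⁻¹ * (y * a * y⁻¹) * z by rw [e]; group]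
    calc _ = z⁻¹ * y * ((z⁻¹ * y)⁻¹ * x * (z⁻¹ * y) * a) * (z⁻¹ * y)⁻¹ := by group
      _ = _ := by rw [this]; group
  have d := cardS c
  rw [card_cj, h.card_MF, ← h'.der.card] at d
  have := (Nat.pow_dvd_pow_iff_le_right h.prime2.one_lt).1
    ((h'.cop.pow_left _).dvd_of_dvd_mul_left d |>.trans (pow_one _).symm.dvd)
  have := h.three_le₁
  omega

/-- (13.9.a) -/
theorem cover9 (h : PD S U W₁ W₂) (hν : TIred h ν) (hl : IrrInd S l) {i} (hi : i ≠ 1) {g : G}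
    (hg : g ∉ Td S ((F[S] : Set G) \ {1})) (h1 : h.η i 1 g = 0) : ν l g ≠ 0 := fun h2 => by
  classical
  obtain ⟨δ, σ, s0, -, -, s3⟩ := hν.exists_sign
  obtain ⟨j, hj⟩ := h.p9.exists_muR
  have hj := (h.p9.muR_mem_iff.1 hj).1
  have m := h.mem_S1 hl.mem hl.ind
  have a := tau_of_notMem h.max (hl.irr.isClassFunction.sub
    (h.primeFam.isCharacter_muR j).isClassFunction) (h.supp_S1 m (h.muR_S1 hj)) hg
  rw [h.tau_sub hν.agree m (h.muR_S1 hj), s3 j hj, Pi.sub_apply, h2, zero_sub, neg_eq_zero,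
    Pi.smul_apply, smul_eq_zero, Finset.sum_apply] at a
  have a := a.resolve_left (by rcases s0 with rfl | rfl <;> simp)
  have b : ∀ k, h.η k (σ j) g = h.η 1 (σ j) g - 1 + h.η k 1 g := fun k => by
    have := congrFun (h.cycFam.ind k (σ j)) g
    rw [indH_eq_zero fun x w e => alph_eq_zero _ _ w (by_contra fun c => by
      push Not at c
      have := h.cycFam.apply_V i 1 c.1 c.2
      rw [← e, h.cycFam.cf, h1] at this
      simpa [om_apply] using this.symm), h.cycFam.one] at this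
    simp only [Pi.add_apply, Pi.sub_apply] at this
    linear_combination -this
  rw [Finset.sum_congr rfl fun k _ => b k, Finset.sum_add_distrib, Finset.sum_const,
    Finset.card_univ, h.cycTI.card_hom₁, Finset.sum_eq_single 1 (fun k _ c => by
      obtain ⟨u, rfl⟩ := exists_homMap h.prime1 hi c
      rw [← homMap_one u, h.cycFam.map_eta, h1, map_zero]) (by simp), h.cycFam.one] at a
  exact h.prime1.not_dvd_one (by exact_mod_cast DvdA.int_dvd (a := #W₁) (b := 1) ⟨1 - h.η 1 (σ j) g,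
    isIntegral_one.sub ((h.cycFam.isGen _ _).isIntegral g), by
      push_cast; rw [nsmul_eq_mul] at a; linear_combination a⟩)

end Cfsg.Agent.BG.PD

namespace Cfsg.Agent.PF

open Cfsg Cfsg.Agent.Char Cfsg.Agent.BG Subgroup
open scoped ComplexConjugate

variable {G : Type*} [Group G] [Fintype G] [hG : MSO G] {S T U V W₁ W₂ : Subgroup G}

/-- (13.4) -/
theorem _root_.Cfsg.Agent.BG.PPair.galois_of_irrInd (h : PPair S T U V W₁ W₂) {l : S → ℂ}
    (hl : IrrInd S l) :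
    Galois T V ⊥ ∧ V ⊓ C[MF[T]] = ⊥ ∧ #V * (#W₁ - 1) = #W₁ ^ #W₂ - 1 := by
  refine h.hT.irrInd_or.resolve_left fun ⟨θ, hθ⟩ => ?_
  obtain ⟨ν, hν⟩ := h.hS.exists_tired
  obtain ⟨ν', hν'⟩ := h.hT.exists_tired
  obtain ⟨δ, σ, s0, -, -, s3⟩ := hν.exists_sign
  obtain ⟨δ', σ', t0, -, -, t3⟩ := hν'.exists_sign
  obtain ⟨j, hj⟩ := h.hS.p9.exists_muR
  obtain ⟨i, hi⟩ := h.hT.p9.exists_muR
  have hj := (h.hS.p9.muR_mem_iff.1 hj).1
  have hi := (h.hT.p9.muR_mem_iff.1 hi).1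
  have m := h.hS.mem_S1 hl.mem hl.ind
  have m' := h.hT.mem_S1 hθ.mem hθ.ind
  have o : ∀ φ ∈ S1 S, ∀ ψ ∈ S1 T, classInner (ν l - ν φ) (ν' θ - ν' ψ) = 0 := fun φ a ψ b => by
    rw [← h.hS.tau_sub hν.agree m a, ← h.hT.tau_sub hν'.agree m' b]
    exact tau_orth_of_disjoint h.hS.max h.hT.max (h.hS.disj_F h.hT)
      (hl.irr.isClassFunction.sub (isCharacter_of_mem_indD a).isClassFunction)
      (hθ.irr.isClassFunction.sub (isCharacter_of_mem_indD b).isClassFunction)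
      (h.hS.supp_S1 m a) (h.hT.supp_S1 m' b)
  have c := conjFun_mem_indD hl.mem
  have c' := conjFun_mem_indD hθ.mem
  have a := (dirr_orthogonal_of_sub (hν.isDirr hl.mem hl.irr) (hν.isDirr c hl.irr.conjF)
    (hν'.isDirr hθ.mem hθ.irr) (hν'.isDirr c' hθ.irr.conjF) one_ne_zero one_ne_zero (map_one _)
    (map_one _) ((hν.inner _ hl.mem _ c).trans (orth_of_mem_indD hl.mem c
      (conjFun_ne_of_mem_indD (mso_odd S) hl.mem).symm))
    ((hν'.inner _ hθ.mem _ c').trans (orth_of_mem_indD hθ.mem c'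
      (conjFun_ne_of_mem_indD (mso_odd T) hθ.mem).symm))
    (by simpa using o _ (conjFun_mem_indD m) _ (conjFun_mem_indD m'))
    (sub_eq_zero.1 ((congrFun (h.hS.tau_sub hν.agree m (conjFun_mem_indD m)) 1).symm.trans
      ((dade_A0 h.hS.max).dade_one _)))
    (congrArg _ (sub_eq_zero.1 ((congrFun (h.hT.tau_sub hν'.agree m' (conjFun_mem_indD m')) 1).symm.trans
      ((dade_A0 h.hT.max).dade_one _))))).1
  have b := o _ (h.hS.muR_S1 hj) _ (h.hT.muR_S1 hi)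
  have d := fun i j => h.hS.orth_irr hν.1 hl.mem hl.irr i j
  have d' := fun i j => classInner_eq_zero_comm.1 (h.hT.orth_irr hν'.1 hθ.mem hθ.irr i j)
  simp only [h.hS.η_swap h.hT] at d' t3
  simp only [s3 j hj, t3 i hi, classInner_sub_left, classInner_sub_right, a, d, d',
    classInner_smul_left, classInner_smul_right, classInner_sum_left, classInner_sum_right,
    h.hS.cycFam.inner] at b
  rcases s0 with rfl | rfl <;> rcases t0 with rfl | rfl <;> simp [ite_and] at b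

/-- the constant `m` of (13.10) -/
noncomputable def m13 (p q : ℕ) : ℝ :=
  1 - 1 / (q - 1) - (q - 1) / q ^ p + 1 / ((q - 1) * q ^ p)

/-- (13.10); (13.5) - (13.9) are the lemmas leading to it -/
theorem _root_.Cfsg.Agent.BG.PD.ratio (h : PD S U W₁ W₂) {l : S → ℂ} (hl : IrrInd S l) :
    m13 #W₂ #W₁ * (#W₂ : ℝ) ^ (#W₁ - 1) / #W₁ <
      ((U ⊓ C[MF[S]]).relIndex U : ℝ) / #(U ⊓ C[MF[S]]) := by
  classical
  obtain ⟨T, V, hp⟩ := h.pair
  have h' := hp.hT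
  obtain ⟨-, D, hv⟩ := hp.galois_of_irrInd hl
  obtain ⟨ν, hν⟩ := h.exists_tired
  obtain ⟨i, hi⟩ := h'.p9.exists_muR
  have hi := (h'.p9.muR_mem_iff.1 hi).1
  obtain ⟨s, hs, c1, c2⟩ := cover_pair h.dadeF h'.dadeF (h.disj_F h')
  have dl := hν.isDirr hl.mem hl.irr
  have a1 := c1 _ dl.isClassFunction
  have a2 := c1 _ (h.cycFam.cf i 1)
  have b1 := h.lb6 hν.1 hl
  have b2 := h.lb7 i
  have b3 := h'.lb8 hi
  have b4 := nrm_nonneg (rhoF T (ν l))
  have hs' : ∀ g, g ∈ s ↔ g ∉ Td S _ ∧ g ∉ Td T _ := hs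
  rw [h.Td_eq h.F_sub_A0, h'.Td_eq h'.F_sub_A0] at hs'
  have cl : ∀ m : ℕ, m.Coprime (Nat.card G) → ∀ g ∈ s, g ^ m ∈ s ∧
      (h.η i 1 (g ^ m) = 0 ↔ h.η i 1 g = 0) := fun m a g b => by
    obtain ⟨σ, e⟩ := exists_ringEquiv_pow_char a
    rw [← e _ (h.cycFam.isGen i 1), hs']
    exact ⟨⟨pow_notMem_clS a ((hs' g).1 b).1, pow_notMem_clS a ((hs' g).1 b).2⟩, by simp⟩
  have d1 := (card_le_sum_sq (h.cycFam.isGen i 1) (s.filter fun g => ¬ h.η i 1 g = 0)
    (fun m a g b => by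
      rw [Finset.mem_filter] at b ⊢; exact ⟨(cl m a g b.1).1, mt (cl m a g b.1).2.1 b.2⟩)
    fun g b => (Finset.mem_filter.1 b).2).trans (Finset.sum_le_sum_of_subset_of_nonneg
      (Finset.filter_subset _ s) fun _ _ _ => sq_nonneg _)
  have d2 := (card_le_sum_sq dl.isGen (s.filter fun g => h.η i 1 g = 0)
    (fun m a g b => by
      rw [Finset.mem_filter] at b ⊢; exact ⟨(cl m a g b.1).1, (cl m a g b.1).2.2 b.2⟩)
    fun g b => h.cover9 hν hl hi ((hs g).1 (Finset.mem_filter.1 b).1).1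
      (Finset.mem_filter.1 b).2).trans_lt (Finset.sum_lt_sum_of_subset (Finset.filter_subset _ s)
      ((hs 1).2 ⟨h.dadeF.one_notMem_supp, h'.dadeF.one_notMem_supp⟩)
      (fun b => (h.cycFam.dirr i 1).one_ne_zero (Finset.mem_filter.1 b).2)
      (pow_pos (norm_pos_iff.2 dl.one_ne_zero) 2) fun _ _ _ => sq_nonneg _)
  have d3 : ((s.filter fun g => h.η i 1 g = 0).card : ℝ) +
      (s.filter fun g => ¬ h.η i 1 g = 0).card = s.card := by
    exact_mod_cast Finset.card_filter_add_card_filter_not _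
  have N : (0 : ℝ) < (Nat.card G : ℝ)⁻¹ := inv_pos.2 (by exact_mod_cast Nat.card_pos)
  have d4 := mul_lt_mul_of_pos_left (d3 ▸ add_lt_add_of_lt_of_le d2 d1) N
  rw [h.η_swap h', D, relIndex_bot_left] at b3
  rw [ncard_diff_one, ncard_diff_one] at c2
  rw [dl.nrm_eq] at a1
  rw [h.cycFam.nrm_eq] at a2
  have e : 1 / (#W₂ : ℝ) - (#V : ℝ) ^ 2 / #T - (#F[T] - 1) / #T < F[S].relIndex S / #F[S] := by
    linarith
  have p1 : (3 : ℝ) ≤ #W₁ := by exact_mod_cast h.three_le₁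
  have p2 : (0 : ℝ) < #W₂ := by exact_mod_cast Nat.card_pos
  have p3 : (0 : ℝ) < #(U ⊓ C[MF[S]]) := by exact_mod_cast Nat.card_pos
  have p4 : (0 : ℝ) < #V := by exact_mod_cast Nat.card_pos
  have p5 : (#W₁ : ℝ) - 1 ≠ 0 := by linarith
  have hv' : (#W₁ : ℝ) ^ #W₂ = #V * (#W₁ - 1) + 1 := by
    have := Nat.card_pos (α := W₁)
    have := congrArg (Nat.cast : ℕ → ℝ) hv
    rw [Nat.cast_mul, Nat.cast_sub (by omega), Nat.cast_sub (Nat.one_le_pow _ _ (by omega))] at this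
    push_cast at this; linarith
  rw [h'.card_eq, h'.card_F, D, h.card_F, h.index_F, card_bot',
    ← pow_sub_one_mul (Nat.card_pos (α := W₁)).ne' #W₂] at e
  push_cast at e
  have f : m13 #W₂ #W₁ / #W₂ = 1 / (#W₂ : ℝ) - (#V : ℝ) ^ 2 / (#W₁ ^ #W₂ * #V * #W₂) -
      (#W₁ ^ #W₂ * 1 - 1) / (#W₁ ^ #W₂ * #V * #W₂) := by
    rw [m13, show (#V : ℝ) = (#W₁ ^ #W₂ - 1) / (#W₁ - 1) by rw [hv']; field_simp; ring]
    have : (#W₁ : ℝ) ^ #W₂ - 1 ≠ 0 := by rw [hv', add_sub_cancel_right]; positivity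
    field_simp; ring
  rw [← f, div_lt_div_iff₀ p2 (by positivity)] at e
  rw [div_lt_div_iff₀ (by positivity) p3]
  exact lt_of_mul_lt_mul_right (by linarith) p2.le

end Cfsg.Agent.PF
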