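import Cfsg.Agent.PF.S13b

/-! Peterfalvi (13.11) - (13.17). -/

set_option autoImplicit false
set_option linter.unusedSectionVars false

namespace Cfsg.Agent.PF

open Cfsg Cfsg.Agent.Char Cfsg.Agent.BG Subgroup
open scoped ComplexConjugate

section arith
variable {p q u c b : ℕ}

theorem m13_lb (hp : 3 ≤ p) (hq : 3 ≤ q) : 1 - 1 / ((q : ℝ) - 1) - 1 / q ^ 2 < m13 p q := by
  have q3 : (3 : ℝ) ≤ q := by exact_mod_cast hq
  have a : (q : ℝ) ^ 3 ≤ q ^ p := pow_le_pow_right₀ (by linarith) hp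
  have b : ((q : ℝ) - 1) / q ^ p < 1 / q ^ 2 := by
    rw [div_lt_div_iff₀ (by positivity) (by positivity)]; nlinarith
  have c : 0 < 1 / (((q : ℝ) - 1) * q ^ p) := by have : (0 : ℝ) < q - 1 := by linarith
                                                 positivity
  unfold m13; linarith
/-- (13.11.a) -/
theorem m13_seven (hp : 3 ≤ p) (hq : 7 ≤ q) : 8 / 10 < m13 p q := by
  have q7 : (7 : ℝ) ≤ q := by exact_mod_cast hq
  have a : 1 / ((q : ℝ) - 1) ≤ 1 / 6 := one_div_le_one_div_of_le (by norm_num) (by linarith)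
  have b : 1 / (q : ℝ) ^ 2 ≤ 1 / 49 := one_div_le_one_div_of_le (by norm_num) (by nlinarith)
  linarith [m13_lb hp (show 3 ≤ q by omega)]
/-- (13.11.b) -/
theorem m13_five (hp : 3 ≤ p) (hq : 5 ≤ q) : 7 / 10 < m13 p q := by
  have q5 : (5 : ℝ) ≤ q := by exact_mod_cast hq
  have a : 1 / ((q : ℝ) - 1) ≤ 1 / 4 := one_div_le_one_div_of_le (by norm_num) (by linarith)
  have b : 1 / (q : ℝ) ^ 2 ≤ 1 / 25 := one_div_le_one_div_of_le (by norm_num) (by nlinarith)
  linarith [m13_lb hp (show 3 ≤ q by omega)]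
theorem m13_three (p : ℕ) : m13 p 3 = 1 / 2 - 3 / 2 / 3 ^ p := by unfold m13; push_cast; field_simp; ring
/-- (13.11.c) -/
theorem m13_three_lb (hp : 5 ≤ p) : 49 / 100 < m13 p 3 := by
  have a : (3 : ℝ) ^ 5 ≤ 3 ^ p := pow_le_pow_right₀ (by norm_num) hp
  have : (3 : ℝ) / 2 / 3 ^ p ≤ 3 / 2 / 3 ^ 5 := div_le_div_of_nonneg_left (by norm_num) (by norm_num) a
  rw [m13_three]; norm_num at this ⊢; linarith
/-- (13.11.c) -/
theorem lb_three (hp : 3 ≤ p) (hc : 0 < c) (h : m13 p 3 * (p : ℝ) ^ (3 - 1) / (3 : ℕ) < (u : ℝ) / c) :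
    c * (p ^ 2 - 1) < 6 * u := by
  have a : 3 * p ^ 2 ≤ 3 ^ p := by
    clear h
    induction p, hp using Nat.le_induction with
    | base => norm_num
    | succ n i j => rw [pow_succ 3]; nlinarith
  have a' : (3 : ℝ) * p ^ 2 / 3 ^ p ≤ 1 := (div_le_one (by positivity)).2 (by exact_mod_cast a)
  have c0 : (0 : ℝ) < c := by exact_mod_cast hc
  rw [m13_three, lt_div_iff₀ c0] at h
  have : (c : ℝ) * (p ^ 2 - 1) < 6 * u := by
    have e : (1 / 2 - 3 / 2 / 3 ^ p) * (p : ℝ) ^ (3 - 1) / (3 : ℕ) = (p ^ 2 - 3 * p ^ 2 / 3 ^ p) / 6 := by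
      push_cast; field_simp; ring
    rw [e] at h; nlinarith
  have p1 : 1 ≤ p ^ 2 := Nat.one_le_pow _ _ (by omega)
  exact_mod_cast (show ((c * (p ^ 2 - 1) : ℕ) : ℝ) < (6 * u : ℕ) by push_cast [p1]; exact this)

theorem small_m (hp : 3 ≤ p) (hq : 3 ≤ q) (op : Odd p) (oq : Odd q) (ne : p ≠ q) (hc : 0 < c)
    (h1 : m13 p q * (p : ℝ) ^ (q - 1) / q < (u : ℝ) / c) (h2 : u * b * (p - 1) ≤ p ^ q - 1)
    (h3 : 2 * q + 1 ≤ c * b) : q = 3 ∧ 5 ≤ p := by
  have q3 : (3 : ℝ) ≤ q := by exact_mod_cast hq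
  have p3 : (3 : ℝ) ≤ p := by exact_mod_cast hp
  have c0 : (0 : ℝ) < c := by exact_mod_cast hc
  have b0 : (0 : ℝ) < b := by exact_mod_cast Nat.pos_of_ne_zero (by rintro rfl; simp at h3)
  have a : (u : ℝ) * b * (p - 1) < p ^ (q - 1) * p := by
    rw [← pow_succ, Nat.sub_add_cancel (by omega), ← Nat.cast_pred (by omega)]
    exact_mod_cast h2.trans_lt (Nat.sub_one_lt (by positivity))
  rw [div_lt_div_iff₀ (by linarith) c0] at h1
  have k : m13 p q * (c * b) * (p - 1) < q * p := by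
    refine lt_of_mul_lt_mul_left (a := (p : ℝ) ^ (q - 1)) ?_ (by positivity)
    have := mul_lt_mul_of_pos_right h1 (mul_pos b0 (show (0 : ℝ) < p - 1 by linarith))
    nlinarith [mul_lt_mul_of_pos_left a (show (0 : ℝ) < q by linarith)]
  have h4 : (2 * q + 1 : ℝ) ≤ c * b := by exact_mod_cast h3
  have key : ∀ m : ℝ, 0 < m → m < m13 p q → m * (2 * q + 1) * (p - 1) < q * p := fun m i j =>
    lt_of_le_of_lt (mul_le_mul_of_nonneg_right (mul_le_mul j.le h4 (by linarith) (by linarith)) (by linarith)) k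
  obtain ⟨s, hs⟩ := op
  obtain ⟨t, ht⟩ := oq
  by_cases i : p = 3
  · subst i
    by_cases j : q = 5
    · subst j; have := key _ (by norm_num) (m13_five hp le_rfl); norm_num at this
    · have := key _ (by norm_num) (m13_seven hp (by omega)); push_cast at this; linarith
  refine ⟨by_contra fun j => ?_, by omega⟩
  have := key _ (by norm_num) (m13_five hp (by omega))
  have p5 : (5 : ℝ) ≤ p := by exact_mod_cast (show 5 ≤ p by omega)
  nlinarith

theorem ub_three (hp : 5 ≤ p) (hc : 0 < c) (h : m13 p 3 * (p : ℝ) ^ (3 - 1) / (3 : ℕ) < (u : ℝ) / c) :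
    49 * p ^ 2 * c < 300 * u := by
  have c0 : (0 : ℝ) < c := by exact_mod_cast hc
  have p0 : (0 : ℝ) < p := by exact_mod_cast (show 0 < p by omega)
  rw [div_lt_div_iff₀ (by norm_num) c0] at h
  have := mul_lt_mul_of_pos_right (m13_three_lb hp) (show (0 : ℝ) < p ^ 2 * c by positivity)
  have : (49 : ℝ) * p ^ 2 * c < 300 * u := by push_cast at h; nlinarith
  exact_mod_cast this

theorem cube_sub_one (hp : 1 ≤ p) : p ^ 3 - 1 = (p ^ 2 + p + 1) * (p - 1) := by
  obtain ⟨n, rfl⟩ := Nat.exists_eq_add_of_le' hp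
  rw [Nat.add_sub_cancel, Nat.sub_eq_of_eq_add]; ring

theorem geom_mod {r : ℕ} (h : p ≡ 1 [MOD r]) (n : ℕ) : ∑ i ∈ Finset.range n, p ^ i ≡ n [MOD r] := by
  induction n with
  | zero => rfl
  | succ n i => rw [Finset.sum_range_succ]; exact i.add (by simpa using h.pow n)

end arith

/-- subgroups of prime order of a Frobenius complement of odd order are normal -/
theorem _root_.Cfsg.Agent.BG.Semireg.norm_prime {G : Type*} [Group G] [Finite G] {K E X : Subgroup G}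
    (h0 : Semireg K E) (ho : Odd #E) (hK : K ≠ ⊥) (h : E ≤ N[K]) (hX : X ≤ E) (hq : (#X).Prime) : E ≤ N[X] := by
  have z := h0.zg ho hK h
  have c := z.der_cyc
  by_cases i : #X ∣ #⁅E, E⁆
  · exact c.norm_sub (le_of_cop_relIndex (der_norm E) hX (z.der_hall.coprime_dvd_left i)) (der_norm E)
  have j := hq.coprime_iff_not_dvd.2 i
  have n := hX.trans (der_norm E)
  have a := cop_abel_C_comm c.abel n j
  have l : ⁅⁅E, E⁆, X⁆ ≤ E := (commL n).trans (der_le E)
  have r := semireg_of_prime hq a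
  have b : ⁅⁅E, E⁆, X⁆ = ⊥ := by_contra fun k => hK (by
    have := frob_wielandt_cent ⟨sdprod_sup r.inf_bot (normR n (normG X)), k, ne_bot_of_prime hq, r⟩
      ((sup_le l hX).trans h) (coprimeS (h0.coprime h) (sup_le l hX) le_rfl)
      (h0.nil' h fun e => ne_bot_of_prime hq (eq_bot_iff.2 (e ▸ hX))).sol (h0.cent hX (ne_bot_of_prime hq))
    rw [← h0.cent l k, inf_eq_left.2 (cent_symm this)])
  have d : X ⊔ ⁅E, E⁆ ≤ N[X] := sup_le (normG X) (cents_norm (comm_eq_bot.1 b))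
  refine fun g k => mem_N_of_cj_le (le_of_cop_relIndex d (cj_le_of_mem le_sup_left
    (norm_of_der_le le_sup_right (sup_le hX (der_le E)) k)) ?_)
  rw [card_cj, relIndex_sup_l (le_sup_right.trans d)]
  exact j.coprime_dvd_right (relIndex_dvd _ _)

variable {G : Type*} [Group G] [Fintype G] [hG : MSO G] {S T L U V W₁ W₂ : Subgroup G}

/-- (13.12) -/
theorem _root_.Cfsg.Agent.BG.PD.C_eq_bot (h : PD S U W₁ W₂) : U ⊓ C[MF[S]] = ⊥ := by
  by_contra hc
  obtain ⟨l, hl⟩ := h.irrInd_or.resolve_right fun i => hc i.2.1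
  have a := h.ratio hl
  have g := h.p9
  have b := g.u_le
  have c0 := card_pos (U ⊓ C[MF[S]])
  have c1 : #(U ⊓ C[MF[S]]) ≡ 1 [MOD #W₁] := ((Nat.modEq_iff_dvd' c0).2
    ((h.reg.mono inf_le_left le_rfl).card_dvd (le_sup_right.trans g.normC))).symm
  have c2 := le_of_modEq_one_of_odd c1 (one_lt_card hc) (mso_odd _) (mso_odd _)
  obtain ⟨q3, p5⟩ := small_m (b := 1) h.three_le₂ h.three_le₁ (mso_odd _) (mso_odd _) h.card_ne.symm c0 a
    (by rwa [mul_one]) (by rwa [mul_one])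
  have c3 : (#(U ⊓ C[MF[S]])).Coprime #W₂ := coprimeS h.copF (inf_le_left.trans le_sup_left) h.le2
  have c4 := mso_odd (U ⊓ C[MF[S]])
  have c5 := mso_odd W₂
  have e1 := h.card_F
  have e2 := h.index_F
  have e3 := fun i => (g.galois_facts i).2.2.2
  have e4 : ¬ Galois S U ⊥ → _ ≤ (#W₂ - 1) ^ (#W₁ - 1) := fun i =>
    let ⟨_, _, _, e⟩ := g.exists_nonGal i
    (Nat.le_of_dvd (pow_pos (zero_lt_one.trans (g.nonGal_facts e).1) _) (g.nonGal_dvd e)).trans
      (Nat.pow_le_pow_left (Nat.le_of_dvd (by omega) (g.nonGal_facts e).2.1) _)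
  rw [q3] at a b c1 c2 e1 e2 e3 e4
  have a1 := lb_three h.three_le₂ c0 a
  have a2 := ub_three p5 c0 a
  rw [cube_sub_one (by omega)] at b
  replace b := Nat.le_of_mul_le_mul_right b (by omega)
  generalize #W₂ = p at *
  generalize #(U ⊓ C[MF[S]]) = c at *
  generalize (U ⊓ C[MF[S]]).relIndex U = u at *
  obtain rfl : c = 7 := by
    have : c < 13 := by nlinarith
    obtain ⟨k, rfl⟩ := c4
    unfold Nat.ModEq at c1; omega
  obtain rfl : p = 5 := by
    have : p < 8 := by nlinarith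
    obtain ⟨k, rfl⟩ := c5
    have : k ≠ 3 := by rintro rfl; norm_num at c3
    omega
  obtain rfl : u = 31 := by
    by_cases i : Galois S U ⊥
    · have := Nat.dvd_of_mul_dvd_mul_right (by norm_num) (show u * 4 ∣ 31 * 4 from e3 i)
      exact ((Nat.dvd_prime (by norm_num)).1 this).resolve_left (by omega)
    · have := e4 i; omega
  have := le_MF' (F_le S) (F_norm S) (F_nil S) (by rw [e1, e2]; norm_num)
  exact hc (eq_bot_iff.2 ((le_inf (h.F_dp.right.trans this) inf_le_left).trans h.sd.inf.le))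

theorem _root_.Cfsg.Agent.BG.PD.p9' (h : PD S U W₁ W₂) : P9 S U W₁ W₂ ⊥ ⊥ #W₂ :=
  h.C_eq_bot ▸ h.p9

theorem _root_.Cfsg.Agent.BG.PD.F_eq (h : PD S U W₁ W₂) : F[S] = MF[S] := by
  rw [← h.F_dp.sup, h.C_eq_bot, sup_bot_eq]

theorem _root_.Cfsg.Agent.BG.PD.ratio' (h : PD S U W₁ W₂) {l : S → ℂ} (hl : IrrInd S l) :
    m13 #W₂ #W₁ * (#W₂ : ℝ) ^ (#W₁ - 1) / #W₁ < (#U : ℝ) / (1 : ℕ) := by
  simpa [h.C_eq_bot] using h.ratio hl

/-- (13.13) -/
theorem _root_.Cfsg.Agent.BG.PD.nonGalois (h : PD S U W₁ W₂) (hn : ¬ Galois S U ⊥) :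
    #W₁ = 3 ∧ 4 * #U = (#W₂ - 1) ^ 2 := by
  obtain ⟨l, hl⟩ := h.irrInd_or.resolve_right fun i => hn i.1
  have a := h.ratio' hl
  obtain ⟨_, _, n, e⟩ := h.p9'.exists_nonGal hn
  have b := h.p9'.nonGal_dvd e
  rw [relIndex_bot_left] at b
  have c := (h.p9'.nonGal_facts e).2.1
  have p3 := h.three_le₂
  have q3 := h.three_le₁
  obtain ⟨k, hk⟩ := mso_odd W₂
  have d : n ∣ k := (((mso_odd U).of_dvd_nat (e.idxU ▸ relIndex_dvd _ _)).coprime_two_right).dvd_of_dvd_mul_left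
    (by rwa [hk, Nat.add_sub_cancel] at c)
  replace b := b.trans (pow_dvd_pow_of_dvd d _)
  have q : #W₁ = 3 := by_contra fun i => by
    obtain ⟨t, ht⟩ := mso_odd W₁
    have q5 : 5 ≤ #W₁ := by omega
    have m := m13_five p3 q5
    have f : ∀ n, 5 ≤ n → 3 * n ≤ 2 ^ (n - 1) := fun n j => by
      induction n, j using Nat.le_induction with
      | base => norm_num
      | succ n i j => rw [Nat.add_sub_cancel, ← Nat.sub_add_cancel (show 1 ≤ n by omega), pow_succ]; omega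
    have f1 : #U * (3 * #W₁) ≤ #W₂ ^ (#W₁ - 1) :=
      (Nat.mul_le_mul (Nat.le_of_dvd (pow_pos (by omega) _) b) (f _ q5)).trans (by
        rw [← mul_pow]; exact Nat.pow_le_pow_left (by omega) _)
    have f2 : (#U : ℝ) * (3 * #W₁) ≤ #W₂ ^ (#W₁ - 1) := by exact_mod_cast f1
    rw [Nat.cast_one, div_one, div_lt_iff₀ (by positivity)] at a
    have : (0 : ℝ) < #W₂ ^ (#W₁ - 1) := by positivity
    nlinarith
  rw [q] at a b
  have a1 := lb_three p3 one_pos a
  obtain ⟨m, hm⟩ := b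
  rw [hk, show (2 * k + 1) ^ 2 = 4 * k ^ 2 + 4 * k + 1 by ring, Nat.add_sub_cancel] at a1
  rw [hk, Nat.add_sub_cancel, mul_pow, show k ^ 2 = _ from hm]
  obtain rfl : m = 1 := by
    rw [show k ^ 2 = _ from hm] at a1
    rcases m with _ | _ | m
    · exact absurd hm (by simp; omega)
    · rfl
    · nlinarith
  exact ⟨q, by ring⟩

/-- (13.14), (13.15) -/
theorem _root_.Cfsg.Agent.BG.PD.card_galois (h : PD S U W₁ W₂) (hg : Galois S U ⊥) :
    (#W₂ ≡ 1 [MOD #W₁] → #U * #W₁ * (#W₂ - 1) = #W₂ ^ #W₁ - 1) ∧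
      (¬ #W₂ ≡ 1 [MOD #W₁] → #U * (#W₂ - 1) = #W₂ ^ #W₁ - 1) := by
  obtain ⟨b, hb⟩ := (h.p9'.galois_facts hg).2.2.2
  have u1 := h.p9'.u_mod
  have u0 := h.p9'.h95.one_lt_u
  rw [relIndex_bot_left] at hb u1 u0
  have p3 := h.three_le₂
  have q3 := h.three_le₁
  have op := mso_odd W₂
  have oq := mso_odd W₁
  have n : ∑ i ∈ Finset.range #W₁, #W₂ ^ i = #U * b := by
    rw [Nat.geomSum_eq (by omega), hb, mul_right_comm, Nat.mul_div_cancel _ (by omega)]
  have ob : Odd b := by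
    have := geom_mod (r := 2) (Nat.odd_iff.1 op) #W₁
    rw [n] at this
    exact (Nat.odd_mul.1 (Nat.odd_iff.2 (Eq.trans this (Nat.odd_iff.1 oq)))).2
  have lb : b ≤ 2 * #W₁ := by
    by_contra! i
    obtain ⟨l, hl⟩ := h.irrInd_or.resolve_right fun j => by
      rw [← j.2.2] at hb
      have := Nat.eq_of_mul_eq_mul_left (Nat.mul_pos (by omega) (by omega)) ((mul_one _).trans hb)
      omega
    have a := h.ratio' hl
    obtain ⟨q, p5⟩ := small_m (b := b) p3 q3 op oq h.card_ne.symm one_pos a (by rw [hb, mul_right_comm])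
      (by rwa [one_mul])
    rw [q] at a n i u1
    have a1 := lb_three p3 one_pos a
    simp only [Finset.sum_range_succ, Finset.range_zero, Finset.sum_empty] at n
    have p1 : 1 ≤ #W₂ ^ 2 := Nat.one_le_pow _ _ (by omega)
    generalize #W₂ = p at *
    generalize #U = u at *
    have : p < 8 := by
      have := Nat.mul_le_mul_left u i
      zify [p1] at a1 this n ⊢; nlinarith
    have : u < 9 := by nlinarith [Nat.mul_le_mul_left u i]
    unfold Nat.ModEq at u1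
    obtain ⟨k, rfl⟩ := op
    obtain rfl | rfl : k = 2 ∨ k = 3 := by omega
    all_goals interval_cases u <;> omega
  have ub : b ≡ #U * b [MOD #W₁] := by simpa using (u1.mul_right b).symm
  refine ⟨fun i => ?_, fun i => ?_⟩
  · obtain ⟨k, rfl⟩ := Nat.modEq_zero_iff_dvd.1 (ub.trans (n ▸ (geom_mod i _).trans (Nat.modEq_zero_iff_dvd.2 dvd_rfl)))
    obtain rfl : k = 1 := by
      have := Nat.le_of_mul_le_mul_left (lb.trans_eq (mul_comm _ _)) (by omega)
      obtain ⟨t, rfl⟩ := (Nat.odd_mul.1 ob).2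
      omega
    rw [hb]; ring
  · have f : #W₂ ^ #W₁ - 1 ≡ #W₂ - 1 [MOD #W₁] := by
      haveI := Fact.mk h.prime1
      refine Nat.ModEq.add_right_cancel' 1 ?_
      rw [Nat.sub_add_cancel (Nat.one_le_pow _ _ (by omega)), Nat.sub_add_cancel (by omega),
        ← ZMod.natCast_eq_natCast_iff, Nat.cast_pow, ZMod.pow_card]
    rw [hb, mul_right_comm] at f
    have : b ≡ 1 [MOD #W₁] := ub.trans (Nat.ModEq.cancel_right_of_coprime (c := #W₂ - 1)
      (h.prime1.coprime_iff_not_dvd.2 fun j => i ((Nat.modEq_iff_dvd' (by omega)).2 j).symm) (by rwa [one_mul]))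
    obtain rfl : b = 1 := by_contra fun j => by
      have := le_of_modEq_one_of_odd this (by obtain ⟨t, rfl⟩ := ob; omega) ob oq
      omega
    rw [hb, mul_one]

theorem _root_.Cfsg.Agent.BG.PD.norm_W2 (h : PD S U W₁ W₂) : N[W₂] = C[W₂] ∧ C[W₂] = MF[S] ⊔ W₁ := by
  have ab := h.abelem.abel
  have c2 : MF[S] ≤ C[W₂] := centSS ab le_rfl h.le2
  have a : MF[S] ⊔ W₁ ≤ C[W₂] := sup_le c2 (cent_symm h.dp.cent)
  suffices N[W₂] ≤ MF[S] ⊔ W₁ from ⟨(this.trans a).antisymm (C_le_N _), ((C_le_N _).trans this).antisymm a⟩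
  have b : N[W₂] ≤ S := fun g i => by
    obtain ⟨y, j, k⟩ := exists_mem_ne_one h.ne2
    exact h.nti_A0.ti g y (h.F_sub_A0 ⟨MF_le_F S (h.le2 j), k⟩)
      (h.F_sub_A0 ⟨MF_le_F S (h.le2 (conj_mem i j)), fun e => k (conj_eq_one_iff.1 e)⟩)
  have w : W₁ ≤ N[W₂] := cents_norm (cent_symm h.dp.cent)
  have c : U ⊓ N[W₂] = ⊥ := by_contra fun k => by
    have n : W₁ ≤ N[U ⊓ N[W₂]] := normI h.norm (normsG w)
    have r := h.reg.mono (inf_le_left (b := N[W₂])) le_rfl
    have d : U ⊓ N[W₂] ≤ C[W₂] := by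
      have := (cop_cent_prod n (r.coprime n) (Or.inl h.cyc1.sol)).sup
      rw [r.cent le_rfl h.ne1, sup_bot_eq] at this
      exact this.ge.trans ((commS inf_le_right w).trans (h.cyc2.der_cent le_rfl))
    have l : U ⊓ N[W₂] ⊔ W₁ ≤ U ⊔ W₁ := sup_le_sup_right inf_le_left _
    have nF := l.trans h.sdF.norm
    have e := cop_abel_C_comm ab (le_sup_left.trans nF) (coprimeS h.copF (le_sup_left.trans l) le_rfl)
    have l' := commL (le_sup_left.trans nF)
    have := frob_wielandt_card ⟨sdprod_sup r.inf_bot n, k, h.ne1, r⟩ (normR nF (sup_le (normG _) n))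
      (coprimeS h.copF l l') (ab.nil.sol.of_le l') e
    rw [eq_bot_iff.2 ((le_inf inf_le_left ((inf_le_inf_right _ l').trans (h.centW.le.trans (cent_symm d)))).trans
      e.le), card_bot', one_pow, card_eq_one] at this
    exact k (eq_bot_iff.2 ((le_inf inf_le_left (cent_symm (comm_eq_bot.1 this))).trans h.C_eq_bot.le))
  have := (h.sdF.prod.modl' (cents_norm c2) b).sup
  rw [modr_l h.norm w, c, bot_sup_eq] at this
  exact this.ge

/-- (13.16) -/
theorem _root_.Cfsg.Agent.BG.PPair.norm_W1 (h : PPair S T U V W₁ W₂) :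
    N[W₁] = C[W₁] ∧ C[W₁] = MF[T] ⊔ W₂ := h.hT.norm_W2

/-- (13.17) -/
theorem _root_.Cfsg.Agent.BG.PPair.support (h : PPair S T U V W₁ W₂) (h2 : TypeP2 S)
    (hL : IsCoatom L) (hN : N[U] ≤ L) :
    TypeF L ∧ U ≤ MF[L] ∧
      (Frob MF[L] W₁ L ∨ ∃ y ∈ MF[T], Frob MF[L] (cj y (W₁ ⊔ W₂)) L) := by
  have s := h.hS
  have t := h.hT
  have l1 := (normG U).trans hN
  have l2 := s.norm.trans hN
  have cU := s.reg.coprime s.norm
  have a : ⁅U, W₁⁆ = U := by
    have := (cop_cent_prod s.norm cU (Or.inl s.cyc1.sol)).sup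
    rwa [s.reg.cent le_rfl s.ne1, sup_bot_eq] at this
  have n1 : ¬ Cjg S L := by
    rintro ⟨g, rfl⟩
    have b := (s.cj g).hallU
    obtain ⟨m, i, j⟩ := b.conj ((mso_sol hL.1).of_le (der_le _))
      (b.of_card (a.ge.trans (commS l1 l2)) (card_cj g U).symm)
    refine (s.p2_iff.1 h2).2 ((cj_le_cj (g := g)).1 ((cj_le_cj (g := m)).1 ?_))
    rw [cj_of_mem (der_le _ i), cj_N, cj_N, j]; exact hN
  have n2 : ¬ Cjg T L := by
    rintro ⟨g, rfl⟩
    have b := (t.cj g).syl_MF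
    rw [card_cj] at b
    have c := (b.sub (MF_le _) le_top).le_of_normal (MF_norm _) (pin_single_self s.prime1) l2
    exact s.U_ne_bot (PiG.eq_bot (PiG.of_le b.pi (a.ge.trans ((commutator_comm _ _).le.trans
      ((commS c le_rfl).trans (commL (l1.trans (MF_norm _))))))) ((pin_compl_cop s.prime1).2 cU.symm))
  have f := ((h.all L hL).resolve_right (not_or.2 ⟨n1, n2⟩))
  have c1 : (#W₁).Coprime #MF[L] :=
    coprimeS (Msigma_coprime t.max hL n2) (t.le2.trans (MF_le_Msigma t.max)) (MF_le_Msigma hL)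
  obtain ⟨E, e1, e2⟩ := hall_superset (π := (piOf MF[L])ᶜ) (mso_sol hL.1) l2 (pin_of_cop c1)
  have F := f.frob ((MF_hall L).sdprod (MF_norm L) e1)
  have r := F.reg.mono le_rfl e2
  refine ⟨f, (s.nil.dprod_O (piOf MF[L])).sup.ge.trans (sup_le ((MF_hall L).le_of_normal (MF_norm L) (O_pig _ _)
    ((O_le _ _).trans l1)) (by_contra fun i => ?_)), ?_⟩
  · have k : O[(piOf MF[L])ᶜ](U) ≠ ⊥ := fun e => i (e.le.trans bot_le)
    have r' := s.reg.mono (O_le (piOf MF[L])ᶜ U) le_rfl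
    have l : O[(piOf MF[L])ᶜ](U) ⊔ W₁ ≤ L := sup_le ((O_le _ _).trans l1) l2
    have := frob_wielandt_cent ⟨sdprod_sup r'.inf_bot (normO _ s.norm), k, s.ne1, r'⟩ (l.trans (MF_norm L))
      (((O_pig _ _).sup_l (pin_of_cop c1) (normO _ s.norm)).coprime' (MF_hall L).pi) (MF_nil L).sol
      (r.cent le_rfl s.ne1)
    obtain ⟨y, j, o⟩ := exists_mem_ne_one (MF_chain hL).1
    exact i fun x l' => F.cent_le j o ⟨l (mem_sup_left l'), mem_C1.2 (mem_C.1 (this l') y j).symm⟩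
  have b : E ≤ MF[T] ⊔ W₂ := (F.reg.norm_prime (mso_odd E) (MF_chain hL).1 F.sd.norm e2 s.prime1).trans
    (h.norm_W1.1.trans h.norm_W1.2).le
  have nT : W₂ ≤ N[MF[T]] := t.le1.trans (MF_norm T)
  have c : E ⊓ MF[T] = W₁ := (eq_of_card_le (le_inf e2 t.le2) (Nat.le_of_dvd (card_pos _)
    ((t.abelem.of_le inf_le_right).cyc_card s.prime1 ((F.zg (mso_odd L)) _ s.prime1 _ inf_le_left
      ((t.abelem.pig s.prime1).of_le inf_le_right))))).symm
  have i1 : MF[T].relIndex (MF[T] ⊔ W₂) = #W₂ :=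
    (sdprod_sup (eq_bot_iff.2 ((inf_le_inf_left _ le_sup_right).trans t.sdF.inf.le)) nT).relIndex_l
  have d := relIndex_dvd_of_norm le_sup_left b (b.trans (sup_le (normG _) nT))
  have e := card_inf_mul_relIndex MF[T] E
  rw [inf_comm, c] at e
  rcases (Nat.dvd_prime s.prime2).1 (i1 ▸ d) with j | j
  · exact Or.inl (by rwa [← c, inf_eq_left.2 (relIndex_eq_one.1 j)])
  · obtain ⟨X, x1, x2⟩ := exists_prime_sub s.prime2 (show #W₂ ∣ #E from ⟨_, by rw [← e, j, mul_comm]⟩)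
    have y : Syl #W₂ W₂ (MF[T] ⊔ W₂) := syl_mk s.prime2 le_sup_right (pin_single_self s.prime2) (by
      rw [(sdprod_sup (eq_bot_iff.2 ((inf_le_inf_left _ le_sup_right).trans t.sdF.inf.le)) nT).relIndex_r]
      exact s.prime2.coprime_iff_not_dvd.1 (coprimeS t.copF le_sup_right le_rfl))
    obtain ⟨g, g1, g2⟩ := y.conj s.prime2 (y.of_card (x1.trans b) x2)
    obtain ⟨z, z1, w, w1, rfl⟩ := (isProd_l nT).ex g g1
    rw [cj_mul, cj_of_mem w1] at g2
    refine Or.inr ⟨z, z1, (eq_of_card_le (A := cj z (W₁ ⊔ W₂)) ?_ ?_).symm ▸ F⟩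
    · rw [cj_sup, g2, cj_of_mem_C (centSS t.abelem.abel le_rfl t.le2 z1)]; exact sup_le e2 x1
    · rw [card_cj, ← s.dp.card, ← e, j]

end Cfsg.Agent.PF
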