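import Cfsg.Agent.PF.S13c

/-! Peterfalvi (13.18), (13.19). -/

set_option autoImplicit false
set_option linter.unusedSectionVars false

namespace Cfsg.Agent.PF

open Cfsg Cfsg.Agent.Char Cfsg.Agent.BG Subgroup
open scoped ComplexConjugate

variable {G : Type*} [Group G] [Fintype G] [hG : MSO G] {S L U W₁ W₂ : Subgroup G}

/-- `β_j` of (13.18) -/
noncomputable def betaS (h : PD S U W₁ W₂) (j : W₂ →* ℂˣ) : S → ℂ :=
  indFun ((MF[S] ⊔ W₁) ⇂ S) (fun _ => 1) - h.μ 1 j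

/-- `Γ` of (13.18) -/
noncomputable def gammaS (h : PD S U W₁ W₂) (j : W₂ →* ℂˣ) : G → ℂ :=
  tau S (betaS h j) - (fun _ => 1) + h.η 1 j

variable {h : PD S U W₁ W₂} {j k : W₂ →* ℂˣ}

namespace PW

theorem sd (h : PD S U W₁ W₂) : Sdprod MF[S] W₁ (MF[S] ⊔ W₁) :=
  sdprod_sup (eq_bot_iff.2 fun _ i => h.der.inf.le ⟨h.sd.left i.1, i.2⟩) (h.le1.trans (MF_norm S))

theorem mem (h : PD S U W₁ W₂) {x : G} (h1 : x ∈ MF[S] ⊔ W₁) (h2 : x ∈ ⁅S, S⁆) : x ∈ MF[S] := by
  have := ((sd h).modl h.sd.left).sup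
  rw [inf_comm, h.der.inf, sup_bot_eq] at this
  exact this.ge ⟨h1, h2⟩

theorem idx (h : PD S U W₁ W₂) : (MF[S] ⇂ S).index = #U * #W₁ := by
  rw [index_sub, ← h.F_eq, h.index_F, h.C_eq_bot, relIndex_bot_left]

theorem of_mem (h : PD S U W₁ W₂) {x : S} (hx : (x : G) ∈ MF[S]) :
    indFun ((MF[S] ⊔ W₁) ⇂ S) (fun _ => 1) x = #U := by
  rw [indFun_apply_eq_of_ker (A := MF[S] ⇂ S) (sub_mono le_sup_left) (fun _ _ => rfl) hx,
    indFun_one, mul_one, index_sub, Nat.cast_inj]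
  refine Nat.eq_of_mul_eq_mul_left (Nat.card_pos (α := ↥(MF[S] ⊔ W₁))) ?_
  rw [card_mul_relIndex (sup_le (MF_le S) h.le1), ← (sd h).card, h.card_eq, h.card_MF]; ring

theorem of_der (h : PD S U W₁ W₂) {x : S} (h1 : (x : G) ∈ ⁅S, S⁆) (h2 : (x : G) ∉ MF[S]) :
    indFun ((MF[S] ⊔ W₁) ⇂ S) (fun _ => 1) x = 0 :=
  indFun_eq_zero_of_not_conj _ _ fun y i => h2 <| by
    simpa [mul_assoc, mem_sub] using (MF_normal S).conj_mem _
      (mem h i ((der_normal S).conj_mem' x h1 y) : y⁻¹ * x * y ∈ MF[S] ⇂ S) y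

theorem of_notMem (h : PD S U W₁ W₂) {x : S} (h1 : (x : G) ∉ ⁅S, S⁆) :
    indFun ((MF[S] ⊔ W₁) ⇂ S) (fun _ => 1) x = 1 := by
  obtain ⟨g, w, a, b⟩ := h.primeTI.exists_conj h1
  rw [← isClassFunction_indFun _ _ x g, b]
  refine indFun_apply_eq_of_forall (isClassFunction_const 1)
    (⟨h.ι w, mul_mem (mem_sup_right w.1.2) (mem_sup_left (h.le2 w.2.2))⟩ : (MF[S] ⊔ W₁) ⇂ S)
    fun y c => extendByZero_of_not_mem _ _ fun d => c ?_
  obtain ⟨v, e, z, f, i⟩ := h.der.prod.symm.ex y y.2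
  obtain ⟨p, l, u, m, rfl⟩ := h.sd.prod.ex z f
  have n : v * p ∈ MF[S] ⊔ W₁ := mul_mem (mem_sup_right e) (mem_sup_left l)
  have o : u * w.1 * u⁻¹ * (w.1 : G)⁻¹ ∈ MF[S] ⊔ W₁ := by
    have := mul_mem (mul_mem (mul_mem (mul_mem (inv_mem n) d) n) (mem_sup_left
      (inv_mem (conj_mem (MF_norm S (h.leU m)) (h.le2 w.2.2))))) (mem_sup_right (inv_mem w.1.2))
    simpa [i, mul_assoc] using this
  have r : u * w.1 * u⁻¹ * (w.1 : G)⁻¹ ∈ U := by
    simpa [mul_assoc] using mul_mem m (conj_mem (h.norm w.1.2) (inv_mem m))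
  have s : u ∈ U ⊓ C1[(w.1 : G)] := ⟨m, mem_C1.2 (by
    rw [← mul_inv_eq_one, mul_inv_rev, ← mul_assoc]
    exact h.sd.inf.le ⟨mem h o (h.sd.right r), r⟩)⟩
  rw [h.reg _ w.1.2 fun t => a (Subtype.ext t), mem_bot] at s
  rwa [mem_sub, i, s, mul_one]

theorem nrm_eq (h : PD S U W₁ W₂) :
    nrm (indFun ((MF[S] ⊔ W₁) ⇂ S) fun _ => 1) = ((#U : ℝ) - 1) / #W₁ + 1 := by
  have a : ((#W₁ : ℕ) : ℂ) • (indFun ((MF[S] ⊔ W₁) ⇂ S) (fun _ => 1) - fun _ => 1) =
      indFun (MF[S] ⇂ S) (fun _ => 1) - indFun (⁅S, S⁆ ⇂ S) fun _ => 1 := by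
    ext x
    simp only [Pi.smul_apply, Pi.sub_apply, smul_eq_mul]
    by_cases i : (x : G) ∈ MF[S]
    · rw [of_mem h i, ind1_apply (mem_sub.2 i), ind1_apply (mem_sub.2 (h.sd.left i)), idx h,
        h.index_der]; push_cast; ring
    rw [indFun_eq_zero_of_normal _ _ (mt mem_sub.1 i)]
    by_cases l : (x : G) ∈ ⁅S, S⁆
    · rw [of_der h l i, ind1_apply (mem_sub.2 l), h.index_der]; ring
    · rw [of_notMem h l, indFun_eq_zero_of_normal _ _ (mt mem_sub.1 l)]; ring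
  have b := congrArg nrm a
  have p : (0 : ℝ) < #W₁ := by exact_mod_cast Nat.card_pos
  rw [nrm_natCast_smul, nrm_sub, nrm_sub, classInner_ind1_one, isIrrCharacter_one.nrm_eq, nrm_def
    (indFun (MF[S] ⇂ S) _), nrm_def (indFun (⁅S, S⁆ ⇂ S) _), classInner_ind1_self,
    classInner_ind1_self, classInner_indFun_left _ _ (isClassFunction_indFun _ _),
    show (fun x : MF[S] ⇂ S => indFun (⁅S, S⁆ ⇂ S) (fun _ => 1) x) = ((#W₁ : ℕ) : ℂ) • fun _ => 1 from
      funext fun x => by simp [ind1_apply (K := ⁅S, S⁆ ⇂ S) (h.sd.left x.2), h.index_der],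
    classInner_smul_right, isIrrCharacter_one.classInner_self, idx h, h.index_der] at b
  simp [-Nat.card_eq_fintype_card] at b
  field_simp
  nlinarith

end PW

theorem isGen_betaS (h : PD S U W₁ W₂) (j) : IsGeneralizedCharacter S (betaS h j) :=
  isGen_one.indFun.sub (h.primeFam.irr 1 j).isGen

/-- (13.18.a) -/
theorem supp_betaS (hj : j ≠ 1) (x : S) (hx : (x : G) ∉ ((MF[S] : Set G) \ {1}) ∪
    {x | ∃ m ∈ S, ∃ z ∈ Zhat W₁ W₂, x = m * z * m⁻¹}) : betaS h j x = 0 := by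
  rw [betaS, Pi.sub_apply, sub_eq_zero]
  by_cases i : (x : G) ∈ MF[S]
  · obtain rfl : x = 1 := by_contra fun l => hx (Or.inl ⟨i, fun e => l (Subtype.ext e)⟩)
    rw [PW.of_mem h i, h.mu_one 1 hj, h.C_eq_bot, relIndex_bot_left]
  by_cases l : (x : G) ∈ ⁅S, S⁆
  · have := apply_eq_zero_of_mem_indD (h.muR_S1 hj) (x := x) (by rwa [mem_sub, h.F_eq])
    rw [PD.μR, h.primeFam.muR_of_mem 1 j l, mul_eq_zero] at this
    rw [PW.of_der h l i, this.resolve_left (card_ne_zero W₁)]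
  obtain ⟨g, w, a, b⟩ := h.primeTI.exists_conj l
  have c : w.2 = 1 := by_contra fun c => hx (Or.inr ⟨g⁻¹, inv_mem g.2, _, h.ι_zhat a c, by
    rw [← b]; simp [mul_assoc]⟩)
  rw [PW.of_notMem h l, ← h.primeFam.cf 1 j x g, b, h.primeFam.apply_ι 1 j a, h.delta_eq]
  simp [om_apply, c]

theorem supp_sub_A0 (h : PD S U W₁ W₂) : ((MF[S] : Set G) \ {1}) ∪
    {x | ∃ m ∈ S, ∃ z ∈ Zhat W₁ W₂, x = m * z * m⁻¹} ⊆ A0 S := fun _ i =>
  i.elim (fun i => h.F_sub_A0 ⟨MF_le_F S i.1, i.2⟩) fun i => h.mem_A0.2 (Or.inr i)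

theorem supp_betaS' (hj : j ≠ 1) (x : S) (hx : (x : G) ∉ A0 S) : betaS h j x = 0 :=
  supp_betaS hj x fun i => hx (supp_sub_A0 h i)

/-- (13.18.a) -/
theorem tau_betaS_eq_zero (hj : j ≠ 1) {g : G} (h1 : g ∉ ClS ((MF[S] : Set G) \ {1}))
    (h2 : g ∉ ClS (Zhat W₁ W₂)) : tau S (betaS h j) g = 0 := by
  refine tau_of_notMem h.max (isGen_betaS h j).isClassFunction (supp_betaS hj) ?_
  rw [h.Td_eq (supp_sub_A0 h)]
  rintro ⟨y, a, b | ⟨m, -, z, b, rfl⟩, c⟩
  exacts [h1 ⟨y, a, b, c⟩, h2 ⟨y * m, z, b, by rw [c]; group⟩]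

theorem isGen_tau_betaS (hj : j ≠ 1) : IsGeneralizedCharacter G (tau S (betaS h j)) :=
  (dade_A0 h.max).isGen_dade (isGen_betaS h j) (supp_betaS' hj)

theorem isGen_gammaS (hj : j ≠ 1) : IsGeneralizedCharacter G (gammaS h j) :=
  ((isGen_tau_betaS hj).sub isGen_one).add (h.cycFam.isGen 1 j)

/-- (13.18.b) -/
theorem nrm_betaS (hj : j ≠ 1) : nrm (tau S (betaS h j)) = ((#U : ℝ) - 1) / #W₁ + 2 := by
  rw [(dade_A0 h.max).nrm_dade (isGen_betaS h j).isClassFunction (supp_betaS' hj), betaS,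
    nrm_sub_of_orth, PW.nrm_eq h, (h.primeFam.irr 1 j).nrm_eq, add_assoc, one_add_one_eq_two]
  by_contra i
  obtain ⟨b, e⟩ := h.primeFam.exists_ne_chiR hj
  exact e (isCharacter_one.indFun.apply_eq_of_constituent (h.primeFam.irr 1 j) i
    ((PW.of_mem h (by simpa using h.le2 b.2)).trans (PW.of_mem h (one_mem _)).symm))

/-- (13.18.c) -/
theorem gammaS_eq (hj : j ≠ 1) (hk : k ≠ 1) : gammaS h j = gammaS h k := by
  have := h.pdF.dade_sub hk hj ((h.mu_one 1 hk).trans (h.mu_one 1 hj).symm)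
  rw [h.delta_eq, Int.cast_one, one_smul, _root_.map_sub] at this
  simp only [gammaS, betaS, _root_.map_sub]
  linear_combination (exp := 1) this

theorem tau_betaS_one (hj : j ≠ 1) : classInner (tau S (betaS h j)) (fun _ => 1) = 1 := by
  rw [(dade_A0 h.max).classInner_dade_one (isGen_betaS h j).isClassFunction (supp_betaS' hj),
    betaS, classInner_sub_left, classInner_ind1_one, ← h.primeFam.one_one, h.primeFam.inner,
    if_neg fun i => hj i.2, sub_zero]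

/-- (13.18.c) -/
theorem gammaS_one (hj : j ≠ 1) : classInner (gammaS h j) (fun _ => 1) = 0 := by
  rw [gammaS, classInner_add_left, classInner_sub_left, tau_betaS_one hj,
    isIrrCharacter_one.classInner_self, ← h.cycFam.one, h.cycFam.inner, if_neg fun i => hj i.2]
  simp

/-- (13.18.c) -/
theorem conj_gammaS (hj : j ≠ 1) : conjFun (gammaS h j) = gammaS h j := by
  refine Eq.trans ?_ (gammaS_eq (mt hom_inv_eq_one.1 hj) hj)
  rw [gammaS, conjFun_add, conjFun_sub, ← dade_conj, betaS,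
    conjFun_sub, ← indFun_conjFun, h.primeFam.conjFun_mu, h.cycFam.conjFun_eta]
  simp [gammaS, betaS]

/-- (13.18.d) -/
theorem nrm_le_of_gammaS (hj : j ≠ 1) {X Y : G → ℂ} (e : gammaS h j = X + Y)
    (h1 : classInner X Y = 0) (h2 : ∀ i k, classInner Y (h.η i k) = 0) :
    nrm Y ≤ ((#U : ℝ) - 1) / #W₁ := by
  classical
  have a : tau S (betaS h j) = (h.η 1 1 - h.η 1 j + X) + Y := by
    rw [add_assoc, ← e, h.cycFam.one, gammaS]; abel
  have b := nrm_betaS (h := h) hj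
  have n := hom_inv_ne_self (mso_odd W₂) hj
  have c := h.cycFam.bessel (h.η 1 1 - h.η 1 j + X) {(1, 1), (1, j), (1, j⁻¹)}
  obtain ⟨m, d⟩ := (isGen_gammaS (h := h) hj).classInner_int (h.cycFam.isGen 1 j)
  have f : ∀ k, classInner X (h.η 1 k) = classInner (gammaS h j) (h.η 1 k) := fun k => by
    rw [e, classInner_add_left, h2, add_zero]
  have g : classInner (gammaS h j) (h.η 1 j⁻¹) = m := by
    rw [← hom_inv_one, ← h.cycFam.conjFun_eta, classInner_conjFun_right, conj_gammaS hj,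
      ← conj_classInner, d, map_intCast]
  rw [a, nrm_add_of_orth (by simp [classInner_add_left, classInner_sub_left, h1,
    fun i k => classInner_eq_zero_comm.1 (h2 i k)])] at b
  rw [Finset.sum_insert (by simp [hj.symm]), Finset.sum_pair (by simp [n.symm])] at c
  simp only [classInner_add_left, classInner_sub_left, h.cycFam.inner, f, d, g] at c
  rw [h.cycFam.one, gammaS_one hj] at c
  simp only [hj, hj.symm, n.symm, hom_one_eq_inv, and_false, if_false,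
    and_self, if_true, sub_zero, add_zero, zero_sub, zero_add, norm_one,
    show (-1 + m : ℂ) = (-1 + m : ℤ) by simp, Complex.norm_intCast, sq_abs] at c
  have : (m : ℝ) ≤ m ^ 2 := by exact_mod_cast Int.le_self_sq m
  push_cast at c
  rw [h.cycFam.one] at b
  nlinarith

/-- (13.19.a) -/
theorem disj_typeF (h : PD S U W₁ W₂) (hL : TypeF L) :
    Disjoint (Td L (A1 L)) (ClS (MF[S] : Set G) ∪ ClS (W₁ ⊔ W₂ : Subgroup G)) := by
  obtain ⟨T, V, e⟩ := h.pair
  have a : ∀ M, TypeP M → ∀ g ∈ Td L (A1 L), ∀ y, ∀ x ∈ MF[M], g ≠ y * x * y⁻¹ := by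
    rintro M i _ b y x c rfl
    refine Set.disjoint_left.1 (Td_A1_disjoint hL.max i.max fun ⟨z, d⟩ =>
      (hL.cj z).not_typeP (d ▸ i)) b ((conj_mem_dadeSupp y).2 (subset_dadeSupp
        ⟨MF_le_Msigma i.max c, ?_⟩))
    rintro rfl
    exact (dade_A1 hL.max).one_notMem_supp (by simpa using b)
  rw [Set.disjoint_left]
  rintro g b (⟨y, x, c, d⟩ | ⟨y, x, c, d⟩)
  · exact a S h.typeP g b y x c d
  refine Set.disjoint_left.1 (h.disj hL.max) ⟨y, x, ⟨c, fun i => ?_⟩, d⟩ b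
  exact i.elim (fun i => a T e.hT.typeP g b y x (e.hT.le2 i) d)
    fun i => a S h.typeP g b y x (h.le2 i) d

variable {ν : CMap L G} {φ : L → ℂ}

theorem exists_frob (hL : TypeF L) : ∃ E, Frob MF[L] E L :=
  ((MF_hall L).exists_sdprod (MF_norm L)).imp fun _ => hL.frob

/-- (13.19.b) -/
theorem orth_eta_typeF (h : PD S U W₁ W₂) (hL : TypeF L) (hν : CohWith (SF L) (tau L) ν)
    (hφ : φ ∈ SF L) (i j) : classInner (ν φ) (h.η i j) = 0 := by
  obtain ⟨E, f⟩ := exists_frob hL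
  have a := irr_of_frob f φ hφ
  have b := conjFun_mem_inducedIrrAbove hφ
  have c := a.isCharacter.conjFun_one.symm
  have o : classInner (ν (conjFun φ)) (ν φ) = 0 := (hν.inner _ b _ hφ).trans
    (a.conjF.classInner_of_ne a (conjFun_ne_of_mem_inducedIrrAbove (mso_odd L) hφ))
  by_contra h1
  have h2 := h.cycFam.orth_of_nrm_le ((hν.gen _ hφ).sub (hν.gen _ b)) (fun w u v => by
    rw [← hν.agree.sub c]
    exact tau_of_notMem hL.max (a.isClassFunction.sub a.conjF.isClassFunction)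
      (supp_SF_sub hL hφ b c) fun i => Set.disjoint_left.1 (h.disj hL.max)
        ⟨1, _, h.ι_zhat u v, by simp [cycι_apply]⟩ i) (by
    rw [nrm_sub_of_orth (classInner_eq_zero_comm.1 o), (hν.isDirr hφ a).nrm_eq,
      (hν.isDirr b a.conjF).nrm_eq]; norm_num) i j
  have h3 := (h.cycFam.dirr i j).eq_smul (hν.isDirr hφ a) (mt classInner_eq_zero_comm.1 h1)
  rw [classInner_sub_left, h3, classInner_smul_right, classInner_smul_right, o, mul_zero, sub_zero,
    ← classInner_smul_right, ← h3] at h2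
  exact h1 h2

theorem orth_betaS (hj : j ≠ 1) (hL : TypeF L) (α : L → ℂ) :
    classInner (tau S (betaS h j)) (dade (A1 L) L (supportR L) α) = 0 := by
  rw [classInner, Finset.sum_eq_zero fun g _ => ?_, mul_zero]
  by_cases i : g ∈ Td L (A1 L)
  · have := Set.disjoint_left.1 (disj_typeF h hL) i
    rw [tau_betaS_eq_zero hj (fun ⟨y, x, a, b⟩ => this (Or.inl ⟨y, x, a.1, b⟩))
      fun ⟨y, x, a, b⟩ => this (Or.inr ⟨y, x, a.1, b⟩), zero_mul]
  · rw [dade_of_notMem α i, map_zero, mul_zero]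

/-- (13.19.c) -/
theorem bridge_typeF (h : PD S U W₁ W₂) (hL : TypeF L) (hν : CohWith (SF L) (tau L) ν)
    (hφ : φ ∈ SF L) (h1 : φ 1 = (MF[L] ⇂ L).index) :
    ((#MF[L] : ℝ) - 1) / MF[L].relIndex L ≤ ((#U : ℝ) - 1) / #W₁ ∨
      (∀ j, j ≠ 1 → ∃ n : ℤ,
        classInner (tau L (indFun (MF[L] ⇂ L) (fun _ => 1) - φ)) (h.η 1 j) = 2 * n + 1) ∧
      #W₂ ≤ MF[L].relIndex L := by
  classical
  obtain ⟨E, f⟩ := exists_frob hL
  have I := ind1F hL hν
  have a := irr_of_frob f φ hφ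
  have o := fun ψ u i j => classInner_eq_zero_comm.1 (orth_eta_typeF h hL hν (φ := ψ) u i j)
  have t : tau L (indFun (MF[L] ⇂ L) (fun _ => 1) - φ) = dade (A1 L) L (supportR L) _ :=
    ((dade_A0 hL.max).dade_restrict (A1_A0 L) (fun _ i _ => A1_conj i) (Dade1.cl_beta hφ)
      (I.supp_beta hφ h1)).symm
  have g : ∀ j, ∀ ψ ∈ SF L, classInner (gammaS h j) (ν ψ) = classInner (tau S (betaS h j)) (ν ψ) :=
    fun j ψ u => by
      rw [gammaS, classInner_add_left, classInner_sub_left, ← h.cycFam.one, o ψ u, o ψ u]; simp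
  rw [t]
  by_cases c : ∃ j, j ≠ 1 ∧ classInner (tau S (betaS h j)) (ν φ) ≠ 0
  · obtain ⟨j, hj, c⟩ := c
    obtain ⟨m, d⟩ := (isGen_tau_betaS (h := h) hj).classInner_int (hν.gen φ hφ)
    have := nrm_le_of_gammaS (h := h) hj (sub_add_cancel _ ((m : ℂ) • Ind1.sumNu (MF[L] ⇂ L) ν)).symm
      (by
        rw [classInner_smul_right, Ind1.inner_sumNu_of_orth fun ψ u => ?_, mul_zero]
        rw [classInner_sub_left, classInner_smul_left, I.inner_sumNu u, g j ψ u,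
          I.inner_of_orth hφ h1 u, orth_betaS hj hL, d]; ring)
      fun i k => by
        rw [classInner_smul_left, classInner_eq_zero_comm.1 (Ind1.inner_sumNu_of_orth fun ψ u => o ψ u i k), mul_zero]
    rw [nrm_intCast_smul, I.nrm_sumNu, card_sub (MF_le L)] at this
    have n : m ≠ 0 := fun i => c (by rw [d, i, Int.cast_zero])
    refine Or.inl (le_trans (le_mul_of_one_le_left (div_nonneg (sub_nonneg.2 ?_) (by positivity))
      ?_) this)
    · exact_mod_cast Nat.card_pos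
    · exact_mod_cast (one_le_sq_iff_one_le_abs m).2 (Int.one_le_abs n)
  push Not at c
  have d : ∀ j, j ≠ 1 → ∃ n : ℤ, classInner (dade (A1 L) L (supportR L)
      (indFun (MF[L] ⇂ L) (fun _ => 1) - φ)) (h.η 1 j) = 2 * n + 1 := fun j hj => by
    obtain ⟨n, e⟩ := real_even odd_G (isGen_gammaS (h := h) hj)
      ((I.beta_gen hφ h1).add (hν.gen φ hφ)) (conj_gammaS hj) (I.real_beta (mso_odd L) hφ a)
    rw [gammaS_one hj, classInner_add_right, g j φ hφ, c j hj, gammaS, classInner_add_left,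
      classInner_sub_left, orth_betaS hj hL, ← conj_classInner, I.beta_one hφ h1,
      (h.cycFam.isGen 1 j).classInner_comm (I.beta_gen hφ h1), map_one] at e
    exact ⟨n, by linear_combination e⟩
  refine Or.inr ⟨d, ?_⟩
  obtain ⟨m, Γ, -, -, -, -, e, -, n⟩ := I.exists_gamma hφ a h1 (I.exists_ne (mso_odd L) hφ)
  have p := two_mul_le_of_odd_dvd (mso_odd E) (Nat.Odd.sub_odd (mso_odd MF[L]) odd_one)
    (Nat.sub_pos_of_lt ((one_lt_card_iff_ne_bot _).2 f.ne_l)) f.card_dvd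
  have q := Nat.card_pos (α := MF[L])
  have n := (h.cycFam.bessel Γ ((Finset.univ.erase 1).map ⟨fun j => (1, j), fun _ _ e =>
    (Prod.ext_iff.1 e).2⟩)).trans (n (by rw [card_sub (MF_le L), index_sub, f.sd.relIndex_l]; omega))
  rw [Finset.sum_map] at n
  have := (Finset.card_nsmul_le_sum _ _ (1 : ℝ) fun j u => ?_).trans n
  · rw [Finset.card_erase_of_mem (Finset.mem_univ _), Finset.card_univ, h.cycTI.card_hom₂,
      nsmul_eq_mul, Nat.cast_sub Nat.card_pos] at this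
    exact_mod_cast (by simpa using this : (#W₂ : ℝ) ≤ (MF[L] ⇂ L).index)
  have hj := Finset.ne_of_mem_erase u
  obtain ⟨z, r⟩ := d j hj
  rw [e, classInner_add_left, classInner_add_left, classInner_sub_left, classInner_smul_left,
    orth_eta_typeF h hL hν hφ, classInner_eq_zero_comm.1 (Ind1.inner_sumNu_of_orth fun ψ u =>
      o ψ u 1 j), ← h.cycFam.one, h.cycFam.inner, if_neg fun i => hj i.2.symm] at r
  change 1 ≤ ‖classInner Γ (h.η 1 j)‖ ^ 2
  rw [show classInner Γ (h.η 1 j) = (2 * z + 1 : ℤ) by simpa using r, Complex.norm_intCast, sq_abs]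
  exact_mod_cast (one_le_sq_iff_one_le_abs _).2 (Int.one_le_abs (by omega))

end Cfsg.Agent.PF
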