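import Cfsg.Agent.PF.S13d
import Cfsg.Agent.BG.AppC2

/-! Peterfalvi (14.1) - (14.9) and (14.11.2).  Here `q = #W₁ < p = #W₂`. -/

set_option autoImplicit false
set_option linter.unusedSectionVars false

namespace Cfsg.Agent.PF

open Cfsg Cfsg.Agent.Char Cfsg.Agent.BG Subgroup
open scoped ComplexConjugate

theorem succ_pow_le_three_mul {n k : ℕ} (h : k ≤ n) : (n + 1) ^ k ≤ 3 * n ^ k := by
  rcases Nat.eq_zero_or_pos n with rfl | h0
  · obtain rfl : k = 0 := by omega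
    simp
  have n0 : (0 : ℝ) < n := by exact_mod_cast h0
  have a : ((n : ℝ) + 1) ^ k = (1 / n + 1) ^ k * n ^ k := by rw [← mul_pow]; congr 1; field_simp; ring
  have b : (1 / (n : ℝ) + 1) ^ k ≤ 3 := by
    calc _ ≤ Real.exp (1 / n) ^ k := pow_le_pow_left₀ (by positivity) (Real.add_one_le_exp _) k
      _ = Real.exp (k / n) := by rw [← Real.exp_nat_mul]; congr 1; ring
      _ ≤ Real.exp 1 := Real.exp_le_exp.2 ((div_le_one n0).2 (by exact_mod_cast h))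
      _ ≤ 3 := (Real.exp_one_lt_d9.trans (by norm_num)).le
  have : ((n : ℝ) + 1) ^ k ≤ 3 * n ^ k := by rw [a]; exact mul_le_mul_of_nonneg_right b (by positivity)
  exact_mod_cast this

/-- (14.8.a) -/
theorem pow_succ_lt_pow_succ {p q : ℕ} (h1 : 3 ≤ q) (h2 : q + 2 ≤ p) : p ^ (q + 1) < q ^ (p + 1) := by
  induction p, h2 using Nat.le_induction with
  | base =>
    rcases h1.eq_or_lt with rfl | h
    · norm_num
    have a := succ_pow_le_three_mul (n := q + 1) le_rfl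
    have b := succ_pow_le_three_mul (n := q) le_rfl
    have c : 9 * (q + 1) < q ^ 3 := by nlinarith [Nat.mul_le_mul h h]
    calc _ ≤ 3 * (q + 1) ^ (q + 1) := a
      _ = 3 * (q + 1) * (q + 1) ^ q := by ring
      _ ≤ 3 * (q + 1) * (3 * q ^ q) := Nat.mul_le_mul_left _ b
      _ = 9 * (q + 1) * q ^ q := by ring
      _ < q ^ 3 * q ^ q := Nat.mul_lt_mul_of_pos_right c (by positivity)
      _ = _ := by ring
  | succ p h ih =>
    calc _ ≤ 3 * p ^ (q + 1) := succ_pow_le_three_mul (by omega)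
      _ < 3 * q ^ (p + 1) := by omega
      _ ≤ q * q ^ (p + 1) := Nat.mul_le_mul_right _ h1
      _ = _ := by ring

theorem odd_add_two_le {p q : ℕ} (hp : Odd p) (hq : Odd q) (h : q < p) : q + 2 ≤ p := by
  obtain ⟨a, rfl⟩ := hp; obtain ⟨b, rfl⟩ := hq; omega

end Cfsg.Agent.PF

namespace Cfsg.Agent.BG.PPair

open Cfsg Cfsg.Agent.Char Cfsg.Agent.PF Subgroup

variable {G : Type*} [Group G] [Fintype G] [hG : MSO G] {S T L U V W₁ W₂ : Subgroup G}

/-- (14.4) -/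
theorem galoisT (h : PPair S T U V W₁ W₂) (hlt : #W₁ < #W₂) :
    Galois T V ⊥ ∧ #V * (#W₁ - 1) = #W₁ ^ #W₂ - 1 := by
  have a := h.hS.three_le₁
  have g : Galois T V ⊥ := by
    by_contra c
    have := (h.hT.nonGalois c).1
    omega
  refine ⟨g, (h.hT.card_galois g).2 fun c => ?_⟩
  have := le_of_modEq_one c (by omega)
  omega

/-- (14.5) -/
theorem supportL (h : PPair S T U V W₁ W₂) (hlt : #W₁ < #W₂) (hL : IsCoatom L) (hN : N[U] ≤ L) :
    TypeF L ∧ U ≤ MF[L] ∧ ∃ y ∈ MF[T], Frob MF[L] (cj y (W₁ ⊔ W₂)) L := by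
  obtain ⟨a, b, c⟩ := h.support (h.hS.p2_of_lt hlt) hL hN
  refine ⟨a, b, c.resolve_left fun f => ?_⟩
  obtain ⟨ν, hν⟩ := coh_of_frob a f
  obtain ⟨φ, hφ, h1⟩ := exists_deg_index hL
  have e := f.sd.relIndex_l
  rcases bridge_typeF h.hS a hν hφ h1 with d | ⟨-, d⟩
  · rw [e, div_le_div_iff_of_pos_right (by exact_mod_cast card_pos W₁), sub_le_sub_iff_right] at d
    have k : U = MF[L] := eq_of_card_le b (by exact_mod_cast d)
    have : S = L := coatom_eq' hL h.hS.max (by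
      rw [← f.sd.sup, ← k]; exact sup_le h.hS.leU h.hS.le1)
    exact a.not_typeP (this ▸ h.hS.typeP)
  · omega

/-- (14.6) -/
theorem galoisS (h : PPair S T U V W₁ W₂) (hlt : #W₁ < #W₂) : Galois S U ⊥ := by
  by_contra c
  obtain ⟨e1, e2⟩ := h.hS.nonGalois c
  obtain ⟨H₁, U₁, a, n⟩ := h.hS.p9'.exists_nonGal c
  obtain ⟨-, a1, -, -, -, -, f, hf⟩ := h.hS.p9'.nonGal_facts n
  have ev : Even (#W₂ - 1) := Nat.Odd.sub_odd (mso_odd _) odd_one
  have nc : ¬ Cyc U := fun k => by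
    have d : #U ∣ a := by
      rw [← IsCyclic.exponent_eq_card (α := U), Monoid.exponent_dvd_iff_forall_pow_eq_one]
      intro u
      have : u ^ a ∈ f.ker := by
        rw [MonoidHom.mem_ker, map_pow]
        funext i
        apply Multiplicative.toAdd.injective
        simp
      rw [hf, mem_sub] at this
      exact Subtype.ext this
    have := two_mul_le_of_odd_dvd (mso_odd U) ev (by omega) (d.trans a1)
    have k : (#W₂ - 1) * (#W₂ - 1) ≤ 2 * (#W₂ - 1) := by nlinarith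
    have := Nat.le_of_mul_le_mul_right k (by omega)
    omega
  obtain ⟨r, hr, A, hA⟩ := exists_pnElem_rank (n := 2) (H := U) (by
    by_contra k; exact nc (h.hS.abelU.cyc_of_rank (by omega)))
  have r1 : 2 * r ≤ #W₂ - 1 := two_mul_le_of_odd_dvd ((mso_odd U).of_dvd_nat hA.dvd) ev (by omega)
    (hr.dvd_of_dvd_pow (e2 ▸ hA.dvd.mul_left 4))
  have r2 : r ∉ σ[S] := fun k => (h.hS.kc (h.hS.p2_of_lt hlt)).hU.pi r hr hA.dvd (Or.inl k)
  have r3 : r ∈ τ2[S] := mem_tau2.2 ⟨hr, r2, le_antisymm (sigma'_rank_le h.hS.max hr r2)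
    ((hA.mono h.hS.leU).le_pRank hr)⟩
  obtain ⟨L, hL, hN⟩ := exists_coatom_N h.hS.U_ne_bot (ne_top_of_le h.hS.max h.hS.leU)
  obtain ⟨-, b, y, -, fr⟩ := h.supportL hlt hL hN
  have a1 : A ≤ O[{r}](MF[L]) := (MF_nil L).le_O (hA.le.trans b) (hA.pig hr)
  have t1 : Ω[r](Z[O[{r}](MF[L])]) ≤ A :=
    ((tau2_pmax h.hS.max r3 (hA.mono h.hS.leU)).sub a1 le_top).OmZ_le
  have t2 : Ω[r](Z[O[{r}](MF[L])]) ≠ ⊥ :=
    (O_pig _ _).OmZ_ne_bot fun e => hA.ne_bot hr (eq_bot_iff.2 (e ▸ a1))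
  have d := (fr.reg.mono (t1.trans (hA.le.trans b)) (cj_mono y le_sup_right)).card_dvd
    ((cj_mono y le_sup_right).trans (normOmZ r (normO _ fr.sd.norm)))
  rw [card_cj] at d
  have d' : #W₂ ∣ r ^ 2 - 1 := by
    rcases t1.lt_or_eq with l | e
    · rw [card_sub_of_sq hr hA.card l t2] at d
      exact d.trans (by simpa using Nat.sub_dvd_pow_sub_pow r 1 2)
    · rwa [e, hA.card] at d
  have := (prime_dvd_sq_sub_one ((mso_odd U).of_dvd_nat hA.dvd) hr.one_lt h.hS.prime2 d').1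
  omega

/-- (14.2), (14.7): uses appendix C (`Cfsg.Agent.AppC.final_le`) -/
theorem not_norm (h : PPair S T U V W₁ W₂) (hlt : #W₁ < #W₂) (hL : IsCoatom L) (hN : N[U] ≤ L) :
    ¬ L ≤ N[U] := fun hn => by
  obtain ⟨-, b, y, y1, fr⟩ := h.supportL hlt hL hN
  have g := h.galoisS hlt
  have p1 := h.hS.prime1
  have p2 := h.hS.prime2
  have n : cj y W₂ ≤ N[U] := ((cj_mono y le_sup_right).trans fr.sd.right).trans hn
  have d := (fr.reg.mono b (cj_mono y le_sup_right)).card_dvd n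
  rw [card_cj] at d
  have e : #U * (#W₂ - 1) = #W₂ ^ #W₁ - 1 := (h.hS.card_galois g).2 fun c => by
    have k := (h.hS.card_galois g).1 c
    have u0 := card_pos U
    have w0 : 0 < #W₂ ^ #W₁ := pow_pos p2.pos _
    zify [p2.one_le, u0, w0] at k d
    have d2 : (#W₂ : ℤ) ∣ #W₂ ^ #W₁ := dvd_pow_self _ p1.ne_zero
    have d3 : (#W₂ : ℤ) ∣ #W₁ - 1 := by
      have : (#W₁ : ℤ) - 1 = #W₂ * (#U * #W₁) - (#U - 1) * #W₁ - #W₂ ^ #W₁ := by linear_combination -k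
      rw [this]
      exact ((dvd_mul_right _ _).sub (d.mul_right _)).sub d2
    have := Int.le_of_dvd (by have := p1.two_le; omega) d3
    omega
  obtain ⟨-, -, c, -⟩ := h.hS.p9'.galois_facts g
  obtain ⟨F, _, _, f, ψ, f1, f2, f3, f4, f5, f6, f7⟩ := h.hS.p9'.galois_field g
  haveI := Fact.mk p1
  haveI := Fact.mk p2
  rw [relIndex_bot_left] at c
  refine absurd (AppC.final_le #W₂ #W₁ ?_ F f1 MF[S] U MF[T] f ψ f2 f3 (h.hS.leU.trans (MF_norm S))
    f4 f5 (fun u a v b e => ?_) e h.hT.abelem.1.comm ?_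
    (fun x a b => MF_norm T (h.hT.le1 ((f7 x a).2 b))) y y1
    fun x a b => n (mem_cj_conj.2 ((f7 x a).2 b))) hlt.not_ge
  · rwa [← e, Nat.mul_div_cancel _ (Nat.sub_pos_of_lt p2.one_lt)]
  · have k := f5 _ (mul_mem a (inv_mem b)) v b
    rw [inv_mul_cancel_right, e] at k
    exact mul_inv_eq_one.1 (mem_bot.1 ((f6 _ (mul_mem a (inv_mem b))).1
      (mul_right_cancel₀ (f4 v b).1 (k.symm.trans (one_mul _).symm))))
  · rw [h.hT.card_MF]
    exact ((Nat.coprime_primes p1 p2).2 hlt.ne).pow_left _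

/-- (14.8.b) -/
theorem ratio_lt (h : PPair S T U V W₁ W₂) (hlt : #W₁ < #W₂) :
    ((#U : ℝ) - 1) / #W₁ < ((#V : ℝ) - 1) / #W₂ := by
  have a := h.hS.p9'.u_le
  rw [relIndex_bot_left] at a
  have b := (h.galoisT hlt).2
  have q3 := h.hS.three_le₁
  have c := pow_succ_lt_pow_succ q3 (odd_add_two_le (mso_odd _) (mso_odd _) hlt)
  have w1 : 0 < #W₂ ^ #W₁ := pow_pos (by omega) _
  have w2 : 0 < #W₁ ^ #W₂ := pow_pos (by omega) _
  have v0 := card_pos V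
  rw [div_lt_div_iff₀ (by exact_mod_cast card_pos W₁) (by exact_mod_cast card_pos W₂)]
  have : ((#U : ℤ) - 1) * #W₂ < (#V - 1) * #W₁ := by
    zify [w1, w2, show 1 ≤ #W₁ by omega, show 1 ≤ #W₂ by omega] at a b c hlt q3 v0
    rw [pow_succ, pow_succ] at c
    refine lt_of_mul_lt_mul_right (a := (#W₂ : ℤ) - 1) ?_ (by omega)
    nlinarith [mul_le_mul_of_nonneg_right a (show (0 : ℤ) ≤ #W₂ by omega),
      mul_nonneg (mul_nonneg (show (0 : ℤ) ≤ #V - 1 by omega) (show (0 : ℤ) ≤ #W₁ by omega))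
        (show (0 : ℤ) ≤ #W₂ - #W₁ by omega)]
  exact_mod_cast this

/-- (14.9) -/
theorem p2T (h : PPair S T U V W₁ W₂) (hlt : #W₁ < #W₂) : TypeP2 T := by
  classical
  refine h.hT.typeP.p1_or_p2.resolve_left fun h1 => (h.ratio_lt hlt).not_ge ?_
  have D := h.hT.pdD h1
  have eF := h.hT.F_eq
  have cm : ⁅⁅T, T⁆ ⇂ T, ⁅T, T⁆ ⇂ T⁆ ≤ F[T] ⇂ T := by
    rw [← sub_comm (der_le T) (der_le T), h.hT.p9'.der2 h1, sup_bot_eq, eF]
  have deg : ∀ ζ ∈ SD T F[T], ζ 1 = (#W₂ : ℕ) := fun ζ hζ => by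
    rw [degree_eq_of_commutator_le cm hζ, h.hT.index_der]
  have sub : SD T F[T] ⊆ indD (⁅T, T⁆ ⇂ T) (⁅T, T⁆ ⇂ T) ⊥ := by
    rw [indD_self le_rfl]; exact inducedIrrAbove_anti bot_le
  have irr : ∀ ζ ∈ SD T F[T], IsIrrCharacter T ζ := fun ζ hζ => by
    refine ((D.cases_indD (sub hζ)).resolve_left ?_).1
    rintro ⟨j, hj, rfl⟩
    have := indD_eq_sdiff.le (h.hT.muR_mem hj)
    exact this.2 (eF ▸ hζ)
  have DI := D.degIso.mono sub
  obtain ⟨ν, hν⟩ := DI.coh_of_irr irr fun φ a ψ b => by rw [deg φ a, deg ψ b]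
  have cj : ∀ ζ ∈ SD T F[T], conjFun ζ ∈ SD T F[T] := fun ζ => conjFun_mem_inducedIrrAbove
  have cne : ∀ ζ ∈ SD T F[T], conjFun ζ ≠ ζ := fun ζ =>
    conjFun_ne_of_mem_inducedIrrAbove (mso_odd T)
  have oη : ∀ ζ ∈ SD T F[T], ∀ i j, classInner (ν ζ) (h.hT.η i j) = 0 := fun ζ hζ =>
    D.orth_of_cohWith sub hν hζ (cj ζ hζ) (irr ζ hζ) (irr _ (cj ζ hζ)) (cne ζ hζ).symm
      (by rw [deg ζ hζ, deg _ (cj ζ hζ)])
  obtain ⟨j, hj⟩ : ∃ j : W₂ →* ℂˣ, j ≠ 1 := by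
    have := h.hS.three_le₂
    rw [← h.hS.cycTI.card_hom₂] at this
    exact Fintype.exists_ne_of_one_lt_card (by omega) 1
  have gΓ := isGen_gammaS (h := h.hS) hj
  have odd : ∀ ζ ∈ SD T F[T], 1 ≤ ‖classInner (gammaS h.hS j) (ν ζ)‖ ^ 2 := fun ζ hζ => by
    have m1 : h.hT.μR 1 1 = (#W₂ : ℕ) := by
      rw [PD.μR, h.hT.primeFam.muR_one 1 1, h.hT.primeFam.one_one, mul_one]
    have b1 : (h.hT.μR 1 - ζ) 1 = 0 := by rw [Pi.sub_apply, m1, deg ζ hζ, sub_self]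
    have b2 : ∀ x : T, (x : G) ∉ A1 T → (h.hT.μR 1 - ζ) x = 0 := fun x hx => by
      by_cases e : x = 1
      · rw [e, b1]
      have : x ∉ ⁅T, T⁆ ⇂ T := fun c =>
        hx (mem_A1.2 ⟨h.hT.p1_der h1 ▸ mem_sub.1 c, fun d => e (Subtype.ext d)⟩)
      rw [Pi.sub_apply, PD.μR, h.hT.primeFam.muR_of_notMem 1 this,
        apply_eq_zero_of_mem_inducedIrrAbove hζ this, sub_self]
    have b3 : IsGeneralizedCharacter T (h.hT.μR 1 - ζ) :=
      (h.hT.primeFam.isCharacter_muR 1).isGen.sub (irr ζ hζ).isCharacter.isGen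
    have b4 := (dade_A0 h.hT.max).isGen_dade b3 fun x hx => b2 x fun c => hx (A1_A0 T c)
    have c1 : classInner (tau S (betaS h.hS j)) (tau T (h.hT.μR 1 - ζ)) = 0 := by
      rw [classInner, Finset.sum_eq_zero fun g _ => ?_, mul_zero]
      by_cases k : g ∈ Td T (A1 T)
      · rw [tau_betaS_eq_zero hj (fun c => ?_) (Set.disjoint_right.1 (h.hS.disj h.hT.max) k),
          zero_mul]
        refine Set.disjoint_left.1 (Td_A1_disjoint h.hS.max h.hT.max h.ncj) ?_ k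
        rw [h.hS.Td_eq (A1_A0 S)]
        obtain ⟨y, a, a1, rfl⟩ := c
        exact ⟨y, a, mem_A1.2 ⟨MF_le_Msigma h.hS.max a1.1, a1.2⟩, rfl⟩
      · rw [tau_of_notMem h.hT.max b3.isClassFunction b2 k, map_zero, mul_zero]
    have c2 : classInner (fun _ => 1) (tau T (h.hT.μR 1 - ζ)) = 1 := by
      rw [← conj_classInner, ← h.hT.cycFam.one, h.hT.inner_bridge0 h1 hζ, if_pos rfl, map_one]
    have c3 : classInner (h.hS.η 1 j) (tau T (h.hT.μR 1 - ζ)) = 0 := by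
      rw [← conj_classInner, ← h.hS.η_swap h.hT, h.hT.inner_bridge0 h1 hζ, if_neg hj, map_zero]
    have r : conjFun (tau T (h.hT.μR 1 - ζ) + ν ζ) = tau T (h.hT.μR 1 - ζ) + ν ζ := by
      rw [conjFun_add, ← dade_conj, ← DI.conj_cohWith hν (fun α => dade_conj α) hζ (irr ζ hζ)
        (cj ζ hζ) (cne ζ hζ), conjFun_sub, PD.μR, h.hT.primeFam.conjFun_muR, hom_inv_one,
        hν.agree.sub (m1.trans (deg ζ hζ).symm), hν.agree.sub (m1.trans (deg _ (cj ζ hζ)).symm),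
        sub_add_cancel, sub_add_cancel]
    obtain ⟨n, hn⟩ := real_even odd_G gΓ (b4.add (hν.gen ζ hζ)) (conj_gammaS hj) r
    rw [gammaS_one hj, zero_mul, zero_add, classInner_add_right] at hn
    have c4 : classInner (gammaS h.hS j) (tau T (h.hT.μR 1 - ζ)) = -1 := by
      rw [gammaS, classInner_add_left, classInner_sub_left, c1, c2, c3]; ring
    have c5 : classInner (gammaS h.hS j) (ν ζ) = ((2 * n + 1 : ℤ) : ℂ) := by
      rw [c4] at hn; push_cast; linear_combination hn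
    rw [c5, Complex.norm_intCast, sq_abs]
    have : 1 ≤ (2 * n + 1) ^ 2 := by
      have : 2 * n + 1 ≠ 0 := by omega
      have : 0 < (2 * n + 1) ^ 2 := by positivity
      omega
    exact_mod_cast this
  have orth : ∀ φ ∈ seqInd (⁅T, T⁆ ⇂ T) (F[T] ⇂ T), ∀ ψ ∈ seqInd (⁅T, T⁆ ⇂ T) (F[T] ⇂ T), φ ≠ ψ →
      classInner (ν φ) (ν ψ) = 0 := fun φ a ψ b c => by
    rw [hν.inner φ (mem_seqInd.1 a) ψ (mem_seqInd.1 b),
      orth_of_mem_inducedIrrAbove (mem_seqInd.1 a) (mem_seqInd.1 b) c]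
  refine le_trans ?_ (nrm_le_of_gammaS hj (sub_add_cancel _ _).symm
    (classInner_sub_proj_proj orth _ (gammaS h.hS j)) fun i k => proj_classInner_of_orth
      (fun φ a => by rw [← h.hS.η_swap h.hT]; exact oη φ (mem_seqInd.1 a) k i) _)
  have s := sum_seqInd_sq_of_irr irr
  rw [Finset.sum_congr rfl fun φ a => by rw [deg φ (mem_seqInd.1 a), Complex.natCast_re],
    Finset.sum_const, nsmul_eq_mul, h.hT.index_der, relIndex_sub (der_le T), eF,
    h.hT.sd.relIndex_l] at s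
  have w : (0 : ℝ) < #W₂ := by exact_mod_cast card_pos W₂
  rw [nrm_proj orth, div_le_iff₀ w]
  have s' : (#V : ℝ) - 1 = (∑ _φ ∈ seqInd (⁅T, T⁆ ⇂ T) (F[T] ⇂ T), (1 : ℝ)) * #W₂ := by
    rw [Finset.sum_const, nsmul_eq_mul, mul_one, eF]
    exact mul_left_cancel₀ w.ne' (s.symm.trans (by ring))
  rw [s']
  refine mul_le_mul_of_nonneg_right (Finset.sum_le_sum fun φ a => ?_) w.le
  rw [(hν.isDirr (mem_seqInd.1 a) (irr φ (mem_seqInd.1 a))).nrm_eq, div_one]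
  exact odd φ (mem_seqInd.1 a)

/-- (14.11.2), reused in (14.16) -/
theorem support_coh (h : PPair S T U V W₁ W₂) (hL : TypeF L) {ν : CMap L G}
    (hν : CohWith (SF L) (tau L) ν) {φ : L → ℂ} (hφ : φ ∈ SF L) (h1 : φ 1 = (MF[L] ⇂ L).index)
    (he : MF[L].relIndex L ≤ #W₂ * #W₁)
    (hu : ((#U : ℝ) - 1) / #W₁ < ((#MF[L] : ℝ) - 1) / MF[L].relIndex L)
    (hv : ((#V : ℝ) - 1) / #W₂ < ((#MF[L] : ℝ) - 1) / MF[L].relIndex L) :
    MF[L].relIndex L = #W₂ * #W₁ ∧ ∃ (ε : (W₁ →* ℂˣ) → (W₂ →* ℂˣ) → ℤ) (χ : G → ℂ),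
      (∀ i j, ε i j = 1 ∨ ε i j = -1) ∧ (χ = ν φ ∨ χ = -ν (conjFun φ)) ∧
      tau L (indFun (MF[L] ⇂ L) (fun _ => 1) - φ) = ∑ i, ∑ j, (ε i j : ℂ) • h.hS.η i j - χ := by
  classical
  obtain ⟨E, hE⟩ := hL.exists_ofF
  have irr := irr_of_frob (hL.frob hE.sd)
  have I := ind1F hL hν
  have hi := irr φ hφ
  have hφ' : conjFun φ ∈ SF L := conjFun_mem_inducedIrrAbove hφ
  have ne : conjFun φ ≠ φ := conjFun_ne_of_mem_inducedIrrAbove (mso_odd L) hφ
  have k1 := ((bridge_typeF h.hS hL hν hφ h1).resolve_left hu.not_ge).1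
  have k2 := ((bridge_typeF h.hT hL hν hφ h1).resolve_left hv.not_ge).1
  have e : tau L (indFun (MF[L] ⇂ L) (fun _ => 1) - φ) =
      dade (A1 L) L (supportR L) (indFun (MF[L] ⇂ L) (fun _ => 1) - φ) :=
    ((dade_A0 hL.max).dade_restrict (A1_A0 L) (fun _ a _ b => A1_conj a b) (Dade1.cl_beta hφ)
      (I.supp_beta hφ h1)).symm
  rw [e] at k1 k2 ⊢
  have g := I.beta_gen hφ h1
  have n := I.nrm_beta hφ hi h1
  obtain ⟨a, ha⟩ := I.exists_a hφ h1
  have ha' := I.beta_inner hφ hi h1 ha hφ'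
  rw [if_neg ne, sub_zero, hi.isCharacter.conjFun_one, h1,
    div_self (by exact_mod_cast (MF[L] ⇂ L).index_ne_zero_of_finite), mul_one] at ha'
  have one := I.beta_one hφ h1
  have van : ∀ w : W₁ × W₂, w.1 ≠ 1 → w.2 ≠ 1 → dade (A1 L) L (supportR L)
      (indFun (MF[L] ⇂ L) (fun _ => 1) - φ) (cycι h.hS.comm w) = 0 := fun w _ _ =>
    dade_of_notMem _ (Set.disjoint_right.1 (disj_typeF h.hS hL)
      (Or.inr ⟨1, _, cycι_mem (h := h.hS.comm) w, by simp⟩))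
  generalize dade (A1 L) L (supportR L) (indFun (MF[L] ⇂ L) (fun _ => 1) - φ) = β at *
  have C := h.hS.cycFam
  have od : ∀ i j, ∃ m : ℤ, classInner β (h.hS.η i j) = ((2 * m + 1 : ℤ) : ℂ) := fun i j => by
    have x := C.exchange g.isClassFunction van i j 1 1
    rw [C.one, one] at x
    have y : ∃ m : ℤ, classInner β (h.hS.η 1 j) = 2 * m + 1 := by
      by_cases c : j = 1
      · exact ⟨0, by rw [c, C.one, one]; simp⟩
      · exact k1 j c
    have z : ∃ m : ℤ, classInner β (h.hS.η i 1) = 2 * m + 1 := by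
      by_cases c : i = 1
      · exact ⟨0, by rw [c, C.one, one]; simp⟩
      · rw [← h.hS.η_swap h.hT]; exact k2 i c
    obtain ⟨m, y⟩ := y
    obtain ⟨m', z⟩ := z
    exact ⟨m + m', by push_cast; linear_combination x + y + z⟩
  choose m hm using od
  have o2 : ∀ χ ∈ ({φ, conjFun φ} : Finset (L → ℂ)), χ ∈ SF L := by
    simp only [Finset.mem_insert, Finset.mem_singleton]
    rintro _ (rfl | rfl); exacts [hφ, hφ']
  have o3 : ∀ χ ∈ ({φ, conjFun φ} : Finset (L → ℂ)), ∀ ψ ∈ ({φ, conjFun φ} : Finset (L → ℂ)),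
      χ ≠ ψ → classInner (ν χ) (ν ψ) = 0 := fun χ a ψ b => I.orth (o2 χ a) (o2 ψ b)
  have P := nrm_proj_add_le (C.orth' Finset.univ) o3 (fun w _ χ a => by
    rw [← conj_classInner, orth_eta_typeF h.hS hL hν (o2 χ a), map_zero]) β
  rw [nrm_proj (C.orth' _), nrm_proj o3, Finset.sum_pair ne.symm, ha, ha', (I.isDirr hφ hi).nrm_eq,
    (I.isDirr hφ' (irr _ hφ')).nrm_eq, n, index_sub] at P
  simp only [hm, C.nrm_eq, div_one, ← Int.cast_one (R := ℂ), ← Int.cast_sub, Complex.norm_intCast,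
    sq_abs] at P
  have cd : (Finset.univ : Finset ((W₁ →* ℂˣ) × (W₂ →* ℂˣ))).card = #W₂ * #W₁ := by
    rw [Finset.card_univ, Fintype.card_prod, C.card_hom₁, C.card_hom₂, mul_comm]
  have l1 : ∀ w ∈ (Finset.univ : Finset ((W₁ →* ℂˣ) × (W₂ →* ℂˣ))),
      (1 : ℝ) ≤ ((2 * m w.1 w.2 + 1 : ℤ) : ℝ) ^ 2 := fun w _ => by
    have : 2 * m w.1 w.2 + 1 ≠ 0 := by omega
    have : 0 < (2 * m w.1 w.2 + 1) ^ 2 := by positivity
    exact_mod_cast this
  have l2 := Finset.sum_le_sum l1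
  have l3 : ∑ _w : (W₁ →* ℂˣ) × (W₂ →* ℂˣ), (1 : ℝ) = (#W₂ * #W₁ : ℕ) := by
    rw [Finset.sum_const, cd, nsmul_eq_mul, mul_one]
  have l4 : (1 : ℝ) ≤ ((a - 1 : ℤ) : ℝ) ^ 2 + (a : ℝ) ^ 2 := by
    have : 1 ≤ (a - 1) ^ 2 + a ^ 2 := by
      rcases le_or_gt a 0 with c | c <;> nlinarith
    exact_mod_cast this
  have l5 := nrm_nonneg (β - proj Finset.univ (fun p : (W₁ →* ℂˣ) × (W₂ →* ℂˣ) => h.hS.η p.1 p.2) β -
    proj {φ, conjFun φ} ν β)
  have l6 : (MF[L].relIndex L : ℝ) ≤ (#W₂ * #W₁ : ℕ) := by exact_mod_cast he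
  have r1 : (MF[L].relIndex L : ℝ) = (#W₂ * #W₁ : ℕ) := by linarith
  have r2 := (Finset.sum_eq_sum_iff_of_le l1).1 (by linarith)
  have r3 : (a - 1) ^ 2 + a ^ 2 = 1 := by
    have : ((a - 1 : ℤ) : ℝ) ^ 2 + (a : ℝ) ^ 2 = 1 := by linarith
    exact_mod_cast this
  have r4 := eq_zero_of_nrm_le (φ := β - proj Finset.univ (fun p : (W₁ →* ℂˣ) × (W₂ →* ℂˣ) => h.hS.η p.1 p.2) β -
    proj {φ, conjFun φ} ν β) (by linarith)
  rw [sub_sub, sub_eq_zero, proj, proj, Finset.sum_pair ne.symm, ha, ha', (I.isDirr hφ hi).nrm_eq,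
    (I.isDirr hφ' (irr _ hφ')).nrm_eq, Fintype.sum_prod_type] at r4
  simp only [hm, C.nrm_eq, Complex.ofReal_one, div_one] at r4
  refine ⟨by exact_mod_cast r1, fun i j => 2 * m i j + 1, -(((a : ℂ) - 1) • ν φ + (a : ℂ) • ν (conjFun φ)),
    fun i j => ?_, ?_, by rw [sub_neg_eq_add]; exact r4⟩
  · have := (r2 (i, j) (Finset.mem_univ _)).symm
    exact sq_eq_one_iff.1 (by exact_mod_cast this)
  · have : a = 0 ∨ a = 1 := by
      have : a * (a - 1) = 0 := by linarith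
      rcases mul_eq_zero.1 this with c | c
      · exact Or.inl c
      · exact Or.inr (by omega)
    rcases this with rfl | rfl <;> simp

end Cfsg.Agent.BG.PPair

namespace Cfsg.Agent.PF

end Cfsg.Agent.PF
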