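import Cfsg.Agent.PF.S14a

/-! Peterfalvi (14.10) - (14.17): the Feit-Thompson theorem. -/

set_option autoImplicit false
set_option linter.unusedSectionVars false

namespace Cfsg.Agent.PF

open Cfsg Cfsg.Agent.Char Cfsg.Agent.BG Subgroup
open scoped ComplexConjugate

theorem Ind1.le_of_nonorth {G : Type*} [Group G] [Fintype G] {A A₂ : Set G} {L L₂ : Subgroup G}
    [Fintype L] [Fintype L₂] {R R₂ : G → Subgroup G} {K : Subgroup L} {K₂ : Subgroup L₂}
    {ν : CMap L G} {ν₂ : CMap L₂ G} (h : Ind1 A L R K ν) (h' : Ind1 A₂ L₂ R₂ K₂ ν₂)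
    (hodd : Odd (Nat.card G)) (hd : Disjoint (dadeSupp A R) (dadeSupp A₂ R₂))
    (i1 : ∀ φ ∈ inducedIrrAbove K ⊥, IsIrrCharacter L φ)
    (i2 : ∀ φ ∈ inducedIrrAbove K₂ ⊥, IsIrrCharacter L₂ φ) {ζ : L → ℂ} {ζ₂ : L₂ → ℂ}
    (hζ : ζ ∈ inducedIrrAbove K ⊥) (h1 : ζ 1 = K.index) (hζ₂ : ζ₂ ∈ inducedIrrAbove K₂ ⊥)
    (h2 : ζ₂ 1 = K₂.index) (he : 2 * K.index + 1 ≤ Nat.card K)
    (hx : classInner (dade A L R (indFun K (fun _ => 1) - ζ)) (ν₂ ζ₂) ≠ 0) :
    ((Nat.card K₂ : ℝ) - 1) / K₂.index ≤ K.index - 1 := by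
  classical
  obtain ⟨a, Γ, -, -, -, -, e, -, g3⟩ := h.exists_gamma hζ (i1 _ hζ) h1
    (h.exists_ne (Ind1.odd_sub hodd _) hζ)
  refine le_trans ?_ (g3 he)
  have ho : ∀ φ ∈ inducedIrrAbove K ⊥, ∀ ψ ∈ inducedIrrAbove K₂ ⊥, classInner (ν φ) (ν₂ ψ) = 0 :=
    fun φ hφ ψ hψ => h.orth_of_disjoint h' hodd hd hφ (i1 _ hφ) hψ (i2 _ hψ)
  obtain ⟨x, hx'⟩ := (h.beta_gen hζ h1).classInner_int (h'.iso.gen _ hζ₂)
  have hx1 : (1 : ℝ) ≤ (x : ℝ) ^ 2 := by
    have : x ≠ 0 := by rintro rfl; exact hx (hx'.trans Int.cast_zero)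
    exact_mod_cast (one_le_sq_iff_one_le_abs x).2 (Int.one_le_abs this)
  have h3 : classInner (Γ - (x : ℂ) • Ind1.sumNu K₂ ν₂) (Ind1.sumNu K₂ ν₂) = 0 := by
    apply Ind1.inner_sumNu_of_orth
    intro φ hφ
    have h4 := h'.inner_of_orth hζ₂ h2 hφ (dade A L R (indFun K (fun _ => 1) - ζ))
    rw [classInner_dade_disjoint hd, hx', e, classInner_add_left, classInner_add_left,
      classInner_sub_left, classInner_smul_left,
      classInner_eq_zero_comm.1 (h'.orth_one hζ₂ (i2 _ hζ₂)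
        (h'.exists_ne (Ind1.odd_sub hodd _) hζ₂) hφ), ho _ hζ _ hφ,
      classInner_eq_zero_comm.1 (Ind1.inner_sumNu_of_orth fun ψ hψ =>
        classInner_eq_zero_comm.1 (ho _ hψ _ hφ))] at h4
    rw [classInner_sub_left, classInner_smul_left, h'.inner_sumNu hφ]
    linear_combination h4
  have b := bessel (s := {()}) (e := fun _ => Ind1.sumNu K₂ ν₂) (fun _ _ _ _ c => (c rfl).elim) Γ
  rw [classInner_sub_left, classInner_smul_left, classInner_self_nrm, sub_eq_zero] at h3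
  have n := nrm_nonneg (Ind1.sumNu K₂ ν₂)
  rw [Finset.sum_singleton, h3, norm_mul, Complex.norm_intCast, Complex.norm_real, Real.norm_eq_abs,
    mul_pow, sq_abs, sq_abs] at b
  rw [← h'.nrm_sumNu]
  refine le_trans ?_ b
  rcases n.eq_or_lt with c | c
  · simp [← c]
  rw [le_div_iff₀ c]
  nlinarith

theorem le_pow_sub_two {p q : ℕ} (hq : 3 ≤ q) (hp : 3 ≤ p) : p * q ^ 2 ≤ q ^ p := by
  obtain ⟨m, rfl⟩ : ∃ m, p = m + 3 := ⟨p - 3, by omega⟩
  have a : m + 3 ≤ 3 ^ (m + 1) := by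
    have := one_add_mul_le_pow (a := (2 : ℤ)) (by norm_num) (m + 1)
    zify; push_cast at this; linarith
  calc _ ≤ q ^ (m + 1) * q ^ 2 := Nat.mul_le_mul_right _ (a.trans (Nat.pow_le_pow_left hq _))
    _ = _ := by ring

theorem arith1411 {p q u v k : ℝ} (hq : 3 ≤ q) (hp : q + 2 ≤ p) (hu : 2 ≤ u) (hv : p * q ≤ v)
    (hk : 2 * p * v ≤ k) {a b : ℝ} (ha : 0 < a) (hb : 0 < b) :
    (a - 1) / (a * u * q) + (b - 1) / (b * v * p) + (q * p + 1 - q - p) / (q * p) +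
      (k - 1) / (p * q * k) < 1 - p * q / k := by
  have v0 : 0 < v := by nlinarith
  have k0 : 0 < k := by nlinarith
  have p0 : 0 < p := by linarith
  have q0 : 0 < q := by linarith
  have a1 : (a - 1) / (a * u * q) ≤ p / 2 / (p * q) := by
    rw [div_le_iff₀ (by positivity)]; field_simp; nlinarith
  have a2 : (b - 1) / (b * v * p) ≤ 1 / 5 / (p * q) := by
    have : 5 * q ≤ v := by nlinarith
    rw [div_le_iff₀ (by positivity)]; field_simp; nlinarith
  have a3 : (k - 1) / (p * q * k) ≤ 1 / (p * q) := by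
    rw [div_le_iff₀ (by positivity)]; field_simp; nlinarith
  have a4 : p * q / k ≤ q / 2 / (p * q) := by
    rw [div_le_iff₀ (by positivity)]; field_simp; nlinarith
  have a5 : p / 2 / (p * q) + 1 / 5 / (p * q) + (q * p + 1 - q - p) / (q * p) + 1 / (p * q) +
      q / 2 / (p * q) < 1 := by
    field_simp; nlinarith
  linarith

/-- (14.14.b) -/
theorem arith1414 {p q v : ℕ} (hq : 3 ≤ q) (hp : q + 2 ≤ p) (o1 : Odd p) (o2 : Odd q)
    (hv : v * (q - 1) = q ^ p - 1) (h : v - 1 ≤ (p * q - 1) * (p * q)) : p = 5 ∧ q = 3 := by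
  have key : p < 7 := by
    by_contra c
    have a : ∀ n, 7 ≤ n → n ^ 2 ≤ 3 ^ (n - 3) := fun n hn => by
      induction n, hn using Nat.le_induction with
      | base => norm_num
      | succ n h ih => rw [show n + 1 - 3 = n - 3 + 1 by omega, pow_succ 3]; nlinarith
    have b : p ^ 2 * q ^ 3 ≤ q ^ p := by
      calc _ ≤ q ^ (p - 3) * q ^ 3 :=
          Nat.mul_le_mul_right _ ((a p (by omega)).trans (Nat.pow_le_pow_left hq _))
        _ = _ := by rw [← pow_add]; congr 1; omega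
    have w : 0 < q ^ p := by positivity
    have v0 : 0 < v := Nat.pos_of_ne_zero fun e => by
      have : q ^ 1 ≤ q ^ p := Nat.pow_le_pow_right (by omega) (by omega)
      rw [e] at hv; rw [pow_one] at this; omega
    have x : 1 ≤ p * q := by nlinarith
    zify [w, v0, x, show 1 ≤ q by omega] at hv h b hq hp
    nlinarith [mul_le_mul_of_nonneg_right h (show (0 : ℤ) ≤ q - 1 by omega),
      mul_pos (show (0 : ℤ) < p by omega) (show (0 : ℤ) < q by omega)]
  obtain ⟨a, rfl⟩ := o1; obtain ⟨b, rfl⟩ := o2; omega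

theorem modEq_one_of_mul {u x n : ℕ} (h1 : u ≡ 1 [MOD n]) (h2 : u * x ≡ 1 [MOD n]) : x ≡ 1 [MOD n] := by
  simpa using (h1.mul_right x).symm.trans h2

/-- (14.15) -/
theorem arith1415 {p q u x : ℕ} (hq : 3 ≤ q) (hp : q < p) (o1 : Odd p) (o2 : Odd q) (o3 : Odd x)
    (e1 : p ≡ 1 [MOD q]) (e2 : u * q * (p - 1) = p ^ q - 1) (e3 : u ≡ 1 [MOD q])
    (e4 : u * x ≡ 1 [MOD q * p]) : (p * q - 1) * (p * q) < u * x - 1 := by
  have p0 : 0 < p := by omega
  have w : 0 < p ^ q := by positivity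
  have u0 : 0 < u := Nat.pos_of_ne_zero fun e => by
    have : p ^ 1 ≤ p ^ q := Nat.pow_le_pow_right (by omega) (by omega)
    rw [e] at e2; rw [pow_one] at this; omega
  have e5 : u * q * p + 1 = p ^ q + u * q := by
    zify [w, show 1 ≤ p by omega] at e2 ⊢; linear_combination e2
  have a1 : u * q ≡ 1 [MOD p] := by
    refine ((Nat.modEq_iff_dvd' (Nat.mul_pos u0 (by omega))).2 ?_).symm
    rw [show u * q - 1 = u * q * p - p ^ q by omega]
    exact Nat.dvd_sub (dvd_mul_left _ _) (dvd_pow_self p (by omega))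
  have a2 : x ≡ q [MOD p] := by
    have b := (a1.mul_left x).symm.trans
      (show x * (u * q) ≡ 1 * q [MOD p] from mul_assoc x u q ▸ (mul_comm u x ▸ e4.of_mul_left q).mul_right q)
    simpa using b
  have a3 := modEq_one_of_mul e3 (e4.of_mul_right p)
  have a4 := le_of_modEq_one_of_odd e1 (by omega) o1 o2
  obtain ⟨n, rfl⟩ : ∃ n, x = q + p * n := ⟨x / p, by
    have := Nat.mod_add_div x p
    rw [a2, Nat.mod_eq_of_lt hp] at this; omega⟩
  have a5 : n ≡ 1 [MOD q] := modEq_one_of_mul e1 (by simpa [Nat.ModEq] using a3)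
  have a6 : q + 1 ≤ n := le_of_modEq_one a5 (by
    by_contra c
    obtain rfl | rfl : n = 0 ∨ n = 1 := by omega
    · exact absurd (Nat.dvd_one.1 ((Nat.modEq_zero_iff_dvd).1 a5.symm)) (by omega)
    · rw [mul_one] at o3; exact (Nat.not_odd_iff_even.2 (o2.add_odd o1)) o3)
  have a7 : q ^ 3 < (q + 1) * p ^ (q - 2) := by
    rcases hq.eq_or_lt with rfl | c
    · norm_num; omega
    · have : p ^ 2 ≤ p ^ (q - 2) := Nat.pow_le_pow_right (by omega) (by omega)
      nlinarith [Nat.pow_le_pow_left hp.le 2]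
  have a8 : p ^ q = p ^ (q - 2) * p * p := by rw [← pow_succ, ← pow_succ]; congr 1; omega
  have a9 : p ^ (q - 2) * p ≤ u * q := by
    refine Nat.le_of_mul_le_mul_right ?_ (by omega : 0 < p)
    have := Nat.mul_pos u0 (by omega : 0 < q)
    omega
  have b1 : q ^ 2 * p ^ 2 < u * (p * n) := by
    refine Nat.lt_of_mul_lt_mul_right (a := q) ?_
    calc _ = q ^ 3 * (p * p) := by ring
      _ < (q + 1) * p ^ (q - 2) * (p * p) := Nat.mul_lt_mul_of_pos_right a7 (by positivity)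
      _ = (q + 1) * (p ^ (q - 2) * p) * p := by ring
      _ ≤ n * (u * q) * p := Nat.mul_le_mul_right _ (Nat.mul_le_mul a6 a9)
      _ = _ := by ring
  have x : 1 ≤ p * q := by nlinarith
  have y : 1 ≤ u * (q + p * n) := by nlinarith
  zify [x, y] at b1 x u0 hq ⊢
  nlinarith

end Cfsg.Agent.PF

namespace Cfsg.Agent.BG

open Cfsg Cfsg.Agent.Char Cfsg.Agent.PF Subgroup
open scoped ComplexConjugate

variable {G : Type*} [Group G] [Fintype G] [hG : MSO G] {S T M L E K U V W₁ W₂ : Subgroup G}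

omit hG in
theorem Frob.modEq (h : Frob K E M) : #K ≡ 1 [MOD #E] :=
  ((Nat.modEq_iff_dvd' (card_pos K)).2 h.card_dvd).symm

theorem Frob.two_mul_le (h : Frob K E M) : 2 * (K ⇂ M).index + 1 ≤ Nat.card (K ⇂ M) := by
  rw [index_sub, h.sd.relIndex_l, card_sub h.sd.left]
  exact le_of_modEq_one_of_odd h.modEq (one_lt_card h.ne_l) (mso_odd _) (mso_odd _)

namespace PD

theorem frobU (h : PD S U W₁ W₂) (hg : Galois S U ⊥) : Frob MF[S] U ⁅S, S⁆ :=
  ⟨h.sd, fun e => h.ne2 (eq_bot_iff.2 (e ▸ h.le2)), h.U_ne_bot, fun x hx h1 => eq_bot_iff.2 fun y hy =>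
    ((h.p9'.galois_facts hg).2.1 x hx y hy.1 (by rw [← mem_C1.1 hy.2]; simp)).resolve_left h1⟩

theorem ncard_clS_MF (h : PD S U W₁ W₂) : (Nat.card G : ℝ)⁻¹ * (ClS ((MF[S] : Set G) \ {1})).ncard =
    ((#MF[S] : ℝ) - 1) / (#MF[S] * #U * #W₁) := by
  have m : ∀ x ∈ (MF[S] : Set G) \ {1}, x ∈ A0 S := fun x a =>
    A1_A0 S (mem_A1.2 ⟨MF_le_Msigma h.max a.1, a.2⟩)
  rw [card_clS_of (L := S) (A := (MF[S] : Set G) \ {1}) (fun g a x b => ⟨conj_mem (MF_norm S a) b.1, by simpa using b.2⟩)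
    fun g x a b => h.nti_A0.ti g x (m _ a) (m _ b), ← S.card_mul_index, ← h.der.card, ← h.sd.card]
  have := S.index_ne_zero_of_finite
  have := (card_pos U).ne'
  have := (card_pos W₁).ne'
  have := (card_pos MF[S]).ne'
  push_cast
  rw [ncard_diff_one]
  field_simp

theorem ncard_clS_zhat (h : PD S U W₁ W₂) : (Nat.card G : ℝ)⁻¹ * (ClS (Zhat W₁ W₂)).ncard =
    ((#W₁ : ℝ) * #W₂ + 1 - #W₁ - #W₂) / (#W₁ * #W₂) := by
  have z : ((Zhat W₁ W₂).ncard : ℝ) + #W₁ + #W₂ = #W₁ * #W₂ + 1 := by exact_mod_cast h.card_zhat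
  rw [h.nti.card_clS, ← (W₁ ⊔ W₂).card_mul_index, ← h.dp.card, ← z]
  have := (W₁ ⊔ W₂).index_ne_zero_of_finite
  have := (card_pos W₁).ne'
  have := (card_pos W₂).ne'
  push_cast
  field_simp
  ring

theorem one_le_sum_eta (h : PD S U W₁ W₂) {ε : (W₁ →* ℂˣ) → (W₂ →* ℂˣ) → ℤ}
    (hε : ∀ i j, ε i j = 1 ∨ ε i j = -1) {g : G} (hg : (orderOf g).Coprime (#W₁ * #W₂)) :
    1 ≤ ‖(∑ i, ∑ j, (ε i j : ℂ) • h.η i j) g‖ := by
  classical
  choose m hm using fun i j => h.cycFam.exists_int i j (n := #W₁ * #W₂)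
    (MonoidHom.ext fun w => Units.ext (by
      rw [MonoidHom.pow_apply, Units.val_pow_eq_pow_val, pow_mul, hom_pow_card, one_pow]; rfl))
    (MonoidHom.ext fun w => Units.ext (by
      rw [MonoidHom.pow_apply, Units.val_pow_eq_pow_val, pow_mul', hom_pow_card, one_pow]; rfl)) hg
  have m1 : m 1 1 = 1 := by
    have := hm 1 1; simp only [h.cycFam.one] at this; exact_mod_cast this.symm
  have mi : ∀ i j, m i⁻¹ j⁻¹ = m i j := fun i j => by
    have := congrFun (h.cycFam.conjFun_eta i j) g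
    rw [conjFun_apply, hm, hm, map_intCast] at this
    exact_mod_cast this.symm
  have b : ((∑ w : (W₁ →* ℂˣ) × (W₂ →* ℂˣ), ε w.1 w.2 * m w.1 w.2 : ℤ) : ZMod 2) = 1 := by
    have e : ∀ i j, (ε i j : ZMod 2) = 1 := fun i j => by
      rcases hε i j with a | a <;> rw [a] <;> rfl
    push_cast
    simp only [e, one_mul]
    rw [← Finset.add_sum_erase _ _ (Finset.mem_univ (1, 1)), m1, Finset.sum_involution
      (fun w _ => (w.1⁻¹, w.2⁻¹)) (fun w _ => by rw [mi, CharTwo.add_self_eq_zero])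
      (fun w a _ c => Finset.ne_of_mem_erase a (Prod.ext
        (by_contra fun d => hom_inv_ne_self (mso_odd W₁) d (congrArg Prod.fst c))
        (by_contra fun d => hom_inv_ne_self (mso_odd W₂) d (congrArg Prod.snd c))))
      (fun w a => Finset.mem_erase.2 ⟨fun c => Finset.ne_of_mem_erase a (Prod.ext
        (hom_inv_eq_one.1 (congrArg Prod.fst c)) (hom_inv_eq_one.1 (congrArg Prod.snd c))),
        Finset.mem_univ _⟩) fun w _ => Prod.ext (hom_inv_inv _) (hom_inv_inv _)]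
    simp
  have c : (∑ i, ∑ j, (ε i j : ℂ) • h.η i j) g =
      (∑ w : (W₁ →* ℂˣ) × (W₂ →* ℂˣ), ε w.1 w.2 * m w.1 w.2 : ℤ) := by
    simp [Finset.sum_apply, hm, Fintype.sum_prod_type]
  rw [c, Complex.norm_intCast]
  exact_mod_cast Int.one_le_abs fun e => by simp [e] at b

end PD

/-- (14.11) -/
theorem PPair.MF_eq_V (h : PPair S T U V W₁ W₂) (hlt : #W₁ < #W₂)
    (hM : IsCoatom M) (hN : N[V] ≤ M) : MF[M] = V ∧ V.relIndex M = #W₂ * #W₁ := by
  classical
  obtain ⟨hF, b, c⟩ := h.symm.support (h.p2T hlt) hM hN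
  have q3 := h.hS.three_le₁
  have pq := odd_add_two_le (mso_odd _) (mso_odd _) hlt
  have cw := fun y => (card_cj y (W₂ ⊔ W₁)).trans h.hT.dp.card.symm
  have key : MF[M] = V := by
    by_contra ne
    obtain ⟨E, f, e1, e2⟩ : ∃ E, Frob MF[M] E M ∧ #W₂ ∣ #E ∧ #E ≤ #W₂ * #W₁ := by
      rcases c with c | ⟨y, -, c⟩
      · exact ⟨_, c, dvd_rfl, Nat.le_mul_of_pos_right _ (by omega)⟩
      · exact ⟨_, c, cw y ▸ dvd_mul_right _ _, (cw y).le⟩
    have k1 := card_mul_relIndex b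
    have k2 := le_of_modEq_one_of_odd (modEq_one_of_mul (h.hT.frob h.hT.U_ne_bot).modEq
      (k1 ▸ f.modEq.of_dvd e1)) (one_lt_relIndex fun c => ne (le_antisymm c b))
      ((mso_odd _).of_dvd_nat (relIndex_dvd _ _)) (mso_odd _)
    have k3 : 2 * #W₂ * #V + 1 ≤ #MF[M] := by nlinarith [card_pos V]
    have p0 : (0 : ℝ) < #W₂ := by exact_mod_cast card_pos W₂
    have k4 : (2 * #W₂ * #V + 1 : ℝ) ≤ #MF[M] := by exact_mod_cast k3
    have r : ((#V : ℝ) - 1) / #W₂ < ((#MF[M] : ℝ) - 1) / MF[M].relIndex M := by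
      have a1 : (#E : ℝ) ≤ #W₂ * #W₁ := by exact_mod_cast e2
      have a2 : (#W₁ : ℝ) < #W₂ := by exact_mod_cast hlt
      have a3 : (1 : ℝ) ≤ #V := by exact_mod_cast card_pos V
      rw [f.sd.relIndex_l, div_lt_div_iff₀ p0 (by exact_mod_cast card_pos E)]
      nlinarith [mul_le_mul_of_nonneg_left a1 (sub_nonneg.2 a3), mul_pos p0 p0,
        mul_le_mul_of_nonneg_left a2.le (mul_nonneg (sub_nonneg.2 a3) p0.le),
        mul_le_mul_of_nonneg_right k4 p0.le]
    obtain ⟨ν, hν⟩ := coh_of_frob hF f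
    obtain ⟨ψ, hψ, h1⟩ := exists_deg_index hM
    obtain ⟨e, ε, χ, hε, hχ, hβ⟩ := h.support_coh hF hν hψ h1 (f.sd.relIndex_l ▸ e2)
      ((h.ratio_lt hlt).trans r) r
    have I := ind1F hF hν
    have i := irr_of_frob f ψ hψ
    have a := I.le_nrm_invDade hψ i h1 f.two_mul_le
    have d := cover_ineq_one (dade_A1 hM) (hν.gen _ hψ).isClassFunction ((hν.nrm_eq hψ).trans i.nrm_eq)
    rw [I.ncard_div] at d
    rw [index_sub, e, card_sub (MF_le M)] at a d
    set B := ClS ((MF[S] : Set G) \ {1}) ∪ ClS ((MF[T] : Set G) \ {1}) ∪ ClS (Zhat W₁ W₂) with hB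
    have one : ∀ g, g ∉ Td M (A1 M) → g ∉ B → 1 ≤ ‖ν ψ g‖ := fun g g1 g2 => by
      have z : Zhat W₂ W₁ = Zhat W₁ W₂ := by rw [Zhat, sup_comm, Set.union_comm]; rfl
      have c1 : (orderOf g).Coprime (#W₁ * #W₂) := Nat.Coprime.mul_right
        (by_contra fun c => g2 ((mem_clS_of_not_coprime h.hT (h.p2T hlt)
          (h.hT.frobU (h.galoisT hlt).1) c).imp Or.inr (z ▸ id)))
        (by_contra fun c => g2 ((mem_clS_of_not_coprime h.hS (h.hS.p2_of_lt hlt)
          (h.hS.frobU (h.galoisS hlt)) c).imp Or.inl id))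
      have c2 := tau_of_notMem hM (Dade1.cl_beta hψ) (I.supp_beta hψ h1) g1
      have c3 := h.hS.one_le_sum_eta hε c1
      rw [hβ, Pi.sub_apply, sub_eq_zero] at c2
      rw [c2] at c3
      rcases hχ with rfl | rfl
      · exact c3
      · rwa [I.map_conj (mso_odd M) hψ i, Pi.neg_apply, norm_neg, conjFun_apply, RCLike.norm_conj] at c3
    have b1 : ((Finset.univ.filter (fun g => g ∉ Td M (A1 M))).card : ℝ) ≤
        ∑ g ∈ Finset.univ.filter (fun g => g ∉ Td M (A1 M)), ‖ν ψ g‖ ^ 2 + B.ncard := by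
      rw [Set.ncard_eq_toFinset_card', Finset.card_eq_sum_ones, Finset.card_eq_sum_ones,
        ← Set.filter_mem_univ_eq_toFinset, Finset.sum_filter, Finset.sum_filter, Finset.sum_filter]
      push_cast
      rw [← Finset.sum_add_distrib]
      refine Finset.sum_le_sum fun g _ => ?_
      split_ifs with g1 g2 g3
      · norm_num
      · norm_num
      · linarith [sq_nonneg ‖ν ψ g‖]
      · nlinarith [one g g1 g3]
    have b2 : (B.ncard : ℝ) ≤ (ClS ((MF[S] : Set G) \ {1})).ncard +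
        (ClS ((MF[T] : Set G) \ {1})).ncard + (ClS (Zhat W₁ W₂)).ncard := by
      exact_mod_cast (Set.ncard_union_le _ _).trans (Nat.add_le_add_right (Set.ncard_union_le _ _) _)
    have g0 : (0 : ℝ) ≤ (Nat.card G : ℝ)⁻¹ := by positivity
    have b3 := mul_le_mul_of_nonneg_left b2 g0
    have b4 := mul_le_mul_of_nonneg_left b1 g0
    rw [mul_add, mul_add, h.hS.ncard_clS_MF, h.hT.ncard_clS_MF, h.hS.ncard_clS_zhat] at b3
    have v1 : #W₂ * #W₁ ≤ #V := by
      have x := (h.galoisT hlt).2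
      have y := le_pow_sub_two q3 h.hS.three_le₂
      refine Nat.le_of_mul_le_mul_right (c := #W₁ - 1) ?_ (by omega)
      rw [x, mul_assoc, Nat.mul_sub_one, Nat.mul_sub, ← sq]
      have := Nat.mul_pos (card_pos W₂) (card_pos W₁)
      omega
    have := arith1411 (p := #W₂) (q := #W₁) (u := #U) (v := #V) (k := #MF[M]) (a := #MF[S])
      (b := #MF[T]) (by exact_mod_cast q3) (by exact_mod_cast pq)
      (by exact_mod_cast one_lt_card h.hS.U_ne_bot) (by exact_mod_cast v1) (by linarith)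
      (by exact_mod_cast card_pos _) (by exact_mod_cast card_pos _)
    push_cast at a d
    rw [mul_add] at b4
    rw [mul_sub] at d
    linarith
  refine ⟨key, ?_⟩
  rcases c with c | ⟨y, -, c⟩
  · have : T = M := coatom_eq' hM h.hT.max (by
      rw [← c.sd.sup, key]; exact sup_le h.hT.leU h.hT.le1)
    exact (hF.not_typeP (this ▸ h.hT.typeP)).elim
  · rw [← key, c.sd.relIndex_l, cw]

/-- (14.12) - (14.16) -/
theorem PPair.false_of_lt (h : PPair S T U V W₁ W₂) (hlt : #W₁ < #W₂) : False := by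
  classical
  obtain ⟨L, hL, hN⟩ := exists_coatom_N h.hS.U_ne_bot (ne_top_of_le h.hS.max h.hS.leU)
  obtain ⟨M, hM, hN'⟩ := exists_coatom_N h.hT.U_ne_bot (ne_top_of_le h.hT.max h.hT.leU)
  obtain ⟨hF, b, y, -, f⟩ := h.supportL hlt hL hN
  obtain ⟨k, e'⟩ := h.MF_eq_V hlt hM hN'
  have hF' := (h.symm.support (h.p2T hlt) hM hN').1
  obtain ⟨E, f'⟩ := exists_frob hF'
  have nn := h.not_norm hlt hL hN
  have nc : ¬ Cjg M L := by
    rintro ⟨g, rfl⟩
    have fT := h.hT.frobU (h.galoisT hlt).1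
    have := (fT.reg.zg (mso_odd _) fT.ne_l fT.sd.norm).cyc h.hT.nil
    rw [← k, ← cyc_cj (g := g), cj_MF] at this
    exact nn (this.norm_sub b (MF_norm _))
  have q3 := h.hS.three_le₁
  have pq := odd_add_two_le (mso_odd _) (mso_odd _) hlt
  have ce : #(cj y (W₁ ⊔ W₂)) = #W₁ * #W₂ := (card_cj _ _).trans h.hS.dp.card.symm
  have e : MF[L].relIndex L = #W₂ * #W₁ := by rw [f.sd.relIndex_l, ce, mul_comm]
  obtain ⟨ν, hν⟩ := coh_of_frob hF f
  obtain ⟨φ, hφ, h1⟩ := exists_deg_index hL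
  obtain ⟨ν', hν'⟩ := coh_of_frob hF' f'
  obtain ⟨ψ, hψ, h2⟩ := exists_deg_index hM
  have I := ind1F hF hν
  have I' := ind1F hF' hν'
  have i := irr_of_frob f
  have i' := irr_of_frob f'
  have dj := Td_A1_disjoint hM hL nc
  have w0 : 0 < #W₂ * #W₁ := Nat.mul_pos (card_pos _) (card_pos _)
  have cast : ∀ n : ℕ, 0 < n → ((n : ℝ) - 1) / (#W₂ * #W₁ : ℕ) ≤ (#W₂ * #W₁ : ℕ) - 1 →
      n - 1 ≤ (#W₂ * #W₁ - 1) * (#W₂ * #W₁) := fun n n0 a => by
    rw [div_le_iff₀ (by exact_mod_cast w0), ← Nat.cast_pred n0, ← Nat.cast_pred w0] at a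
    exact_mod_cast a
  have cs : #MF[L] - 1 ≤ (#W₂ * #W₁ - 1) * (#W₂ * #W₁) ∨ (#W₂ = 5 ∧ #W₁ = 3) ∧
      classInner (dade (A1 L) L (supportR L) (indFun (MF[L] ⇂ L) (fun _ => 1) - φ)) (ν' ψ) ≠ 0 := by
    refine (I'.nonorth I odd_G dj hψ (i' _ hψ) h2 hφ (i _ hφ) h1).imp (fun c => ?_) fun c => ⟨?_, c⟩
    · have := I'.le_of_nonorth I odd_G dj i' i hψ h2 hφ h1 f'.two_mul_le c
      rw [index_sub, index_sub, e, card_sub (MF_le L), k, e'] at this
      exact cast _ (card_pos _) this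
    · have := I.le_of_nonorth I' odd_G dj.symm i i' hφ h1 hψ h2 f.two_mul_le c
      rw [index_sub, index_sub, e, card_sub (MF_le M), k, e'] at this
      exact arith1414 q3 pq (mso_odd _) (mso_odd _) (h.galoisT hlt).2 (cast _ (card_pos _) this)
  have k1 := card_mul_relIndex b
  have ox : Odd (U.relIndex MF[L]) := (mso_odd _).of_dvd_nat (relIndex_dvd _ _)
  have m1 := (h.hS.frob h.hS.U_ne_bot).modEq
  have m2 := f.modEq
  rw [ce, ← k1] at m2
  have u1 : #U * (#W₂ - 1) = #W₂ ^ #W₁ - 1 := (h.hS.card_galois (h.galoisS hlt)).2 fun c => by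
    rcases cs with d | ⟨⟨d1, d2⟩, -⟩
    · exact (arith1415 q3 hlt (mso_odd _) (mso_odd _) ox c ((h.hS.card_galois (h.galoisS hlt)).1 c)
        m1 m2).not_ge (k1 ▸ d)
    · rw [d1, d2] at c; exact absurd c (by decide)
  have u0 := card_pos U
  have u2 : #U * #W₂ + 1 = #W₂ ^ #W₁ + #U := by
    have : 0 < #W₂ ^ #W₁ := pow_pos (by omega) _
    zify [this, show 1 ≤ #W₂ by omega] at u1 ⊢; linear_combination u1
  have m3 : #U ≡ 1 [MOD #W₂] := by
    refine ((Nat.modEq_iff_dvd' u0).2 ?_).symm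
    rw [show #U - 1 = #U * #W₂ - #W₂ ^ #W₁ by omega]
    exact Nat.dvd_sub (dvd_mul_left _ _) (dvd_pow_self _ (by omega))
  have x1 := le_of_modEq_one_of_odd (modEq_one_of_mul
    ((Nat.modEq_and_modEq_iff_modEq_mul h.hS.cop12).1 ⟨m1, m3⟩) m2)
    (one_lt_relIndex fun c => nn (le_antisymm c b ▸ MF_norm L)) ox ((mso_odd _).mul (mso_odd _))
  rcases cs with d | ⟨⟨d1, d2⟩, d⟩
  · have a1 : #W₂ ^ 3 ≤ #W₂ ^ #W₁ := Nat.pow_le_pow_right (by omega) q3
    have a2 : #W₂ * #W₂ ≤ #U := Nat.le_of_mul_le_mul_right (c := #W₂) (by nlinarith) (by omega)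
    have a3 : #W₂ * #W₁ ≤ #U := (Nat.mul_le_mul_left _ hlt.le).trans a2
    have a4 := Nat.mul_le_mul a3 x1
    rw [k1, mul_comm #W₁] at a4
    have a5 := Nat.mul_le_mul_right (#W₂ * #W₁) (Nat.sub_le (#W₂ * #W₁) 1)
    generalize #W₂ * #W₁ = n at *
    have : n * (2 * n + 1) ≤ n * n + 1 := by omega
    nlinarith
  · have v1 := (h.galoisT hlt).2
    rw [d1, d2] at v1 u2 x1
    have u3 : #U = 31 := by omega
    have v2 : #V = 121 := by omega
    have k2 : (961 : ℝ) ≤ #MF[L] := by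
      have : 961 ≤ #MF[L] := by rw [u3] at k1; omega
      exact_mod_cast this
    obtain ⟨-, ε, χ, -, hχ, hβ⟩ := h.support_coh hF hν hφ h1 e.le
      (by rw [e, u3, d1, d2]; push_cast; linarith) (by rw [e, v2, d1, d2]; push_cast; linarith)
    rw [(dade_A0 hL).dade_restrict (A1_A0 L) (fun _ a _ b => A1_conj a b) (Dade1.cl_beta hφ)
      (I.supp_beta hφ h1), hβ] at d
    have o := fun φ hφ => I.orth_of_disjoint I' odd_G dj.symm (χ := φ) hφ (i _ hφ) hψ (i' _ hψ)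
    have o' := fun i j => classInner_eq_zero_comm.1 (orth_eta_typeF h.hS hF' hν' hψ i j)
    refine d ?_
    rcases hχ with rfl | rfl <;>
      simp [classInner_sub_left, classInner_add_left, classInner_sum_left, classInner_smul_left, o',
        o φ hφ, o _ (conjFun_mem_inducedIrrAbove hφ)]

end Cfsg.Agent.BG

namespace Cfsg.Agent.PF

open Cfsg Cfsg.Agent.BG

/-- there is no minimal simple group of odd order -/
theorem not_minSimpleOdd {G : Type*} [Group G] [Finite G] (hG : IsMinSimpleOddOrder G) : False := by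
  have : MSO G := ⟨hG⟩
  have := Fintype.ofFinite G
  obtain ⟨S, T, U, V, W₁, W₂, h⟩ := exists_ppair (G := G)
  exact (lt_or_gt_of_ne h.hS.card_ne).elim h.false_of_lt h.symm.false_of_lt

end Cfsg.Agent.PF
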